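import Cfsg.Agent.Lib.GoldSC.Defs
import Cfsg.Agent.Lib.GoldSC.Spread
import Cfsg.Agent.Lib.S3Simple.Setup
import Cfsg.Agent.Lib.S3Simple.Dispatch

/-!
`|A| = 4`: first consequences, and the criterion in terms of a signalizer (C1 and the frame of C2 and C4).

Blueprint: `blueprint/Goldschmidt.md`, C.
-/

set_option autoImplicit false
set_option linter.unusedSectionVars false
set_option linter.style.haveILetI false

namespace CfsgLib.GoldSC

open Cfsg Subgroup CfsgLib CfsgLib.Comp CfsgLib.AfterFT.CoreSep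
open CfsgLib.S3Simple (Closed Irred oddSolv card_mul_le_of_disjoint)
open scoped commutatorElement

universe u

variable {G : Type u} [Group G] [Finite G] {S : Sylow 2 G} {A : Subgroup G}

theorem Hyp.cc_ne_top (h : Hyp G) {x : G} (hx : x ≠ 1) : cc x ≠ ⊤ := fun e => by
  haveI := h.simple
  have hc : x ∈ center G := mem_center_iff.mpr fun g => AfterFT.CoreSep.mem_cc.mp (e ▸ mem_top g)
  rcases (inferInstance : (center G).Normal).eq_bot_or_eq_top with h' | h'
  · exact hx (mem_bot.mp (h' ▸ hc))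
  · obtain ⟨T⟩ : Nonempty (Sylow 2 G) := inferInstance
    exact h.nonabel T ⟨⟨fun a b => Subtype.ext ((mem_center_iff (G := G) (z := (a : G))).mp (h' ▸ mem_top (a : G)) (b : G)).symm⟩⟩

theorem Hyp.commutator_eq_top (h : Hyp G) : commutator G = ⊤ := by
  haveI := h.simple
  refine ((inferInstance : (commutator G).Normal).eq_bot_or_eq_top).resolve_left fun e => ?_
  obtain ⟨T⟩ : Nonempty (Sylow 2 G) := inferInstance
  refine h.nonabel T ⟨⟨fun a b => Subtype.ext ?_⟩⟩
  have := commutator_mem_commutator (mem_top (a : G)) (mem_top (b : G))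
  rw [← commutator_def, e, mem_bot] at this
  exact commutatorElement_eq_one_iff_mul_comm.mp this

/-- The normaliser of `A` has no epimorphism to a group of order two. -/
theorem Hyp.focal (h : Hyp G) (hA : Closed S A) : CfsgLib.S3Simple.Focal A := by
  haveI : Fact (Nat.Prime 2) := ⟨Nat.prime_two⟩
  unfold CfsgLib.S3Simple.Focal
  set N := Subgroup.normalizer (A : Set G) with hN
  intro ψ
  have hSN := hA.le_normalizer
  have hS : (S : Subgroup G) ≤ ⁅N, N⁆ := fun s hs => by
    have := CfsgLib.TransferApps.commutator_inf_sylow_eq_of_control S N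
      (fun x hx g hg => hA.exists_normalizer_conj hx hg) hSN
    rw [h.commutator_eq_top, top_inf_eq] at this
    exact (this.le hs).1
  have hker : (S : Subgroup G).subgroupOf N ≤ ψ.ker := fun s hs => by
    have hc : (⁅N, N⁆).subgroupOf N ≤ commutator N := fun x hx => by
      obtain ⟨y, hy, he⟩ : (x : G) ∈ (commutator N).map N.subtype := by
        rw [commutator_def, Subgroup.map_commutator, ← MonoidHom.range_eq_map, Subgroup.range_subtype]
        exact hx
      rwa [← Subtype.ext he]
    exact Abelianization.commutator_subset_ker ψ (hc (hS hs))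
  refine MonoidHom.ext fun n => ?_
  show ψ n = 1
  by_contra hne
  have h2 : orderOf (ψ n) = 2 := orderOf_eq_prime (CfsgLib.S3Simple.sq_eq_one_zmod_two _) hne
  have hidx : ψ.ker.index ∣ ((S : Subgroup G).subgroupOf N).index := Subgroup.index_dvd_of_le hker
  have hodd : ¬ 2 ∣ ((S : Subgroup G).subgroupOf N).index := fun hd =>
    S.not_dvd_index (hd.trans (Subgroup.relIndex_dvd_index_of_le hSN))
  refine hodd (dvd_trans ?_ hidx)
  rw [Subgroup.index_ker]
  exact h2.symm.dvd.trans (Subgroup.orderOf_dvd_natCard _ ⟨n, rfl⟩)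

/-- An irreducible four-group is central in the Sylow subgroup. -/
theorem Hyp.four_central (h : Hyp G) (hA : Closed S A) (h4 : Nat.card A = 4) {s a : G}
    (hs : s ∈ (S : Subgroup G)) (ha : a ∈ A) : s * a = a * s := by
  classical
  haveI : Fact (Nat.Prime 2) := ⟨Nat.prime_two⟩
  set N := normalizer (A : Set G) with hN
  by_contra hne
  let act : N →* MulAut A := A.normalizerMonoidHom
  haveI : Fintype A := Fintype.ofFinite _
  let ψ : N →* ℤˣ := Equiv.Perm.sign.comp ((MulAut.toPerm A).comp act)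
  have hsN : s ∈ N := hA.le_normalizer hs
  set b : G := s * a * s⁻¹ with hb
  have hbA : b ∈ A := (mem_normalizer_iff.mp hsN a).mp ha
  have hba : b ≠ a := fun e => hne (mul_inv_eq_iff_eq_mul.mp e)
  have ha1 : a ≠ 1 := fun e => hne (by rw [e, mul_one, one_mul])
  have hb1 : b ≠ 1 := fun e => ha1 (by simpa [hb] using e)
  have hab1 : a * b ≠ 1 := fun e => hba ((mul_eq_one_iff_eq_inv.mp e).trans
    (inv_eq_of_mul_eq_one_right (hA.sq hbA))).symm
  -- the square of `s` fixes `a`
  have hsA : ∀ x ∈ A, x = 1 ∨ x = a ∨ x = b ∨ x = a * b := by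
    intro x hx
    by_contra hcon
    push Not at hcon
    have h5 : ({1, ⟨a, ha⟩, ⟨b, hbA⟩, ⟨a * b, mul_mem ha hbA⟩, ⟨x, hx⟩} : Finset A).card = 5 := by
      rw [Finset.card_insert_of_notMem, Finset.card_insert_of_notMem, Finset.card_insert_of_notMem,
        Finset.card_insert_of_notMem, Finset.card_singleton]
      all_goals simp only [Finset.mem_insert, Finset.mem_singleton, Subtype.ext_iff, Subgroup.coe_one, not_or]
      · exact Ne.symm hcon.2.2.2
      · refine ⟨fun e => ha1 ?_, Ne.symm hcon.2.2.1⟩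
        exact mul_eq_right.mp e.symm
      · refine ⟨Ne.symm hba, fun e => hb1 ?_, Ne.symm hcon.2.1⟩
        exact mul_eq_left.mp e.symm
      · exact ⟨Ne.symm ha1, Ne.symm hb1, Ne.symm hab1, Ne.symm hcon.1⟩
    have := Finset.card_le_univ ({1, ⟨a, ha⟩, ⟨b, hbA⟩, ⟨a * b, mul_mem ha hbA⟩, ⟨x, hx⟩} : Finset A)
    rw [h5, ← Nat.card_eq_fintype_card, h4] at this
    omega
  have hsb : s * b * s⁻¹ = a := by
    rcases hsA _ ((mem_normalizer_iff.mp hsN b).mp hbA) with e | e | e | e
    · exact absurd (conj_eq_one_iff.mp e) hb1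
    · exact e
    · exact absurd ((MulAut.conj s).injective (show MulAut.conj s b = MulAut.conj s a from e)) hba
    · -- an orbit of length three under a 2-element
      exfalso
      set c := a * b with hc
      have hsc : s * c * s⁻¹ = a :=
        calc s * c * s⁻¹ = s * a * s⁻¹ * (s * b * s⁻¹) := by rw [hc]; group
          _ = b * (a * b) := by rw [e]
          _ = a := by rw [← mul_assoc, hA.comm hbA ha, mul_assoc, hA.sq hbA, mul_one]
      obtain ⟨n, hn⟩ := S.2 ⟨s, hs⟩
      have hn' : s ^ 2 ^ n = 1 := congrArg Subtype.val hn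
      have h3 : ∀ m : ℕ, s ^ (3 * m) * a * (s ^ (3 * m))⁻¹ = a := by
        intro m
        induction m with
        | zero => simp
        | succ m ih =>
          calc s ^ (3 * (m + 1)) * a * (s ^ (3 * (m + 1)))⁻¹
              = s * (s * (s * (s ^ (3 * m) * a * (s ^ (3 * m))⁻¹) * s⁻¹) * s⁻¹) * s⁻¹ := by
                rw [show 3 * (m + 1) = 1 + (1 + (1 + 3 * m)) by omega, pow_add, pow_add, pow_add, pow_one]
                group
            _ = a := by rw [ih, ← hb, e, hsc]
      have hco : Nat.Coprime 3 (2 ^ n) := Nat.Coprime.pow_right n (by norm_num)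
      obtain ⟨m, hm⟩ := exists_pow_eq_self_of_coprime (hco.coprime_dvd_right (orderOf_dvd_of_pow_eq_one hn'))
      have := h3 m
      rw [pow_mul, hm, ← hb] at this
      exact hba this
  have hperm : (MulAut.toPerm A) (act ⟨s, hsN⟩) = Equiv.swap (⟨a, ha⟩ : A) ⟨b, hbA⟩ := by
    refine Equiv.ext fun x => Subtype.ext ?_
    show s * (x : G) * s⁻¹ = ((Equiv.swap (⟨a, ha⟩ : A) ⟨b, hbA⟩) x : G)
    rcases hsA x x.2 with e | e | e | e
    · rw [Equiv.swap_apply_of_ne_of_ne (fun e' => ha1 (by rw [← e, e'])) (fun e' => hb1 (by rw [← e, e'])), e]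
      group
    · rw [show x = ⟨a, ha⟩ from Subtype.ext e, Equiv.swap_apply_left]
    · rw [show x = ⟨b, hbA⟩ from Subtype.ext e, Equiv.swap_apply_right]
      exact hsb
    · rw [Equiv.swap_apply_of_ne_of_ne
        (fun e' => hb1 (mul_eq_left.mp (e.symm.trans (congrArg Subtype.val e'))))
        (fun e' => ha1 (mul_eq_right.mp (e.symm.trans (congrArg Subtype.val e')))), e,
        show s * (a * b) * s⁻¹ = s * a * s⁻¹ * (s * b * s⁻¹) by group, ← hb, hsb, hA.comm hbA ha]
  -- a sign homomorphism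
  obtain ⟨u, hu⟩ := CfsgLib.S3Simple.exists_units_hom
  have h1 := DFunLike.congr_fun (h.focal hA (u.comp ψ)) ⟨s, hsN⟩
  have h2 : ψ ⟨s, hsN⟩ = -1 := by
    show Equiv.Perm.sign ((MulAut.toPerm A) (act ⟨s, hsN⟩)) = -1
    rw [hperm, Equiv.Perm.sign_swap fun e => hba (congrArg Subtype.val e).symm]
  simp only [MonoidHom.comp_apply, MonoidHom.one_apply, h2] at h1
  exact hu h1

theorem Hyp.ne_top_of_odd (h : Hyp G) {W : Subgroup G} (hW : Odd (Nat.card W)) : W ≠ ⊤ := fun e => by
  obtain ⟨T⟩ : Nonempty (Sylow 2 G) := inferInstance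
  have h1 := h.eight_le T
  obtain ⟨n, hn⟩ := IsPGroup.iff_card.mp T.2
  have h2 : Odd (Nat.card (T : Subgroup G)) := hW.of_dvd_nat (card_dvd_of_le (e ▸ le_top))
  rw [hn] at h1 h2
  have : n = 0 := by
    by_contra h0
    exact Nat.not_odd_iff_even.mpr (even_two.pow_of_ne_zero h0) h2
  subst this
  omega

/-- The standing situation of C. -/
structure Ctx4 (S : Sylow 2 G) (A : Subgroup G) : Prop where
  hyp : Hyp G
  facts : Facts G
  closed : Closed S A
  irred : Irred A
  card : Nat.card A = 4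

namespace Ctx4

variable (H : Ctx4 S A)
include H

theorem comm {a b : G} (ha : a ∈ A) (hb : b ∈ A) : a * b = b * a := H.closed.comm ha hb

theorem sq {a : G} (ha : a ∈ A) : a * a = 1 := H.closed.sq ha

theorem le_S : A ≤ (S : Subgroup G) := H.closed.le

theorem central {s : G} (hs : s ∈ (S : Subgroup G)) {a : G} (ha : a ∈ A) : s * a = a * s :=
  H.hyp.four_central H.closed H.card hs ha

theorem S_le_centralizer : (S : Subgroup G) ≤ centralizer (A : Set G) := fun _ hs _ ha => (H.central hs ha).symm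

theorem le_cc {x : G} (hx : x ∈ (S : Subgroup G)) : A ≤ cc x := fun _ ha =>
  AfterFT.CoreSep.mem_cc.mpr (H.central hx ha).symm

theorem isPGroup : IsPGroup 2 A := S.2.to_le H.le_S

theorem not_moved {a : G} (ha : a ∈ A) (ha1 : a ≠ 1) {D : Subgroup (qq a)} (hD : IsComponent D) :
    ∀ α ∈ A, CentAt a D α := fun α hα h =>
  centralizes_of_not_moved (H.facts.central S A H.closed H.card a ha ha1 D hD) α hα h

/-- The conjugates of a non-identity element of `A` under `N(A)` are all of them. -/
theorem exists_map {a b : G} (ha : a ∈ A) (ha1 : a ≠ 1) (hb : b ∈ A) (hb1 : b ≠ 1) :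
    ∃ n ∈ Subgroup.normalizer (A : Set G), n * a * n⁻¹ = b := by
  classical
  set N := Subgroup.normalizer (A : Set G)
  letI : MulAction N G := MulAction.compHom G ((MulAut.conj (G := G)).comp N.subtype)
  have hsmul : ∀ (n : N) (x : G), n • x = (n : G) * x * (n : G)⁻¹ := fun _ _ => rfl
  set O := MulAction.orbit N a
  have hsub : O ⊆ (A : Set G) \ {1} := by
    rintro _ ⟨n, rfl⟩
    refine ⟨(Subgroup.mem_normalizer_iff.mp n.2 a).mp ha, fun e => ha1 ?_⟩
    rw [Set.mem_singleton_iff] at e
    exact conj_eq_one_iff.mp e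
  have hA3 : ((A : Set G) \ {1}).ncard = 3 := by
    rw [Set.ncard_sdiff_singleton_of_mem (one_mem A), ← Nat.card_coe_set_eq]
    show Nat.card A - 1 = 3
    rw [H.card]
  suffices hO3 : O.ncard = 3 by
    have hfull : O = (A : Set G) \ {1} := Set.eq_of_subset_of_ncard_le hsub (by rw [hA3, hO3]) (Set.toFinite _)
    obtain ⟨n, hn⟩ : b ∈ O := hfull ▸ ⟨hb, hb1⟩
    exact ⟨n, n.2, hn⟩
  have hle : O.ncard ≤ 3 := (Set.ncard_le_ncard hsub).trans hA3.le
  have hodd : ¬ 2 ∣ O.ncard := by
    rw [← MulAction.index_stabilizer]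
    intro hd
    have hle' : (S : Subgroup G).subgroupOf N ≤ MulAction.stabilizer N a := fun s hs => by
      show s • a = a
      rw [hsmul]
      exact mul_inv_eq_iff_eq_mul.mpr (H.central hs ha)
    refine S.not_dvd_index (hd.trans ((Subgroup.index_dvd_of_le hle').trans ?_))
    exact Subgroup.relIndex_dvd_index_of_le H.closed.le_normalizer
  have hne1 : O.ncard ≠ 1 := by
    intro h1
    obtain ⟨w, hw⟩ := Set.ncard_eq_one.mp h1
    have hfix : ∀ g ∈ N, g * a * g⁻¹ = a := fun g hg => by
      have h2 : (⟨g, hg⟩ : N) • a ∈ O := MulAction.mem_orbit _ _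
      have h3 : a ∈ O := MulAction.mem_orbit_self _
      rw [hw, Set.mem_singleton_iff] at h2 h3
      exact h2.trans h3.symm
    rcases H.irred (Subgroup.zpowers a) (Subgroup.zpowers_le.mpr ha) (fun g hg x hx => by
      obtain ⟨k, rfl⟩ := Subgroup.mem_zpowers_iff.mp hx
      rw [← conj_zpow, hfix g hg]
      exact Subgroup.zpow_mem_zpowers a k) with h | h
    · exact ha1 (Subgroup.zpowers_eq_bot.mp h)
    · have := H.card
      rw [← h, Nat.card_zpowers, H.closed.orderOf_eq_two ha ha1] at this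
      omega
  interval_cases h : O.ncard <;> first | rfl | omega

/-- Such an element can be chosen normalising `S`. -/
theorem exists_map_S {a b : G} (ha : a ∈ A) (ha1 : a ≠ 1) (hb : b ∈ A) (hb1 : b ≠ 1) :
    ∃ n ∈ Subgroup.normalizer (A : Set G), n ∈ Subgroup.normalizer ((S : Subgroup G) : Set G) ∧ n * a * n⁻¹ = b := by
  haveI : Fact (Nat.Prime 2) := ⟨Nat.prime_two⟩
  obtain ⟨n, hn, he⟩ := H.exists_map ha ha1 hb hb1
  set C := Subgroup.centralizer (A : Set G) with hC
  have hSC : (S : Subgroup G) ≤ C := H.S_le_centralizer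
  have hSnC : (S : Subgroup G).map (MulAut.conj n).toMonoidHom ≤ C := by
    rintro _ ⟨s, hs, rfl⟩ x hx
    show x * (n * s * n⁻¹) = n * s * n⁻¹ * x
    have h := hSC hs (n⁻¹ * x * n) ((Subgroup.mem_normalizer_iff''.mp hn x).mp hx)
    calc x * (n * s * n⁻¹) = n * ((n⁻¹ * x * n) * s) * n⁻¹ := by group
      _ = n * (s * (n⁻¹ * x * n)) * n⁻¹ := by rw [h]
      _ = n * s * n⁻¹ * x := by group
  let T : Sylow 2 C := S.subtype hSC
  have hp : IsPGroup 2 (((S : Subgroup G).map (MulAut.conj n).toMonoidHom).subgroupOf C) :=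
    (S.2.map _).comap_subtype
  obtain ⟨U, hU⟩ := hp.exists_le_sylow
  obtain ⟨c, hc⟩ := MulAction.exists_smul_eq C U T
  refine ⟨(c : G) * n, mul_mem (CfsgLib.Bender.TwoClosed.mem_normalizer_of_conj fun x hx => by
    rw [← c.2 x hx, mul_inv_cancel_right]; exact hx) hn,
    CfsgLib.Bender.TwoClosed.mem_normalizer_of_conj fun s hs => ?_, ?_⟩
  · have h2 : (⟨n * s * n⁻¹, hSnC ⟨s, hs, rfl⟩⟩ : C) ∈ (U : Subgroup C) := hU ⟨s, hs, rfl⟩
    have h3 := Subgroup.smul_mem_pointwise_smul _ (MulAut.conj c) _ h2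
    rw [← Sylow.coe_subgroup_smul, hc] at h3
    show (c : G) * n * s * ((c : G) * n)⁻¹ ∈ (S : Subgroup G)
    rw [show (c : G) * n * s * ((c : G) * n)⁻¹ = c * (n * s * n⁻¹) * (c : G)⁻¹ by group]
    exact h3
  · calc (c : G) * n * a * ((c : G) * n)⁻¹ = c * (n * a * n⁻¹) * (c : G)⁻¹ := by group
      _ = b := by rw [he, ← c.2 b hb, mul_inv_cancel_right]

/-- A signalizer for a family of fours that meet every hyperplane is trivial. -/
theorem sigW_eq_bot {E : Subgroup G} {ι : Type} {F : ι → Subgroup G} (P : Spread E F) (hAE : A ≤ E) :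
    sigW E F = ⊥ := by
  by_contra hne
  refine H.facts.false_of_normalizer H.hyp H.closed H.card
    (H.hyp.normalizer_ne_top hne (H.hyp.ne_top_of_odd P.odd_sigW)) (hAE.trans P.le_normalizer_sigW)
    fun a ha _ => P.core_le_normalizer (hAE ha)

end Ctx4

end CfsgLib.GoldSC
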