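import Cfsg.Agent.Lib.PSU3Min.Main
import Cfsg.Prelude.Def_Involutions

/-!
A simple `PSU₃(2^n)` has a strongly embedded subgroup: the Borel subgroup.

Blueprint: `blueprint/Goldschmidt.md`, C3.
-/

set_option autoImplicit false
set_option linter.unusedSectionVars false
set_option linter.style.haveILetI false

namespace CfsgLib.GoldSC

open Cfsg CfsgLib.PSU3Min CfsgLib.PSUBorel

universe u

theorem psu_even_stronglyEmbedded {G : Type u} [Group G] [Finite G] [IsSimpleGroup G] (hG : ¬ IsMulCommutative G)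
    {F : Type*} [Field F] [Fintype F] [CharP F 2] {q : ℕ} (hF : Fintype.card F = q ^ 2)
    (e : G ≃* Cfsg.PSU 3 F q) : ∃ H : Subgroup G, IsStronglyEmbedded H := by
  classical
  haveI : Fact (Nat.Prime 2) := ⟨Nat.prime_two⟩
  obtain ⟨-, σ, hσ⟩ := CfsgLib.UnitaryBasic.frob_exists hF
  obtain ⟨c, rfl⟩ : ∃ c : Conj F, c.q = q := ⟨⟨q, σ, hF, hσ⟩, rfl⟩
  obtain ⟨E⟩ := exists_iso c (n := 3)
  let φ : SUs c 3 →* G := (e.symm.toMonoidHom.comp (QuotientGroup.mk' _)).comp E.toMonoidHom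
  have hφ : Function.Surjective φ :=
    (e.symm.surjective.comp (QuotientGroup.mk'_surjective _)).comp E.surjective
  have hker : φ.ker ≤ BG c := by
    intro x hx
    refine center_le_BG c (Subgroup.mem_center_iff.mpr fun y => E.injective ?_)
    have h1 : e.symm (QuotientGroup.mk' _ (E x)) = 1 := hx
    have h2 := e.symm.injective (h1.trans (map_one _).symm)
    rw [QuotientGroup.mk'_apply, QuotientGroup.eq_one_iff, Subgroup.mem_center_iff] at h2
    rw [map_mul, map_mul]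
    exact h2 _
  have hmem : ∀ {x}, φ x ∈ (BG c).map φ → x ∈ BG c := fun {x} ⟨b, hb, hbe⟩ => by
    have h1 : b⁻¹ * x ∈ BG c := hker (by rw [MonoidHom.mem_ker, map_mul, map_inv, hbe, inv_mul_cancel])
    simpa using mul_mem hb h1
  -- the image of the radical
  have hU2 : IsPGroup 2 ((UG c).map φ) := (isPGroup_UU c 2).map φ
  obtain ⟨u0, hu0, hu01⟩ : ∃ u ∈ UG c, u ≠ 1 := by
    refine (UG c).bot_or_exists_ne_one.resolve_left fun h => ?_
    have := card_UG c 2
    rw [h, Subgroup.card_bot] at this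
    have hq := c.one_lt
    have := Nat.one_lt_pow (three_ne_zero : (3:ℕ) ≠ 0) hq
    omega
  obtain ⟨k0, hk0⟩ := exists_ppow c 2 hu0
  -- a 2-element in the kernel is trivial on the radical
  have hpu : φ u0 ≠ 1 := by
    intro h
    have h' : e.symm (QuotientGroup.mk' _ (E u0)) = 1 := h
    have h2 := e.symm.injective (h'.trans (map_one _).symm)
    rw [QuotientGroup.mk'_apply, QuotientGroup.eq_one_iff] at h2
    have hz : u0 ∈ Subgroup.center (SUs c 3) := Subgroup.mem_center_iff.mpr fun y => E.injective (by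
      rw [map_mul, map_mul]; exact Subgroup.mem_center_iff.mp h2 _)
    have h3 : orderOf u0 ∣ Nat.card (Subgroup.center (SUs c 3)) := by
      rw [← Subgroup.orderOf_mk _ hz]
      exact orderOf_dvd_natCard _
    obtain ⟨i, -, hi⟩ := (Nat.dvd_prime_pow Nat.prime_two).mp (orderOf_dvd_of_pow_eq_one hk0)
    have h4 : 2 ^ i ∣ 3 := hi ▸ h3.trans (card_center c).1
    obtain rfl : i = 0 := by
      by_contra h0
      exact absurd ((dvd_pow_self 2 h0).trans h4) (by norm_num)
    rw [pow_zero, orderOf_eq_one_iff] at hi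
    exact hu01 hi
  refine ⟨(BG c).map φ, fun htop => ?_, ?_, fun g hg => ?_⟩
  · -- the radical would be normal
    have hn : ((UG c).map φ).Normal := ⟨fun w hw g => by
      obtain ⟨u, hu, rfl⟩ := hw
      obtain ⟨y, rfl⟩ := hφ g
      refine ⟨y * u * y⁻¹, conj_UG c ?_ hu, by rw [map_mul, map_mul, map_inv]⟩
      exact hmem (htop ▸ Subgroup.mem_top (φ y))⟩
    rcases hn.eq_bot_or_eq_top with h | h
    · exact hpu (Subgroup.mem_bot.mp (h ▸ ⟨u0, hu0, rfl⟩))
    · have hp : IsPGroup 2 G := hU2.of_equiv ((MulEquiv.subgroupCongr h).trans Subgroup.topEquiv)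
      haveI := hp.isNilpotent
      exact hG ⟨⟨fun a b => IsSimpleGroup.comm_iff_isSolvable.mpr inferInstance a b⟩⟩
  · rw [even_iff_two_dvd]
    obtain ⟨i, -, hi⟩ := (Nat.dvd_prime_pow Nat.prime_two).mp
      (orderOf_dvd_of_pow_eq_one (show φ u0 ^ 2 ^ k0 = 1 by rw [← map_pow, hk0, map_one]))
    have hm : φ u0 ∈ (BG c).map φ := ⟨u0, UG_le c hu0, rfl⟩
    have h1 : orderOf (φ u0) ∣ Nat.card ((BG c).map φ) := by
      rw [← Subgroup.orderOf_mk _ hm]
      exact orderOf_dvd_natCard _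
    refine dvd_trans ?_ (hi ▸ h1)
    refine dvd_pow_self 2 fun h0 => hpu ?_
    rw [h0, pow_zero, orderOf_eq_one_iff] at hi
    exact hi
  · rw [Nat.odd_iff, ← Nat.two_dvd_ne_zero]
    intro h2
    obtain ⟨⟨t, ht⟩, ho⟩ := exists_prime_orderOf_dvd_card' 2 h2
    rw [Subgroup.orderOf_mk] at ho
    obtain ⟨⟨x, hx, rfl⟩, ⟨w, ⟨z, hz, rfl⟩, hw⟩⟩ := ht
    obtain ⟨y, rfl⟩ := hφ g
    have hy : y ∉ BG c := fun h => hg ⟨y, h, rfl⟩
    -- the 2-part of `x`
    obtain ⟨k, m, hm, hkm⟩ := Nat.exists_eq_pow_mul_and_not_dvd (orderOf_pos x).ne' 2 (by norm_num)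
    have hx2 : (x ^ m) ^ 2 ^ k = 1 := by rw [← pow_mul, mul_comm, ← hkm, pow_orderOf_eq_one]
    have hne : x ^ m ≠ 1 := fun h => by
      have h' : φ x ^ m = 1 := by rw [← map_pow, h, map_one]
      exact hm (ho ▸ orderOf_dvd_of_pow_eq_one h')
    have hU : x ^ m ∈ UG c := mem_UG_of_ppow c 2 (pow_mem hx m) hx2
    have hxy : y⁻¹ * x * y ∈ BG c := by
      refine hmem ⟨z, hz, ?_⟩
      rw [map_mul, map_mul, map_inv, ← hw]
      show φ z = (φ y)⁻¹ * (φ y * φ z * (φ y)⁻¹) * φ y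
      group
    refine hy (ti c hU hne (mem_UG_of_ppow c 2 (k := k) ?_ ?_))
    · rw [show y⁻¹ * x ^ m * y = (y⁻¹ * x * y) ^ m by
        have := conj_pow (a := y⁻¹) (b := x) (i := m)
        rw [inv_inv] at this
        exact this.symm]
      exact pow_mem hxy m
    · have := conj_pow (a := y⁻¹) (b := x ^ m) (i := 2 ^ k)
      rw [inv_inv] at this
      rw [this, hx2, mul_one, inv_mul_cancel]

end CfsgLib.GoldSC
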