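import Cfsg.Agent.Lib.GoldSC.Four.Basic
import Cfsg.Agent.Lib.GoldSC.Four.U3
import Cfsg.Agent.S0516
import Cfsg.Agent.S0486
import Cfsg.Prelude.Def_CaseTheorems

/-!
C3, first case: all involutions of `S` lie in `A`, so `G ≅ U₃(4)`, which has a strongly embedded subgroup.

Blueprint: `blueprint/Goldschmidt.md`, C3.
-/

set_option autoImplicit false
set_option linter.unusedSectionVars false
set_option linter.style.haveILetI false

namespace CfsgLib.GoldSC

open Cfsg Subgroup
open CfsgLib.S3Simple (Closed)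

universe u

variable {G : Type u} [Group G] [Finite G] {S : Sylow 2 G} {A : Subgroup G}

/-- A central involution of a dihedral group of order more than four is unique. -/
theorem dihedral_central {n : ℕ} (hn : 3 ≤ n) {p q : DihedralGroup n} (hp : p * p = 1) (hq : q * q = 1)
    (hpc : ∀ g, p * g = g * p) (hqc : ∀ g, q * g = g * q) (hp1 : p ≠ 1) (hq1 : q ≠ 1) : p = q := by
  haveI : NeZero n := ⟨by omega⟩
  have key : ∀ w : DihedralGroup n, w * w = 1 → (∀ g, w * g = g * w) → w ≠ 1 →
      ∃ i : ZMod n, w = DihedralGroup.r i ∧ i + i = 0 ∧ i ≠ 0 := by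
    intro w hw hc h1
    cases w with
    | r i =>
      rw [DihedralGroup.r_mul_r, DihedralGroup.one_def] at hw
      exact ⟨i, rfl, DihedralGroup.r.inj hw, fun e => h1 (by rw [e]; rfl)⟩
    | sr i =>
      exfalso
      have h := hc (DihedralGroup.r 1)
      rw [DihedralGroup.sr_mul_r, DihedralGroup.r_mul_sr] at h
      have h2 : ((2 : ℕ) : ZMod n) = 0 := by
        have := DihedralGroup.sr.inj h
        push_cast
        linear_combination this
      have := Nat.le_of_dvd two_pos ((ZMod.natCast_eq_zero_iff 2 n).mp h2)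
      omega
  obtain ⟨i, rfl, hi, hi0⟩ := key p hp hpc hp1
  obtain ⟨j, rfl, hj, hj0⟩ := key q hq hqc hq1
  congr 1
  have val : ∀ k : ZMod n, k + k = 0 → k ≠ 0 → 2 * k.val = n := by
    intro k hk hk0
    have h1 : k.val ≠ 0 := fun e => hk0 ((ZMod.val_eq_zero k).mp e)
    have h2 := ZMod.val_lt k
    have h3 : n ∣ k.val + k.val := by
      rw [← ZMod.natCast_eq_zero_iff]
      push_cast
      rw [ZMod.natCast_zmod_val, hk]
    obtain ⟨c, hc⟩ := h3
    rcases c with - | - | c
    · omega
    · omega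
    · nlinarith
  refine ZMod.val_injective n ?_
  have := val i hi hi0
  have := val j hj hj0
  omega

/-- Not all involutions of `S` lie in `A`. -/
theorem Ctx4.exists_outside (H : Ctx4 S A) : ∃ d ∈ (S : Subgroup G), d * d = 1 ∧ d ∉ A := by
  classical
  haveI : Fact (Nat.Prime 2) := ⟨Nat.prime_two⟩
  haveI := H.hyp.simple
  by_contra hcon
  push Not at hcon
  have hG : ¬ IsMulCommutative G := fun h => H.hyp.nonabel S ⟨⟨fun a b => Subtype.ext (h.is_comm.comm (a : G) b)⟩⟩
  -- the rank
  have hrank : PRankLE 2 2 G := by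
    intro B hB hB2
    obtain ⟨P, hP⟩ := (show IsPGroup 2 B from fun b => ⟨1, Subtype.ext (hB2 b b.2)⟩).exists_le_sylow
    obtain ⟨g, hg⟩ := MulAction.exists_smul_eq G P S
    have hle : B.map (MulAut.conj g).toMonoidHom ≤ A := by
      rintro _ ⟨b, hb, rfl⟩
      refine hcon _ ?_ ?_
      · rw [← hg, Sylow.coe_subgroup_smul]
        exact smul_mem_pointwise_smul b (MulAut.conj g) _ (hP hb)
      · show g * b * g⁻¹ * (g * b * g⁻¹) = 1
        have : b * b = 1 := by rw [← pow_two]; exact hB2 b hb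
        rw [show g * b * g⁻¹ * (g * b * g⁻¹) = g * (b * b) * g⁻¹ by group, this, mul_one, mul_inv_cancel]
    have h1 := Nat.card_le_card_of_injective _ (inclusion_injective hle)
    rw [card_map_of_injective (MulAut.conj g).injective, H.card] at h1
    exact h1
  haveI : Fintype (GaloisField 2 4) := Fintype.ofFinite _
  have hF : Fintype.card (GaloisField 2 4) = 16 := by
    rw [← Nat.card_eq_fintype_card, GaloisField.card 2 4 (by norm_num)]
    norm_num
  let P : Sylow 2 (Cfsg.PSU 3 (GaloisField 2 4) 4) := default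
  have hcen : ∀ (a : G) (ha : a ∈ A) (s : (S : Subgroup G)),
      (⟨a, H.le_S ha⟩ : (S : Subgroup G)) * s = s * ⟨a, H.le_S ha⟩ :=
    fun a ha s => Subtype.ext (H.central s.2 ha).symm
  have hinv : ∀ w : (S : Subgroup G), w * w = 1 → (w : G) ∈ A := fun w hw =>
    hcon w w.2 (congrArg Subtype.val hw)
  have hcenw : ∀ w : (S : Subgroup G), w * w = 1 → ∀ s, w * s = s * w := fun w hw s =>
    Subtype.ext (H.central s.2 (hinv w hw)).symm
  rcases Cfsg.Agent.S0516.result hG hrank S hF P with ⟨n, hn, ⟨e⟩⟩ | hq | hw | he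
  · -- dihedral
    have h8 := H.hyp.eight_le S
    rw [Nat.card_congr e.toEquiv, DihedralGroup.nat_card] at h8
    obtain ⟨a, ha, ha1⟩ := A.bot_or_exists_ne_one.resolve_left H.closed.ne_bot
    obtain ⟨b, hb, hb1, hba⟩ : ∃ b ∈ A, b ≠ 1 ∧ b ≠ a := by
      by_contra hh
      push Not at hh
      have h2 : (A : Set G) ⊆ ({1, a} : Set G) := fun w hw => by
        by_cases e : w = 1
        · exact Or.inl e
        · exact Or.inr (hh w hw e)
      have := Set.ncard_le_ncard h2 (Set.toFinite _)
      have h3 := Set.ncard_insert_le (1 : G) ({a} : Set G)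
      rw [Set.ncard_singleton] at h3
      rw [← Nat.card_coe_set_eq] at this
      have h4 : Nat.card A ≤ 2 := this.trans h3
      rw [H.card] at h4
      omega
    have key : ∀ w (hw : w ∈ A), e ⟨w, H.le_S hw⟩ * e ⟨w, H.le_S hw⟩ = 1 ∧
        ∀ g, e ⟨w, H.le_S hw⟩ * g = g * e ⟨w, H.le_S hw⟩ := fun w hw => by
      refine ⟨?_, fun g => ?_⟩
      · rw [← map_mul, show (⟨w, H.le_S hw⟩ : (S : Subgroup G)) * ⟨w, H.le_S hw⟩ = 1 from Subtype.ext (H.sq hw),
          map_one]
      · obtain ⟨s, rfl⟩ := e.surjective g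
        rw [← map_mul, ← map_mul, hcen w hw s]
    refine hba (congrArg Subtype.val (e.injective (dihedral_central (by omega) (key b hb).1 (key a ha).1
      (key b hb).2 (key a ha).2 ?_ ?_)))
    · exact fun h => hb1 (congrArg Subtype.val (e.injective (h.trans (map_one e).symm)))
    · exact fun h => ha1 (congrArg Subtype.val (e.injective (h.trans (map_one e).symm)))
  · -- quasi-dihedral
    obtain ⟨n, hn, -, x, y, hx, hy, hyx⟩ := hq
    have hy2 : y * y = 1 := by
      have h := pow_orderOf_eq_one y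
      rwa [hy, pow_two] at h
    rw [hcenw y hy2 x, mul_inv_cancel_right] at hyx
    have h1 : x ^ (2 ^ (n - 1) - 1 - 1) = 1 := by
      refine mul_right_cancel (b := x) ?_
      have h2 : 2 ≤ 2 ^ (n - 1) := Nat.le_self_pow (by omega) 2
      rw [← pow_succ, show 2 ^ (n - 1) - 1 - 1 + 1 = 2 ^ (n - 1) - 1 by omega, ← hyx, one_mul]
    have h3 := orderOf_dvd_of_pow_eq_one h1
    rw [hx] at h3
    have h4 : 2 ^ n = 2 ^ (n - 1) * 2 := by rw [← pow_succ]; congr 1; omega
    have h5 : 2 ^ 2 ≤ 2 ^ (n - 1) := Nat.pow_le_pow_right two_pos (by omega)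
    have := Nat.le_of_dvd (by omega) h3
    omega
  · -- wreathed
    obtain ⟨n, hn, -, x, y, z, hx, -, hdis, hz, hzx⟩ := hw
    have hz2 : z * z = 1 := by
      have h := pow_orderOf_eq_one z
      rwa [hz, pow_two] at h
    rw [hcenw z hz2 x, mul_inv_cancel_right] at hzx
    subst hzx
    rw [inf_idem, zpowers_eq_bot] at hdis
    rw [hdis, orderOf_one] at hx
    exact absurd hx.symm (Nat.one_lt_pow (by omega) (by norm_num)).ne'
  · obtain ⟨e⟩ := Cfsg.Agent.S0486.result hF S P he
    haveI : CharP (GaloisField 2 4) 2 := inferInstance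
    obtain ⟨M, hM⟩ := psu_even_stronglyEmbedded hG (q := 4) (by rw [hF]; norm_num) e
    exact H.hyp.noSE M hM

end CfsgLib.GoldSC
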