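import Cfsg.Agent.Lib.GoldSC.Four.Basic

/-!
C1: every coset of `A` made of involutions of the Sylow subgroup has a blocked element.

Blueprint: `blueprint/Goldschmidt.md`, C1.
-/

set_option autoImplicit false
set_option linter.unusedSectionVars false
set_option linter.style.haveILetI false

namespace CfsgLib.GoldSC

open Cfsg Subgroup CfsgLib CfsgLib.Comp CfsgLib.AfterFT.CoreSep
open CfsgLib.Signalizer (ea_comm)
open CfsgLib.S3Simple (Closed Irred oddSolv card_mul_le_of_disjoint)
open scoped commutatorElement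

universe u

variable {G : Type u} [Group G] [Finite G] {S : Sylow 2 G} {A : Subgroup G}

theorem ff_self_central (x : G) (hx : x ∈ cc x) : ∀ g : qq x, g * ff x ⟨x, hx⟩ = ff x ⟨x, hx⟩ * g := fun g => by
  obtain ⟨g', rfl⟩ := bar_surjective 2 g
  rw [← map_mul, ← map_mul]
  exact congrArg (ff x) (Subtype.ext (AfterFT.CoreSep.mem_cc.mp g'.2))

theorem ff_eq_one {x g : G} (hg : g ∈ cc x) (h : g ∈ centralizerPPrimeCore 2 x) : ff x ⟨g, hg⟩ = 1 := by
  obtain ⟨w, hw, e⟩ := h
  rw [show (⟨g, hg⟩ : ↥(cc x)) = w from Subtype.ext e.symm]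
  exact (QuotientGroup.eq_one_iff w).mpr hw

/-- An element of odd order and a 2-element are not equal. -/
theorem ne_one_imQ {x a : G} (ha2 : a * a = 1) (ha1 : a ≠ 1) (hax : a ∈ cc x) : ff x ⟨a, hax⟩ ≠ 1 := fun e => by
  have ho : Odd (orderOf (⟨a, hax⟩ : ↥(cc x))) :=
    (Nat.coprime_two_right.mp (card_pPrimeCore_coprime 2)).of_dvd_nat
      (Subgroup.orderOf_dvd_natCard _ ((QuotientGroup.eq_one_iff _).mp e))
  rw [Subgroup.orderOf_mk, orderOf_eq_prime (p := 2) (by rw [pow_two]; exact ha2) ha1] at ho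
  exact Nat.not_odd_iff_even.mpr even_two ho

/-- A blocked involution. -/
structure Blk (S : Sylow 2 G) (A : Subgroup G) (x : G) (D : Subgroup (qq x)) : Prop where
  at_ : At S A x D
  big : Big ↥D

namespace Ctx4

variable (H : Ctx4 S A)
include H

/-- A four-group is a `Four` of every elementary group over it. -/
theorem four {E : Subgroup G} (hE : IsElementaryAbelian 2 E) (hAE : A ≤ E) : Four E A :=
  ⟨hE, hAE, H.card, fun _ hy hy1 _ hD => Or.inl (H.not_moved hy hy1 hD)⟩

/-- What centralises the image of `A` normalises the component it moves. -/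
theorem normalizes {x : G} {D : Subgroup (qq x)} (hAt : At S A x D) {t : qq x}
    (ht : ∀ v ∈ imQ A x, t * v = v * t) : t ∈ normalizer (D : Set (qq x)) := by
  refine CfsgLib.S3Simple.mem_normalizer_of_map_eq ?_
  refine (H.facts.unique S A x D _ hAt ⟨hAt.closed, hAt.card, hAt.ne, hAt.sq, hAt.le,
    isComponent_map_equiv (MulAut.conj t) hAt.comp, ?_⟩).symm
  obtain ⟨a, ha, h, hc⟩ := hAt.moved
  refine ⟨a, ha, h, fun hc' => hc fun d hd => ?_⟩
  have h1 : t * ff x ⟨a, h⟩ * t⁻¹ = ff x ⟨a, h⟩ := by rw [ht _ (mem_imQ ha h), mul_inv_cancel_right]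
  have h2 := hc' _ ⟨d, hd, rfl⟩
  refine (MulAut.conj t).injective ?_
  simp only [map_mul, MulAut.conj_apply] at h2 ⊢
  rw [h1]
  exact h2

/-- The cores at the involutions centralising `A` centralise the components that are not blocked. -/
theorem cent_of_not_big {x : G} {D : Subgroup (qq x)} (hAt : At S A x D) (hb : ¬ Big ↥D) {a : G}
    (ha : a ∈ cc x) (ha2 : a * a = 1) (haA : ∀ α ∈ A, a * α = α * a) :
    ∀ w ∈ centralizerPPrimeCore 2 a, CentAt x D w := by
  intro w hw hwx
  by_cases hc : ff x ⟨a, ha⟩ ∈ centralizer (D : Set (qq x))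
  · exact CfsgLib.S3Simple.core_centralizes_component ha ha2 hw hwx hAt.comp hc
  have hcA : ∀ v ∈ imQ A x, ff x ⟨a, ha⟩ * v = v * ff x ⟨a, ha⟩ := by
    rintro _ ⟨α, hα, rfl⟩
    rw [← map_mul, ← map_mul]
    exact congrArg (ff x) (Subtype.ext (haA _ hα))
  exact H.facts.coreless S A x D hAt hb _
    (by rw [← map_mul, show (⟨a, ha⟩ : ↥(cc x)) * ⟨a, ha⟩ = 1 from Subtype.ext ha2, map_one])
    (H.normalizes hAt hcA) hcA hc (image_core ha ha2 ⟨w, hwx⟩ hw)

/-- C1. -/
theorem exists_blk {d : G} (hd : d ∈ (S : Subgroup G)) (hd2 : d * d = 1) (hdA : d ∉ A) :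
    ∃ c ∈ A, ∃ D : Subgroup (qq (d * c)), Blk S A (d * c) D := by
  classical
  haveI : Fact (Nat.Prime 2) := ⟨Nat.prime_two⟩
  by_contra hno
  push Not at hno
  have hd1 : d ≠ 1 := fun e => hdA (by rw [e]; exact one_mem A)
  set E := A ⊔ zpowers d with hEdef
  have hdc : ∀ a ∈ A, d * a = a * d := fun a ha => H.central hd ha
  have hEA : ∀ e ∈ E, ∃ a ∈ A, e = a ∨ e = a * d := by
    intro e he
    have hN : zpowers d ≤ normalizer (A : Set G) := zpowers_le.mpr (H.closed.le_normalizer hd)
    rw [← SetLike.mem_coe, hEdef, coe_mul_of_right_le_normalizer_left _ _ hN] at he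
    obtain ⟨a, ha, z, hz, rfl⟩ := he
    obtain ⟨k, rfl⟩ := mem_zpowers_iff.mp hz
    refine ⟨a, ha, ?_⟩
    rw [← zpow_mod_orderOf, orderOf_eq_prime (p := 2) (by rw [pow_two]; exact hd2) hd1]
    simp only [Nat.cast_ofNat]
    rcases Int.emod_two_eq_zero_or_one k with e | e <;> rw [e] <;> simp
  have hEe : IsElementaryAbelian 2 E := by
    constructor
    · refine ⟨⟨fun p q => Subtype.ext ?_⟩⟩
      obtain ⟨a, ha, hp⟩ := hEA p p.2
      obtain ⟨b, hb, hq⟩ := hEA q q.2
      show (p : G) * q = q * p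
      have hc1 : Commute a b := H.comm ha hb
      have hc2 : Commute d a := hdc a ha
      have hc3 : Commute d b := hdc b hb
      rcases hp with e | e <;> rcases hq with e' | e' <;> rw [e, e']
      · exact hc1.eq
      · exact (hc1.mul_right hc2.symm).eq
      · exact (hc1.mul_left hc3).eq
      · exact ((hc1.mul_right hc2.symm).mul_left (hc3.mul_right (Commute.refl d))).eq
    · intro e he
      obtain ⟨a, ha, h⟩ := hEA e he
      rw [pow_two]
      rcases h with rfl | rfl
      · exact H.sq ha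
      · rw [show a * d * (a * d) = a * (d * a) * d by group, hdc a ha, ← mul_assoc, H.sq ha, one_mul, hd2]
  have h8 : 8 ≤ Nat.card E := by
    have h1 := card_mul_le_of_disjoint (le_sup_left : A ≤ E) (le_sup_right : zpowers d ≤ E)
      ((eq_bot_iff_forall _).mpr fun z hz => by
        obtain ⟨k, rfl⟩ := mem_zpowers_iff.mp hz.2
        by_contra hne
        refine hdA ?_
        have h1 := hz.1
        rw [← zpow_mod_orderOf, orderOf_eq_prime (p := 2) (by rw [pow_two]; exact hd2)
          hd1] at h1 hne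
        simp only [Nat.cast_ofNat] at h1 hne
        rcases Int.emod_two_eq_zero_or_one k with e | e <;> rw [e] at h1 hne <;> simp_all)
    rw [H.card, Nat.card_zpowers, orderOf_eq_prime (p := 2) (by rw [pow_two]; exact hd2)
      hd1] at h1
    exact h1
  have hAE : A ≤ E := le_sup_left
  have P : Spread E (fun _ : Unit => A) := by
    refine ⟨hEe, h8, fun _ => H.four hEe hAE, fun b hb hb1 D hD => ?_⟩
    obtain ⟨c, hc, hb'⟩ := hEA b hb
    rcases hb' with rfl | rfl
    · exact Or.inl ⟨(), H.not_moved hc hb1 hD⟩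
    by_cases hmv : Moved A (c * d) D
    swap
    · exact Or.inl ⟨(), fun α hα h => centralizes_of_not_moved hmv α hα h⟩
    right
    have hbA : c * d ∉ A := fun e => hdA ((mul_mem_cancel_left hc).mp e)
    have hb2 : c * d * (c * d) = 1 := by rw [← pow_two]; exact hEe.2 _ hb
    have hcd : c * d = d * c := (hdc c hc).symm
    have hAb : A ≤ cc (c * d) := H.le_cc (mul_mem (H.le_S hc) hd)
    have hAt : At S A (c * d) D := ⟨H.closed, H.card, hbA, hb2, hAb, hD, hmv⟩
    have hnb : ¬ Big ↥D := fun hB => by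
      have key : ∀ y : G, y = d * c → ∀ D' : Subgroup (qq y), ¬ Blk S A y D' := fun y e => by
        subst e; exact hno c hc
      exact key _ hcd D ⟨hAt, hB⟩
    intro a ha ha1 w hw
    have hab : a ∈ cc (c * d) := AfterFT.CoreSep.mem_cc.mpr (ea_comm hEe ha hb)
    have ha2 : a * a = 1 := by rw [← pow_two]; exact hEe.2 _ ha
    exact H.cent_of_not_big hAt hnb hab ha2
      (fun α hα => ea_comm hEe ha (le_sup_left (b := zpowers d) hα)) w hw
  have h0 := H.sigW_eq_bot P hAE
  -- every core at an element of `A` lies in `W`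
  refine H.facts.false_of_normalizer H.hyp H.closed H.card (M := A) ?_ le_rfl fun a ha ha1 => ?_
  · intro e
    have h1 := H.hyp.eight_le S
    have h2 : Nat.card (S : Subgroup G) ≤ 4 := H.card ▸ (Nat.card_le_card_of_injective _
      (inclusion_injective (e ▸ le_top : (S : Subgroup G) ≤ A)))
    omega
  refine le_trans ?_ (bot_le : (⊥ : Subgroup G) ≤ A)
  rw [← h0]
  refine le_trans ?_ (P.sigT_le_sigW (hAE ha) ha1)
  exact le_inf le_rfl (le_iInf fun _ => (H.four hEe hAE).core_le_YY ha)

end Ctx4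

end CfsgLib.GoldSC
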