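import Cfsg.Agent.Lib.GoldSC.Four.Kill
import Cfsg.Agent.Lib.ZStar.Main
import Cfsg.Agent.Lib.S3Simple.Two

/-!
C2: `Ω₁ Z(S) ≤ A`.

Blueprint: `blueprint/Goldschmidt.md`, C2.
-/

set_option autoImplicit false
set_option linter.unusedSectionVars false
set_option linter.style.haveILetI false

namespace CfsgLib.GoldSC

open Cfsg Subgroup CfsgLib CfsgLib.Comp CfsgLib.AfterFT.CoreSep
open CfsgLib.Signalizer (ea_comm)
open CfsgLib.S3Simple (Closed Irred oddSolv card_mul_le_of_disjoint)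
open scoped commutatorElement

universe u

variable {G : Type u} [Group G] [Finite G] {S : Sylow 2 G} {A : Subgroup G}

/-- The involutions of the centre of `S`, with `1`. -/
def omegaZ (S : Sylow 2 G) : Subgroup G where
  carrier := {b | b ∈ (S : Subgroup G) ∧ b * b = 1 ∧ ∀ s ∈ (S : Subgroup G), b * s = s * b}
  one_mem' := ⟨one_mem _, one_mul 1, fun s _ => by rw [one_mul, mul_one]⟩
  mul_mem' := by
    rintro b c ⟨hb, hb2, hbc⟩ ⟨hc, hc2, hcc⟩
    refine ⟨mul_mem hb hc, ?_, fun s hs => ?_⟩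
    · rw [show b * c * (b * c) = b * (c * b) * c by group, ← hbc c hc, ← mul_assoc, hb2, one_mul, hc2]
    · rw [mul_assoc, hcc s hs, ← mul_assoc, hbc s hs, mul_assoc]
  inv_mem' := by
    rintro b ⟨hb, hb2, hbc⟩
    rw [show b⁻¹ = b from inv_eq_of_mul_eq_one_right hb2]
    exact ⟨hb, hb2, hbc⟩

theorem omegaZ_le_S : omegaZ S ≤ (S : Subgroup G) := fun _ hb => hb.1

theorem omegaZ_isP : IsPGroup 2 (omegaZ S) := S.2.to_le omegaZ_le_S

theorem S_le_normalizer_omegaZ : (S : Subgroup G) ≤ normalizer (omegaZ S : Set G) := fun s hs =>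
  mem_normalizer_of_maps fun b hb => by
    rw [← hb.2.2 s hs, mul_inv_cancel_right]
    exact hb

theorem normalizer_S_le_normalizer_omegaZ :
    normalizer ((S : Subgroup G) : Set G) ≤ normalizer (omegaZ S : Set G) := fun n hn =>
  mem_normalizer_of_maps fun b hb => by
    refine ⟨(mem_normalizer_iff.mp hn b).mp hb.1, ?_, fun s hs => ?_⟩
    · rw [show n * b * n⁻¹ * (n * b * n⁻¹) = n * (b * b) * n⁻¹ by group, hb.2.1, mul_one, mul_inv_cancel]
    · calc n * b * n⁻¹ * s = n * (b * (n⁻¹ * s * n)) * n⁻¹ := by group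
        _ = n * (n⁻¹ * s * n * b) * n⁻¹ := by rw [hb.2.2 _ ((mem_normalizer_iff''.mp hn s).mp hs)]
        _ = _ := by group

/-- An element turning `A` that centralises `Ω₁ Z(S)` modulo `A` and fixes `z`. -/
structure Turn (S : Sylow 2 G) (A : Subgroup G) (z k : G) : Prop where
  normZ : k ∈ normalizer (omegaZ S : Set G)
  normA : k ∈ normalizer (A : Set G)
  fpf : ∀ a ∈ A, k * a = a * k → a = 1
  move : ∀ b ∈ omegaZ S, k * b * k⁻¹ * b⁻¹ ∈ A
  fix : k * z = z * k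

namespace Ctx4

variable (H : Ctx4 S A)
include H

theorem A_le_omegaZ : A ≤ omegaZ S := fun a ha => ⟨H.le_S ha, H.sq ha, fun s hs => (H.central hs ha).symm⟩

/-- A moved component at a central involution gives such an element. -/
theorem exists_turn_central {z : G} (hz : z ∈ omegaZ S) {D : Subgroup (qq z)} (hAt : At S A z D) :
    ∃ k, Turn S A z k := by
  haveI : Fact (Nat.Prime 2) := ⟨Nat.prime_two⟩
  have hSz : (S : Subgroup G) ≤ cc z := fun s hs => AfterFT.CoreSep.mem_cc.mpr (hz.2.2 s hs).symm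
  have hBz : omegaZ S ≤ cc z := omegaZ_le_S.trans hSz
  let T : Sylow 2 (qq z) := (S.subtype hSz).mapSurjective (f := ff z) (bar_surjective 2)
  obtain ⟨P, hP⟩ := CfsgLib.CharPLocal.exists_sylow_subnormal T hAt.comp.1
  have hin : ∀ b ∈ omegaZ S, ∀ h : b ∈ cc z, ∃ v ∈ imQ A z, v * ff z ⟨b, h⟩ ∈ centralizer (D : Set (qq z)) := by
    intro b hb h
    have hbA : ∀ v ∈ imQ A z, ff z ⟨b, h⟩ * v = v * ff z ⟨b, h⟩ := by
      rintro _ ⟨α, hα, rfl⟩
      rw [← map_mul, ← map_mul]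
      exact congrArg (ff z) (Subtype.ext (hb.2.2 _ (H.le_S hα)))
    refine H.facts.inner S A z D hAt P _
      (by rw [← map_mul, show (⟨b, h⟩ : ↥(cc z)) * ⟨b, h⟩ = 1 from Subtype.ext hb.2.1, map_one])
      (H.normalizes hAt hbA) hbA fun p hp => ?_
    have h1 : (p : qq z) ∈ (T : Subgroup (qq z)) ⊓ D := hP ▸ mem_map_of_mem D.subtype hp
    obtain ⟨s, hs, he⟩ := h1.1
    rw [← he, ← map_mul, ← map_mul]
    exact congrArg (ff z) (Subtype.ext (hb.2.2 _ hs))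
  obtain ⟨k, hk, h1, h2, h3, h4, -⟩ := H.exists_turn hAt omegaZ_isP H.A_le_omegaZ hBz hin
  exact ⟨k, h1, h2, h3, h4, AfterFT.CoreSep.mem_cc.mp hk⟩

/-- What fixes `A` and moves `Ω₁ Z(S)` inside `A` fixes `Ω₁ Z(S)`. -/
theorem fix_omegaZ {g : G} (hg : g ∈ normalizer (omegaZ S : Set G)) (hgA : ∀ a ∈ A, g * a * g⁻¹ = a)
    (hgm : ∀ b ∈ omegaZ S, g * b * g⁻¹ * b⁻¹ ∈ A) {b : G} (hb : b ∈ omegaZ S) : g * b * g⁻¹ = b := by
  haveI : Fact (Nat.Prime 2) := ⟨Nat.prime_two⟩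
  set N := normalizer (omegaZ S : Set G) with hN
  let ρ : N →* MulAut (omegaZ S) := (omegaZ S).normalizerMonoidHom
  have hρ : ∀ (n : N) (y : omegaZ S), ((ρ n y : omegaZ S) : G) = (n : G) * y * (n : G)⁻¹ := fun _ _ => rfl
  have hker : (S : Subgroup G).subgroupOf N ≤ ρ.ker := fun s hs => MulEquiv.ext fun y => Subtype.ext (by
    rw [hρ]
    show (s : G) * y * (s : G)⁻¹ = y
    rw [← y.2.2.2 (s : G) hs, mul_inv_cancel_right])
  have hodd : ¬ 2 ∣ ρ.ker.index := fun h2 => S.not_dvd_index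
    ((h2.trans (index_dvd_of_le hker)).trans (relIndex_dvd_index_of_le S_le_normalizer_omegaZ))
  have h2 : ρ ⟨g, hg⟩ ^ 2 = 1 := by
    rw [← map_pow]
    refine MulEquiv.ext fun y => Subtype.ext ?_
    rw [hρ]
    show ((⟨g, hg⟩ ^ 2 : N) : G) * y * ((⟨g, hg⟩ ^ 2 : N) : G)⁻¹ = y
    rw [SubgroupClass.coe_pow, pow_two]
    set u := g * (y : G) * g⁻¹ * (y : G)⁻¹ with hu
    calc g * g * y * (g * g)⁻¹ = g * (u * y) * g⁻¹ := by rw [hu]; group
      _ = g * u * g⁻¹ * (g * y * g⁻¹) := by group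
      _ = u * (u * y) := by rw [hgA u (hgm y y.2), hu]; group
      _ = y := by rw [← mul_assoc, H.sq (hgm y y.2), one_mul]
  have h1 : ρ ⟨g, hg⟩ = 1 := by
    rcases (Nat.dvd_prime Nat.prime_two).mp (orderOf_dvd_of_pow_eq_one h2) with e | e
    · exact orderOf_eq_one_iff.mp e
    · exfalso
      refine hodd ?_
      rw [index_ker, ← e]
      exact orderOf_dvd_natCard _ ⟨⟨g, hg⟩, rfl⟩
  have h3 := DFunLike.congr_fun h1 ⟨b, hb⟩
  exact congrArg Subtype.val h3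

/-- A map without fixed points on the four-group: its square. -/
theorem turn_sq {m c : G} (hm : m ∈ normalizer (A : Set G)) (hf : ∀ a ∈ A, m * a = a * m → a = 1) (hc : c ∈ A)
    (hc1 : c ≠ 1) :
    m * c * m⁻¹ ≠ 1 ∧ m * c * m⁻¹ ≠ c ∧ m * (m * c * m⁻¹) * m⁻¹ = c * (m * c * m⁻¹) := by
  set p := m * c * m⁻¹ with hp
  have hpA : p ∈ A := (mem_normalizer_iff.mp hm c).mp hc
  have hp1 : p ≠ 1 := fun e => hc1 (conj_eq_one_iff.mp e)
  have hpc : p ≠ c := fun e => hc1 (hf c hc (mul_inv_eq_iff_eq_mul.mp e))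
  refine ⟨hp1, hpc, ?_⟩
  refine CfsgLib.S3Simple.four_third H.card hc hpA ((mem_normalizer_iff.mp hm p).mp hpA) hc1 hp1 hpc.symm
    (fun _ h => H.sq h) (fun e => hp1 (conj_eq_one_iff.mp e)) (fun e => ?_)
    fun e => hp1 (hf p hpA (mul_inv_eq_iff_eq_mul.mp e))
  have h1 : m * (c * p) * m⁻¹ = c * p := by
    rw [show m * (c * p) * m⁻¹ = m * c * m⁻¹ * (m * p * m⁻¹) by group, ← hp, e, H.comm hpA hc]
  have h2 := hf _ (mul_mem hc hpA) (mul_inv_eq_iff_eq_mul.mp h1)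
  exact hpc ((mul_eq_one_iff_eq_inv'.mp h2).trans (inv_eq_of_mul_eq_one_right (H.sq hc)))

/-- An element fixing two points of the four-group fixes it. -/
theorem fix_of_two {g c p : G} (hc : c ∈ A) (hc1 : c ≠ 1) (hp : p ∈ A) (hp1 : p ≠ 1) (hpc : p ≠ c)
    (gc : g * c * g⁻¹ = c) (gp : g * p * g⁻¹ = p) : ∀ a ∈ A, g * a * g⁻¹ = a := by
  intro a ha
  by_cases h1 : a = 1
  · subst h1; simp
  by_cases h2 : a = c
  · subst h2; exact gc
  by_cases h3 : a = p
  · subst h3; exact gp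
  rw [CfsgLib.S3Simple.four_third H.card hc hp ha hc1 hp1 hpc.symm (fun _ h => H.sq h) h1 h2 h3,
    show g * (c * p) * g⁻¹ = g * c * g⁻¹ * (g * p * g⁻¹) by group, gc, gp]

/-- Two central elements of one coset have no such elements. -/
theorem no_two_turn {x c k k' : G} (hx : x ∈ omegaZ S) (hc : c ∈ A) (hc1 : c ≠ 1) (hk : Turn S A x k)
    (hk' : Turn S A (x * c) k') : False := by
  obtain ⟨hp1, hpc, hkk⟩ := H.turn_sq hk.normA hk.fpf hc hc1
  obtain ⟨hq1, hqc, hkk'⟩ := H.turn_sq hk'.normA hk'.fpf hc hc1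
  set p := k * c * k⁻¹ with hp
  set q := k' * c * k'⁻¹ with hq
  have hpA : p ∈ A := (mem_normalizer_iff.mp hk.normA c).mp hc
  have hqA : q ∈ A := (mem_normalizer_iff.mp hk'.normA c).mp hc
  have hmov : ∀ {m : G}, Turn S A x m ∨ Turn S A (x * c) m → ∀ b ∈ omegaZ S,
      m⁻¹ * b * m * b⁻¹ ∈ A := by
    intro m hm b hb
    have hn : m ∈ normalizer (omegaZ S : Set G) := hm.elim (·.normZ) (·.normZ)
    have hmv := hm.elim (·.move) (·.move) _ ((mem_normalizer_iff''.mp hn b).mp hb)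
    rw [show m * (m⁻¹ * b * m) * m⁻¹ * (m⁻¹ * b * m)⁻¹ = (m⁻¹ * b * m * b⁻¹)⁻¹ by group] at hmv
    exact (inv_mem_iff).mp hmv
  have hxk : k * x * k⁻¹ = x := by rw [hk.fix, mul_inv_cancel_right]
  have hfin : k' * x * k'⁻¹ = x → False := fun e => by
    refine hc1 (hk'.fpf c hc (mul_inv_eq_iff_eq_mul.mp ?_))
    have h2 : k' * (x * c) * k'⁻¹ = x * c := by rw [hk'.fix, mul_inv_cancel_right]
    rw [show k' * (x * c) * k'⁻¹ = k' * x * k'⁻¹ * (k' * c * k'⁻¹) by group, e] at h2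
    exact mul_left_cancel h2
  by_cases he : q = p
  · set g := k⁻¹ * k' with hg
    have gc : g * c * g⁻¹ = c := by
      rw [hg, show k⁻¹ * k' * c * (k⁻¹ * k')⁻¹ = k⁻¹ * (k' * c * k'⁻¹) * k by group, ← hq, he, hp]
      group
    have gp : g * p * g⁻¹ = p := by
      rw [hg, show k⁻¹ * k' * p * (k⁻¹ * k')⁻¹ = k⁻¹ * (k' * p * k'⁻¹) * k by group,
        show k' * p * k'⁻¹ = k * p * k⁻¹ by rw [hkk, ← he, hkk']]
      group
    have gm : ∀ b ∈ omegaZ S, g * b * g⁻¹ * b⁻¹ ∈ A := fun b hb => by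
      have hb' : k' * b * k'⁻¹ ∈ omegaZ S := (mem_normalizer_iff.mp hk'.normZ b).mp hb
      rw [hg, show k⁻¹ * k' * b * (k⁻¹ * k')⁻¹ * b⁻¹ =
        k⁻¹ * (k' * b * k'⁻¹) * k * (k' * b * k'⁻¹)⁻¹ * (k' * b * k'⁻¹ * b⁻¹) by group]
      exact mul_mem (hmov (Or.inl hk) _ hb') (hk'.move b hb)
    have h1 := H.fix_omegaZ (mul_mem (inv_mem hk.normZ) hk'.normZ) (H.fix_of_two hc hc1 hpA hp1 hpc gc gp) gm hx
    refine hfin ?_
    calc k' * x * k'⁻¹ = k * (g * x * g⁻¹) * k⁻¹ := by rw [hg]; group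
      _ = x := by rw [h1, hxk]
  · have hqcp : q = c * p :=
      CfsgLib.S3Simple.four_third H.card hc hpA hqA hc1 hp1 hpc.symm (fun _ h => H.sq h) hq1 hqc he
    set g := k * k' with hg
    have gc : g * c * g⁻¹ = c := by
      rw [hg, show k * k' * c * (k * k')⁻¹ = k * (k' * c * k'⁻¹) * k⁻¹ by group, ← hq, hqcp,
        show k * (c * p) * k⁻¹ = k * c * k⁻¹ * (k * p * k⁻¹) by group, ← hp, hkk, H.comm hpA (mul_mem hc hpA),
        mul_assoc, H.sq hpA, mul_one]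
    have gp : g * q * g⁻¹ = q := by
      rw [hg, show k * k' * q * (k * k')⁻¹ = k * (k' * q * k'⁻¹) * k⁻¹ by group, hkk', hqcp,
        show c * (c * p) = p by rw [← mul_assoc, H.sq hc, one_mul], hkk]
    have gm : ∀ b ∈ omegaZ S, g * b * g⁻¹ * b⁻¹ ∈ A := fun b hb => by
      have hb' : k' * b * k'⁻¹ ∈ omegaZ S := (mem_normalizer_iff.mp hk'.normZ b).mp hb
      rw [hg, show k * k' * b * (k * k')⁻¹ * b⁻¹ =
        k * (k' * b * k'⁻¹) * k⁻¹ * (k' * b * k'⁻¹)⁻¹ * (k' * b * k'⁻¹ * b⁻¹) by group]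
      exact mul_mem (hk.move _ hb') (hk'.move b hb)
    have h1 := H.fix_omegaZ (mul_mem hk.normZ hk'.normZ) (H.fix_of_two hc hc1 hqA hq1 hqc gc gp) gm hx
    refine hfin ((MulAut.conj k).injective ?_)
    show k * (k' * x * k'⁻¹) * k⁻¹ = k * x * k⁻¹
    rw [hxk]
    calc k * (k' * x * k'⁻¹) * k⁻¹ = g * x * g⁻¹ := by rw [hg]; group
      _ = x := h1

variable {x : G} {D : Subgroup (qq x)}

/-- `x` is the only element of its coset with a moved component. -/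
theorem not_at_coset (hx : x ∈ omegaZ S) (hB : Blk S A x D) {c : G} (hc : c ∈ A) (hc1 : c ≠ 1)
    (D' : Subgroup (qq (x * c))) : ¬ At S A (x * c) D' := fun hAt => by
  obtain ⟨k, hk⟩ := H.exists_turn_central hx hB.at_
  obtain ⟨k', hk'⟩ := H.exists_turn_central (mul_mem hx (H.A_le_omegaZ hc)) hAt
  exact H.no_two_turn hx hc hc1 hk hk'

/-- Every element of `S` acts on the component as an element of `A`. -/
theorem exists_cent (hx : x ∈ omegaZ S) (hB : Blk S A x D) {s : G} (hs : s ∈ (S : Subgroup G)) :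
    ∃ a ∈ A, ∃ h : a * s ∈ cc x, ff x ⟨a * s, h⟩ ∈ centralizer (D : Set (qq x)) := by
  have hsx : s ∈ cc x := AfterFT.CoreSep.mem_cc.mpr (hx.2.2 s hs).symm
  obtain ⟨j, hj⟩ := pow_two_pow_of_mem S.2 hs
  obtain ⟨v, ⟨⟨a, hax⟩, ha, rfl⟩, hv⟩ := H.facts.big_inner S A x D hB.at_ hB.big (ff x ⟨s, hsx⟩)
    ⟨j, by rw [← map_pow, show (⟨s, hsx⟩ : ↥(cc x)) ^ 2 ^ j = 1 from Subtype.ext hj, map_one]⟩ (by
      rintro _ ⟨α, hα, rfl⟩
      rw [← map_mul, ← map_mul]
      exact congrArg (ff x) (Subtype.ext (H.central hs hα)))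
  exact ⟨a, ha, mul_mem hax hsx, hv⟩

/-- The component has a second involution in its centraliser in `S`. -/
theorem exists_second (hx : x ∈ omegaZ S) (hB : Blk S A x D) :
    ∃ t ∈ (S : Subgroup G), t * t = 1 ∧ t ≠ 1 ∧ t ≠ x ∧
      ∃ h : t ∈ cc x, ff x ⟨t, h⟩ ∈ centralizer (D : Set (qq x)) := by
  classical
  haveI : Fact (Nat.Prime 2) := ⟨Nat.prime_two⟩
  haveI := H.hyp.simple
  by_contra hcon
  push Not at hcon
  have hxA : x ∉ A := hB.at_.ne
  have hx1 : x ≠ 1 := fun e => hxA (by rw [e]; exact one_mem A)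
  have hord : orderOf x = 2 := orderOf_eq_prime (by rw [pow_two]; exact hx.2.1) hx1
  have hiso : ∀ g : G, g * x * g⁻¹ ∈ (S : Subgroup G) → g * x * g⁻¹ = x := by
    intro g hg
    set y := g * x * g⁻¹ with hy
    have hy2 : y * y = 1 := by
      rw [hy, show g * x * g⁻¹ * (g * x * g⁻¹) = g * (x * x) * g⁻¹ by group, hx.2.1, mul_one, mul_inv_cancel]
    have hyA : y ∉ A := fun hyA => hxA (by
      have := H.closed.closed.2 y hyA g⁻¹ (by
        rw [hy, show g⁻¹ * (g * x * g⁻¹) * g⁻¹⁻¹ = x by group]; exact hx.1)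
      rwa [hy, show g⁻¹ * (g * x * g⁻¹) * g⁻¹⁻¹ = x by group] at this)
    obtain ⟨a, ha, hay, hcent⟩ := H.exists_cent hx hB hg
    have hay2 : a * y * (a * y) = 1 := by
      rw [(show Commute y a from H.central hg ha).mul_mul_mul_comm a y, H.sq ha, hy2, mul_one]
    have h1 : a * y ≠ 1 := fun e => hyA (by rw [mul_eq_one_iff_eq_inv'.mp e]; exact inv_mem ha)
    have h2 : a * y = x := by
      by_contra hne
      exact hcon _ (mul_mem (H.le_S ha) hg) hay2 h1 hne hay hcent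
    by_cases ha1 : a = 1
    · rwa [ha1, one_mul] at h2
    exfalso
    have hyc : y = x * a := by
      rw [← h2, mul_assoc, H.central hg ha, ← mul_assoc, H.sq ha, one_mul]
    have hyZ : y ∈ omegaZ S := hyc ▸ mul_mem hx (H.A_le_omegaZ ha)
    obtain ⟨n, hn, hne⟩ := Sylow.conj_eq_normalizer_conj_of_mem_centralizer S x g⁻¹
      (fun s hs => (hx.2.2 s hs).symm) (by rw [inv_inv]; exact fun s hs => (hyZ.2.2 s hs).symm)
    rw [inv_inv, ← hy] at hne
    obtain ⟨k, hk⟩ := H.exists_turn_central hx hB.at_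
    have hnA : n ∈ normalizer (A : Set G) := H.closed.mem_normalizer_of_two S.2 H.le_S hn
    have hnZ : n ∈ normalizer (omegaZ S : Set G) := normalizer_S_le_normalizer_omegaZ hn
    refine H.no_two_turn hx ha ha1 hk (k' := n⁻¹ * k * n) ⟨mul_mem (mul_mem (inv_mem hnZ) hk.normZ) hnZ,
      mul_mem (mul_mem (inv_mem hnA) hk.normA) hnA, fun b hb e => ?_, fun b hb => ?_, ?_⟩
    · have h3 : k * (n * b * n⁻¹) = n * b * n⁻¹ * k := by
        calc k * (n * b * n⁻¹) = n * (n⁻¹ * k * n * b) * n⁻¹ := by group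
          _ = n * (b * (n⁻¹ * k * n)) * n⁻¹ := by rw [e]
          _ = _ := by group
      exact conj_eq_one_iff.mp (hk.fpf _ ((mem_normalizer_iff.mp hnA b).mp hb) h3)
    · have h3 := (mem_normalizer_iff''.mp hnA _).mp (hk.move _ ((mem_normalizer_iff.mp hnZ b).mp hb))
      rwa [show n⁻¹ * (k * (n * b * n⁻¹) * k⁻¹ * (n * b * n⁻¹)⁻¹) * n =
        n⁻¹ * k * n * b * (n⁻¹ * k * n)⁻¹ * b⁻¹ by group] at h3
    · rw [← hyc, hne]
      calc n⁻¹ * k * n * (n⁻¹ * x * n) = n⁻¹ * (k * x) * n := by group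
        _ = n⁻¹ * (x * k) * n := by rw [hk.fix]
        _ = _ := by group
  have hiso' := CfsgLib.ZStar.isolated_of_sylow S hord hx.1 hiso
  have hcore : pPrimeCore 2 G = ⊥ := by
    refine ((inferInstance : (pPrimeCore 2 G).Normal).eq_bot_or_eq_top).resolve_right fun e => ?_
    have hcop := card_pPrimeCore_coprime (G := G) 2
    rw [e, Subgroup.card_top] at hcop
    refine H.hyp.ne_top_of_odd (W := (⊤ : Subgroup G)) ?_ rfl
    rw [Subgroup.card_top]
    exact Nat.coprime_two_right.mp hcop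
  refine H.hyp.cc_ne_top hx1 (eq_top_iff.mpr fun g _ => AfterFT.CoreSep.mem_cc.mpr ?_)
  have h1 := CfsgLib.ZStar.commutator_mem hord hiso' g
  rw [hcore, mem_bot, mul_inv_eq_iff_eq_mul, one_mul, mul_inv_eq_iff_eq_mul] at h1
  exact h1.symm

end Ctx4

end CfsgLib.GoldSC
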