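import Cfsg.Agent.Lib.GoldSC.Four.Central

/-!
C2, the pair of fours: `Ω₁ Z(S) = A`.

Blueprint: `blueprint/Goldschmidt.md`, C2.
-/

set_option autoImplicit false
set_option linter.unusedSectionVars false
set_option linter.style.haveILetI false

namespace CfsgLib.GoldSC

open Cfsg Subgroup CfsgLib CfsgLib.Comp CfsgLib.AfterFT.CoreSep
open CfsgLib.Signalizer (ea_comm)
open CfsgLib.S3Simple (Closed Irred oddSolv card_mul_le_of_disjoint)
open scoped commutatorElement

universe u

variable {G : Type u} [Group G] [Finite G] {S : Sylow 2 G} {A : Subgroup G}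

/-- The product of two commuting elementary groups. -/
theorem ea_sup {X Y : Subgroup G} (hX : IsElementaryAbelian 2 X) (hY : IsElementaryAbelian 2 Y)
    (hc : ∀ a ∈ X, ∀ b ∈ Y, a * b = b * a) :
    IsElementaryAbelian 2 (X ⊔ Y : Subgroup G) ∧ ∀ e ∈ X ⊔ Y, ∃ a ∈ X, ∃ b ∈ Y, e = a * b := by
  haveI : Fact (Nat.Prime 2) := ⟨Nat.prime_two⟩
  have hN : Y ≤ normalizer (X : Set G) := fun b hb => mem_normalizer_of_maps fun a ha => by
    rw [← hc a ha b hb, mul_inv_cancel_right]
    exact ha
  have hdec : ∀ e ∈ X ⊔ Y, ∃ a ∈ X, ∃ b ∈ Y, e = a * b := by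
    intro e he
    rw [← SetLike.mem_coe, coe_mul_of_right_le_normalizer_left _ _ hN] at he
    obtain ⟨a, ha, b, hb, rfl⟩ := he
    exact ⟨a, ha, b, hb, rfl⟩
  refine ⟨⟨⟨⟨fun p q => Subtype.ext ?_⟩⟩, fun e he => ?_⟩, hdec⟩
  · obtain ⟨a, ha, b, hb, hp⟩ := hdec p p.2
    obtain ⟨a', ha', b', hb', hq⟩ := hdec q q.2
    show (p : G) * q = q * p
    rw [hp, hq]
    have c1 : Commute a a' := ea_comm hX ha ha'
    have c2 : Commute b b' := ea_comm hY hb hb'
    have c3 : Commute a b' := hc a ha b' hb'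
    have c4 : Commute b a' := (hc a' ha' b hb).symm
    exact ((c1.mul_right c3).mul_left (c4.mul_right c2)).eq
  · obtain ⟨a, ha, b, hb, rfl⟩ := hdec e he
    rw [pow_two, (show Commute b a from (hc a ha b hb).symm).mul_mul_mul_comm a b, ← pow_two, ← pow_two, hX.2 a ha,
      hY.2 b hb, one_mul]

/-- An element of order two commuting with `A` and centralising `y` maps into the centraliser of the component iff it
does so on a conjugate: the cores at `z` are reached from `A`. -/
theorem mem_core_at {z u α : G} (hαz : α ∈ cc z) (hα2 : α * α = 1) (hu : u ∈ centralizerPPrimeCore 2 α)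
    (huz : u ∈ cc z)
    (hc : ∀ E : Subgroup (qq z), IsComponent E → ff z ⟨α, hαz⟩ ∈ centralizer (E : Set (qq z)) ∨
      ff z ⟨u, huz⟩ ∈ centralizer (E : Set (qq z))) : u ∈ centralizerPPrimeCore 2 z :=
  mem_core_of_centralizes hαz hα2 hu huz fun E hE =>
    (hc E hE).elim (CfsgLib.S3Simple.core_centralizes_component hαz hα2 hu huz hE) id

namespace Ctx4

variable (H : Ctx4 S A)
include H

/-- `Ω₁ Z(S) = A`. -/
theorem omegaZ_le : omegaZ S ≤ A := by
  classical
  haveI : Fact (Nat.Prime 2) := ⟨Nat.prime_two⟩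
  intro z hz
  by_contra hzA
  obtain ⟨x, hx, D, hB⟩ : ∃ x ∈ omegaZ S, ∃ D : Subgroup (qq x), Blk S A x D := by
    obtain ⟨c0, hc0, D, hB⟩ := H.exists_blk hz.1 hz.2.1 hzA
    exact ⟨z * c0, mul_mem hz (H.A_le_omegaZ hc0), D, hB⟩
  obtain ⟨t, htS, ht2, ht1, htx, htc, htD⟩ := H.exists_second hx hB
  have hxA : x ∉ A := hB.at_.ne
  have hx1 : x ≠ 1 := fun e => hxA (by rw [e]; exact one_mem A)
  have hxt : x * t = t * x := hx.2.2 t htS
  have hxx : x ∈ cc x := AfterFT.CoreSep.mem_cc.mpr rfl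
  have hxD : ff x ⟨x, hxx⟩ ∈ centralizer (D : Set (qq x)) := fun d _ => ff_self_central x hxx d
  set A2 := CfsgLib.PSL2Klein.four x t hx.2.1 ht2 hxt with hA2def
  haveI : IsKleinFour A2 := CfsgLib.PSL2Klein.four_klein hx.2.1 ht2 hxt hx1 ht1 htx.symm
  have hmem2 : ∀ b ∈ A2, b = 1 ∨ b = x ∨ b = t ∨ b = x * t := fun b hb => hb
  -- the elements of `A2` centralise `D`
  have hA2x : ∀ b ∈ A2, ∃ h : b ∈ cc x, ff x ⟨b, h⟩ ∈ centralizer (D : Set (qq x)) := by
    intro b hb
    rcases hmem2 b hb with rfl | rfl | rfl | rfl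
    · exact ⟨one_mem _, by rw [show (⟨1, one_mem _⟩ : ↥(cc x)) = 1 from rfl, map_one]; exact one_mem _⟩
    · exact ⟨hxx, hxD⟩
    · exact ⟨htc, htD⟩
    · refine ⟨mul_mem hxx htc, ?_⟩
      rw [show (⟨x * t, mul_mem hxx htc⟩ : ↥(cc x)) = ⟨x, hxx⟩ * ⟨t, htc⟩ from rfl, map_mul]
      exact mul_mem hxD htD
  have hA2S : A2 ≤ (S : Subgroup G) := fun b hb => by
    rcases hmem2 b hb with rfl | rfl | rfl | rfl
    exacts [one_mem _, hx.1, htS, mul_mem hx.1 htS]
  have hA2e : IsElementaryAbelian 2 A2 := by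
    refine ⟨⟨⟨fun p q => ?_⟩⟩, fun b hb => ?_⟩
    · exact mul_comm_of_exponent_two IsKleinFour.exponent_two p q
    · have := Monoid.pow_exponent_eq_one (⟨b, hb⟩ : A2)
      rw [IsKleinFour.exponent_two] at this
      exact congrArg Subtype.val this
  have hdis : ∀ b ∈ A2, b ∈ A → b = 1 := by
    intro b hb hbA
    obtain ⟨h, hbD⟩ := hA2x b hb
    obtain ⟨j, hj⟩ := pow_two_pow_of_mem H.isPGroup hbA
    exact eq_one_of_ff h hj (H.imQ_centralizer hB.at_ (mem_imQ hbA h) hbD)
  set E := A ⊔ A2 with hEdef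
  have hcom : ∀ a ∈ A, ∀ b ∈ A2, a * b = b * a := fun a ha b hb => (H.central (hA2S hb) ha).symm
  obtain ⟨hEe, hEdec⟩ := ea_sup H.closed.elem hA2e hcom
  have hES : E ≤ (S : Subgroup G) := sup_le H.le_S hA2S
  -- the key property
  have key : ∀ (y : G) (a1 b : G), a1 ∈ A → b ∈ A2 → y = a1 * b → ∀ D' : Subgroup (qq y),
      IsComponent D' → y ≠ 1 → Moved A y D' →
        ((a1 = 1 → ∀ β ∈ A2, CentAt y D' β) ∧ (a1 ≠ 1 → y ∉ A ∧ At S A y D' ∧ ¬ Big ↥D')) := by
    intro y a1 b ha1 hb hy D' hD' hy1 hmv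
    have hyA : y ∉ A := fun hyA => by
      obtain ⟨a, ha, h, hc⟩ := hmv
      exact hc (H.not_moved hyA hy1 hD' a ha h)
    have hyE : y ∈ E := hy ▸ mul_mem_sup ha1 hb
    have hyS : y ∈ (S : Subgroup G) := hES hyE
    have hAy : A ≤ cc y := H.le_cc hyS
    have hy2 : y * y = 1 := by rw [← pow_two]; exact hEe.2 y hyE
    have hyy : y ∈ cc y := AfterFT.CoreSep.mem_cc.mpr rfl
    have hAt : At S A y D' := ⟨H.closed, H.card, hyA, hy2, hAy, hD', hmv⟩
    have hyD' : ff y ⟨y, hyy⟩ ∈ centralizer (D' : Set (qq y)) := fun d _ => ff_self_central y hyy d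
    rcases hmem2 b hb with hb0 | hb0 | hb0
    · rw [hb0, mul_one] at hy
      exact absurd (hy ▸ ha1) hyA
    · -- in the coset of `x`
      subst hb0
      by_cases h1 : a1 = 1
      · refine ⟨fun _ => ?_, fun h => absurd h1 h⟩
        have hyx : y = b := by rw [hy, h1, one_mul]
        subst hyx
        rw [H.facts.unique S A _ D' D hAt hB.at_]
        intro β hβ h
        exact (hA2x β hβ).2
      · exfalso
        have hgen : ∀ w (D' : Subgroup (qq w)), w = b * a1 → ¬ At S A w D' := fun w D' e => by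
          subst e; exact H.not_at_coset hx hB ha1 h1 D'
        exact hgen _ D' (hy.trans (hx.2.2 a1 (H.le_S ha1)).symm) hAt
    have hbB : b = t ∨ b = x * t := hb0
    have hxy : x ∈ cc y := AfterFT.CoreSep.mem_cc.mpr (hx.2.2 y hyS)
    have hyx : y ∈ cc x := AfterFT.CoreSep.mem_cc.mpr (hx.2.2 y hyS).symm
    -- a component with cores: `x` centralises it and `y` lies in `A2`
    have hbig : Big ↥D' → a1 = 1 ∧ ff y ⟨x, hxy⟩ ∈ centralizer (D' : Set (qq y)) := by
      intro hbig
      obtain ⟨_, ⟨⟨v, hvy⟩, hv, rfl⟩, hvc⟩ := H.facts.big_inner S A y D' hAt hbig (ff y ⟨x, hxy⟩)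
        ⟨1, by rw [pow_one, ← map_pow, pow_two, show (⟨x, hxy⟩ : ↥(cc y)) * ⟨x, hxy⟩ = 1 from Subtype.ext hx.2.1,
          map_one]⟩ (by
          rintro _ ⟨α, hα, rfl⟩
          rw [← map_mul, ← map_mul]
          exact congrArg (ff y) (Subtype.ext (hx.2.2 _ (H.le_S hα))))
      rw [← map_mul] at hvc
      replace hv : v ∈ A := hv
      have hvx : v * x ∈ cc y := mul_mem hvy hxy
      have hvx2 : v * x * (v * x) = 1 := by
        rw [(show Commute x v from hx.2.2 v (H.le_S hv)).mul_mul_mul_comm v x, H.sq hv, hx.2.1, one_mul]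
      by_contra hcon
      have hcases : a1 ≠ 1 ∨ v ≠ 1 := by
        by_contra h
        push Not at h
        refine hcon ⟨h.1, ?_⟩
        obtain rfl := h.2
        rwa [show (⟨x, hxy⟩ : ↥(cc y)) = ⟨1, hvy⟩ * ⟨x, hxy⟩ from Subtype.ext (one_mul x).symm]
      obtain ⟨α, hα, hα1, hαa⟩ : ∃ α ∈ A, α ≠ 1 ∧ α ≠ a1 := by
        by_contra h
        push Not at h
        have h2 : (A : Set G) ⊆ ({1, a1} : Set G) := fun w hw => by
          by_cases e : w = 1
          · exact Or.inl e
          · exact Or.inr (h w hw e)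
        have := Set.ncard_le_ncard h2 (Set.toFinite _)
        have h3 := Set.ncard_insert_le (1 : G) ({a1} : Set G)
        rw [Set.ncard_singleton] at h3
        rw [← Nat.card_coe_set_eq] at this
        have h4 : Nat.card A ≤ 2 := this.trans h3
        rw [H.card] at h4
        omega
      obtain ⟨β, hβ, hβ1, hβα, hβdef⟩ : ∃ β ∈ A, β ≠ 1 ∧ α ≠ β ∧ (a1 ≠ 1 → β = α * a1) := by
        by_cases h : a1 = 1
        · obtain ⟨β, hβ, h1, h2⟩ : ∃ β ∈ A, β ≠ 1 ∧ β ≠ α := by
            by_contra hh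
            push Not at hh
            have h2 : (A : Set G) ⊆ ({1, α} : Set G) := fun w hw => by
              by_cases e : w = 1
              · exact Or.inl e
              · exact Or.inr (hh w hw e)
            have := Set.ncard_le_ncard h2 (Set.toFinite _)
            have h3 := Set.ncard_insert_le (1 : G) ({α} : Set G)
            rw [Set.ncard_singleton] at h3
            rw [← Nat.card_coe_set_eq] at this
            have h4 : Nat.card A ≤ 2 := this.trans h3
            rw [H.card] at h4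
            omega
          exact ⟨β, hβ, h1, h2.symm, fun h' => absurd h h'⟩
        · exact ⟨α * a1, mul_mem hα ha1, fun e => hαa ((mul_eq_one_iff_eq_inv.mp e).trans
            (inv_eq_of_mul_eq_one_right (H.sq ha1))), fun e => h (mul_eq_left.mp e.symm), fun _ => rfl⟩
      have hR : IsPGroup 2 (zpowers (v * x)) := zpowers_two hvx2
      obtain ⟨u, huy, hun, -, huα, huo, hui, huαc, huR⟩ := H.exists_torus ⟨hAt, hbig⟩ hα hβ hα1 hβ1 hβα hR
        (zpowers_le.mpr hvx)
        (fun r hr a ha => by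
          have hle : zpowers (v * x) ≤ centralizer (A : Set G) :=
            zpowers_le.mpr (H.S_le_centralizer (mul_mem (H.le_S hv) hx.1))
          exact (hle hr a ha).symm)
        (fun r hr h => by
          have hle : zpowers (v * x) ≤ ((centralizer (D' : Set (qq y))).comap (ff y)).map (cc y).subtype :=
            zpowers_le.mpr ⟨⟨v * x, hvx⟩, hvc, rfl⟩
          obtain ⟨r', hr', e⟩ := hle hr
          rwa [show (⟨r, h⟩ : ↥(cc y)) = r' from Subtype.ext e.symm])
      refine not_mem_core hD' huy hun hvx hvx2 hvc ?_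
      have huz : u ∈ cc (v * x) := AfterFT.CoreSep.mem_cc.mpr (huR _ (mem_zpowers _))
      have hαz : α ∈ cc (v * x) := H.le_cc (mul_mem (H.le_S hv) hx.1) hα
      refine mem_core_at hαz (H.sq hα) huα huz fun F hF => ?_
      by_cases hmF : Moved A (v * x) F
      swap
      · exact Or.inl (centralizes_of_not_moved hmF α hα hαz)
      have hvxA : v * x ∉ A := fun h => hxA ((mul_mem_cancel_left hv).mp h)
      have hAtF : At S A (v * x) F :=
        ⟨H.closed, H.card, hvxA, hvx2, H.le_cc (mul_mem (H.le_S hv) hx.1), hF, hmF⟩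
      by_cases hv1 : v = 1
      swap
      · exfalso
        exact (show ∀ w (F : Subgroup (qq w)), w = x * v → ¬ At S A w F from fun w F e => by
          subst e; exact H.not_at_coset hx hB hv hv1 F) _ F (hx.2.2 v (H.le_S hv)).symm hAtF
      have ha10 : a1 ≠ 1 := hcases.resolve_right (not_not_intro hv1)
      have hvx' : v * x = x := by rw [hv1, one_mul]
      refine Or.inr ?_
      revert huz hαz F
      rw [hvx']
      intro hux hαx F hF hmF hAtF
      rw [H.facts.unique S A _ F D hAtF hB.at_]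
      -- in `C(x)/O`: `u` commutes with the images of `α` and `y`
      obtain ⟨hbx, hbD⟩ := hA2x b hb
      have hun' : ff x ⟨u, hux⟩ ∈ normalizer (D : Set (qq x)) :=
        coreC_normalizes (pPrimeCore_quotient_eq_bot 2) (zpowers_two (by
          rw [← map_mul, show (⟨α, hαx⟩ : ↥(cc x)) * ⟨α, hαx⟩ = 1 from Subtype.ext (H.sq hα), map_one])) hB.at_.comp
          (image_core hαx (H.sq hα) ⟨u, hux⟩ huα)
      have hβx : β ∈ cc x := H.le_cc hx.1 hβ
      set U := ff x ⟨u, hux⟩ with hU
      set Bb := ff x ⟨b, hbx⟩ with hBb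
      set Bβ := ff x ⟨β, hβx⟩ with hBβ
      have huy' : u * y = y * u := AfterFT.CoreSep.mem_cc.mp huy
      have hβy : β = α * y * b := by
        rw [hβdef ha10, hy]
        rw [mul_assoc, mul_assoc, show b * b = 1 by rw [← pow_two]; exact hA2e.2 b hb, mul_one]
      have h1 : U * Bβ * U⁻¹ = Bβ * Bb * (U * Bb * U⁻¹) := by
        rw [hU, hBβ, hBb, ← map_inv, ← map_mul, ← map_mul, ← map_mul, ← map_mul, ← map_mul, ← map_mul]
        refine congrArg (ff x) (Subtype.ext ?_)
        show u * β * u⁻¹ = β * b * (u * b * u⁻¹)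
        have hay : u * (α * y) = α * y * u := by rw [← mul_assoc, huαc, mul_assoc, huy', mul_assoc]
        have hb2 : b * b = 1 := by rw [← pow_two]; exact hA2e.2 b hb
        rw [hβy, mul_assoc (α * y) b b, hb2, mul_one,
          show u * (α * y * b) * u⁻¹ = u * (α * y) * (b * u⁻¹) by group, hay]
        group
      have h2 : Bβ * U * Bβ⁻¹ = U⁻¹ := by
        rw [hU, hBβ, ← map_inv, ← map_inv, ← map_mul, ← map_mul]
        exact congrArg (ff x) (Subtype.ext hui)
      have h3 : U * U ∈ centralizer (D : Set (qq x)) := by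
        have e : U * U = Bβ * (Bb * (U * Bb * U⁻¹)) * Bβ⁻¹ := by
          calc U * U = U * (Bβ * U * Bβ⁻¹)⁻¹ := by rw [h2, inv_inv]
            _ = (U * Bβ * U⁻¹) * Bβ⁻¹ := by group
            _ = _ := by rw [h1, mul_assoc Bβ]
        rw [e]
        exact conj_mem_centralizer (le_normalizer (H.imQ_le hB.at_ (mem_imQ hβ hβx)))
          (mul_mem hbD (conj_mem_centralizer hun' hbD))
      exact mem_of_sq_mem (Odd.of_dvd_nat (by rw [orderOf_mk]; exact huo) (orderOf_map_dvd _ _)) h3
    constructor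
    · intro h1
      have hD'big : Big ↥D' := by
        by_contra hnb
        have hyb : y = b := by rw [hy, h1, one_mul]
        obtain ⟨hbx, hbD⟩ := hA2x b hb
        have hRx : zpowers b ≤ cc x := zpowers_le.mpr hbx
        obtain ⟨α, hα, hα1, β, hβ, hβ1, hne⟩ : ∃ α ∈ A, α ≠ 1 ∧ ∃ β ∈ A, β ≠ 1 ∧ α ≠ β := by
          obtain ⟨a, ha, hx', -⟩ := hB.at_.moved
          by_contra hh
          push Not at hh
          obtain ⟨α, hα, hα1⟩ := A.bot_or_exists_ne_one.resolve_left H.closed.ne_bot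
          have h2 : (A : Set G) ⊆ ({1, α} : Set G) := fun w hw => by
            by_cases e : w = 1
            · exact Or.inl e
            · exact Or.inr (hh α hα hα1 w hw e).symm
          have := Set.ncard_le_ncard h2 (Set.toFinite _)
          have h3 := Set.ncard_insert_le (1 : G) ({α} : Set G)
          rw [Set.ncard_singleton] at h3
          rw [← Nat.card_coe_set_eq] at this
          have h4 : Nat.card A ≤ 2 := this.trans h3
          rw [H.card] at h4
          omega
        have hb2 : b * b = 1 := by rw [← pow_two]; exact hA2e.2 b hb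
        obtain ⟨u, hux, hun, -, huα, huo, hui, huαc, huR⟩ := H.exists_torus hB hα hβ hα1 hβ1 hne
          (R := zpowers b) (zpowers_two hb2) hRx
          (fun r hr a ha => by
            have hle : zpowers b ≤ centralizer (A : Set G) := zpowers_le.mpr (H.S_le_centralizer (hA2S hb))
            exact (hle hr a ha).symm)
          (fun r hr h => by
            have hle : zpowers b ≤ ((centralizer (D : Set (qq x))).comap (ff x)).map (cc x).subtype :=
              zpowers_le.mpr ⟨⟨b, hbx⟩, hbD, rfl⟩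
            obtain ⟨r', hr', e⟩ := hle hr
            rwa [show (⟨r, h⟩ : ↥(cc x)) = r' from Subtype.ext e.symm])
        refine not_mem_core hB.at_.comp hux hun hbx hb2 hbD ?_
        have hub : u ∈ cc b := AfterFT.CoreSep.mem_cc.mpr (huR b (mem_zpowers b))
        subst hyb
        refine mem_core_at (hAy hα) (H.sq hα) huα hub fun F hF => ?_
        by_cases hmF : Moved A _ F
        swap
        · exact Or.inl (centralizes_of_not_moved hmF α hα _)
        have hAtF : At S A _ F := ⟨H.closed, H.card, hyA, hy2, hAy, hF, hmF⟩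
        rw [H.facts.unique S A _ F D' hAtF hAt]
        exact Or.inr (H.cent_of_not_big hAt hnb (hAy hα) (H.sq hα) (fun γ hγ => H.comm hα hγ) u huα hub)
      intro β hβ hβy
      have hxD' := (hbig hD'big).2
      have hyb : y = b := by rw [hy, h1, one_mul]
      have htD' : ∀ h : t ∈ cc y, ff y ⟨t, h⟩ ∈ centralizer (D' : Set (qq y)) := by
        intro h
        rcases hbB with e | e
        · rwa [show (⟨t, h⟩ : ↥(cc y)) = ⟨y, hyy⟩ from Subtype.ext (e.symm.trans hyb.symm)]
        · rw [show (⟨t, h⟩ : ↥(cc y)) = ⟨x, hxy⟩ * ⟨y, hyy⟩ from Subtype.ext (by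
            show t = x * y
            rw [hyb, e, ← mul_assoc, hx.2.1, one_mul]), map_mul]
          exact mul_mem hxD' hyD'
      have hty : t ∈ cc y := AfterFT.CoreSep.mem_cc.mpr (ea_comm hEe (le_sup_right (a := A)
        (show t ∈ A2 from Or.inr (Or.inr (Or.inl rfl)))) hyE)
      rcases hmem2 β hβ with e | e | e | e
      · rw [show (⟨β, hβy⟩ : ↥(cc y)) = 1 from Subtype.ext e, map_one]
        exact one_mem _
      · rw [show (⟨β, hβy⟩ : ↥(cc y)) = ⟨x, hxy⟩ from Subtype.ext e]
        exact hxD'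
      · rw [show (⟨β, hβy⟩ : ↥(cc y)) = ⟨t, hty⟩ from Subtype.ext e]
        exact htD' hty
      · rw [show (⟨β, hβy⟩ : ↥(cc y)) = ⟨x, hxy⟩ * ⟨t, hty⟩ from Subtype.ext e, map_mul]
        exact mul_mem hxD' (htD' hty)
    · exact fun h1 => ⟨hyA, hAt, fun hb' => h1 (hbig hb').1⟩
  -- every component at an element of `E` is centralised by `A`, by `A2`, or has no cores
  have key2 : ∀ y ∈ E, y ≠ 1 → ∀ D' : Subgroup (qq y), IsComponent D' →
      (∀ α ∈ A, CentAt y D' α) ∨ (∀ β ∈ A2, CentAt y D' β) ∨ (y ∉ A2 ∧ At S A y D' ∧ ¬ Big ↥D') := by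
    intro y hy hy1 D' hD'
    by_cases hmv : Moved A y D'
    swap
    · exact Or.inl fun α hα h => centralizes_of_not_moved hmv α hα h
    obtain ⟨a1, ha1, b, hb, rfl⟩ := hEdec y hy
    obtain ⟨k1, k2⟩ := key _ a1 b ha1 hb rfl D' hD' hy1 hmv
    by_cases h1 : a1 = 1
    · exact Or.inr (Or.inl (k1 h1))
    obtain ⟨-, hAt, hnb⟩ := k2 h1
    exact Or.inr (Or.inr ⟨fun h => h1 (hdis a1 ((mul_mem_cancel_right hb).mp h) ha1), hAt, hnb⟩)
  have hAE : A ≤ E := le_sup_left
  have hF2 : Four E A2 := by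
    refine ⟨hEe, le_sup_right, IsKleinFour.card_four, fun y hy hy1 D' hD' => ?_⟩
    rcases key2 y (mem_sup_right hy) hy1 D' hD' with h | h | ⟨h, -⟩
    · refine Or.inr fun e he => ?_
      obtain ⟨a, ha, b, hb, rfl⟩ := hEdec e he
      refine ⟨b, hb, ?_⟩
      have hbb : b * b = 1 := by rw [← pow_two]; exact hA2e.2 b hb
      rw [show b * (a * b) = a by rw [hcom a ha b hb, ← mul_assoc, hbb, one_mul]]
      exact h a ha
    · exact Or.inl h
    · exact absurd hy h
  have h8 : 8 ≤ Nat.card E := by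
    have h1 := card_mul_le_of_disjoint hAE (le_sup_right : A2 ≤ E)
      ((eq_bot_iff_forall _).mpr fun w hw => hdis w hw.2 hw.1)
    rw [H.card, IsKleinFour.card_four] at h1
    omega
  let F : Bool → Subgroup G := fun i => bif i then A else A2
  have P : Spread E F := by
    refine ⟨hEe, h8, fun i => ?_, fun y hy hy1 D' hD' => ?_⟩
    · cases i
      · exact hF2
      · exact H.four hEe hAE
    · rcases key2 y hy hy1 D' hD' with h | h | ⟨-, hAt, hnb⟩
      · exact Or.inl ⟨true, h⟩
      · exact Or.inl ⟨false, h⟩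
      · refine Or.inr fun a ha ha1 w hw => H.cent_of_not_big hAt hnb ?_ ?_ ?_ w hw
        · exact AfterFT.CoreSep.mem_cc.mpr (ea_comm hEe ha hy)
        · rw [← pow_two]; exact hEe.2 a ha
        · exact fun α hα => ea_comm hEe ha (hAE hα)
  have h0 := H.sigW_eq_bot P hAE
  -- the cores centralise `x`
  refine H.facts.false_of_normalizer H.hyp H.closed H.card (H.hyp.cc_ne_top hx1) (H.le_cc hx.1) fun a ha ha1 w hw => ?_
  have hT : sigT F a = ⊥ := le_bot_iff.mp (h0 ▸ P.sigT_le_sigW (hAE ha) ha1)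
  have hxA2 : x ∈ A2 := Or.inr (Or.inl rfl)
  have h1 : ⁅w, x⁆ ∈ sigT F a := by
    have hO : ⁅w, x⁆ ∈ centralizerPPrimeCore 2 a := by
      refine (commutator_le_of_le_normalizer ?_) (commutator_mem_commutator hw hxA2)
      exact (le_sup_right : A2 ≤ E).trans ((H.four hEe hAE).le_normalizer_core (hAE ha))
    refine mem_inf.mpr ⟨hO, mem_iInf.mpr fun i => ?_⟩
    cases i
    · exact mem_sup_left (commutator_mem_commutator hw hxA2)
    · exact (H.four hEe hAE).core_le_YY ha hO
  rw [hT, mem_bot, commutatorElement_eq_one_iff_mul_comm] at h1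
  exact AfterFT.CoreSep.mem_cc.mpr h1

end Ctx4

end CfsgLib.GoldSC
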