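import Cfsg.Agent.Lib.GoldSC.Four.Maximal

/-!
C3: when all centralisers in `S` of the involutions outside `A` have order eight, such an involution lies in a group
`M` of order 32 with an abelian subgroup `U ≅ 4 × 4`.

Blueprint: `blueprint/Goldschmidt.md`, C3.
-/

set_option autoImplicit false
set_option linter.unusedSectionVars false
set_option linter.style.haveILetI false

namespace CfsgLib.GoldSC

open Cfsg Subgroup CfsgLib CfsgLib.Comp CfsgLib.AfterFT.CoreSep
open CfsgLib.S3Simple (Closed Irred)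

universe u

variable {G : Type u} [Group G] [Finite G] {S : Sylow 2 G} {A : Subgroup G}

/-- The commutator of `m` with the involution `x`. -/
def delta (x m : G) : G := m * x * m⁻¹ * x

/-- A 2-group of order 32 moving `x` only inside `A`. -/
structure Frame (A : Subgroup G) (x : G) (M : Subgroup G) : Prop where
  isP : IsPGroup 2 M
  card : Nat.card M = 32
  leA : A ≤ M
  cent : M ≤ centralizer (A : Set G)
  mem : x ∈ M
  sq : x * x = 1
  ne : x ∉ A
  comm : ∀ m ∈ M, delta x m ∈ A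

theorem comm_of_cent {a g : G} (hg : g ∈ centralizer (A : Set G)) (ha : a ∈ A) : g * a = a * g := (hg a ha).symm

theorem delta_mul {x m n : G} (hx : x * x = 1) (hm : m ∈ centralizer (A : Set G))
    (hn : delta x n ∈ A) : delta x (m * n) = delta x n * delta x m := by
  unfold delta at *
  calc m * n * x * (m * n)⁻¹ * x = m * (n * x * n⁻¹ * x) * (x * m⁻¹ * x) := by
        rw [show m * (n * x * n⁻¹ * x) * (x * m⁻¹ * x) = m * (n * x * n⁻¹ * (x * x)) * (m⁻¹ * x) by group, hx, mul_one]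
        group
    _ = (n * x * n⁻¹ * x) * m * (x * m⁻¹ * x) := by rw [comm_of_cent hm hn]
    _ = _ := by group

theorem delta_eq_one {x m : G} (hx : x * x = 1) : delta x m = 1 ↔ m ∈ cc x := by
  unfold delta
  rw [AfterFT.CoreSep.mem_cc]
  constructor
  · intro h
    have h1 := congrArg (fun t => t * x * m) h
    simp only [one_mul] at h1
    rwa [mul_assoc (m * x * m⁻¹) x x, hx, mul_one, inv_mul_cancel_right] at h1
  · intro h
    rw [h, mul_inv_cancel_right, hx]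

namespace Ctx4

variable (H : Ctx4 S A) (hb : Bound A 8)
include H hb

/-- The bound on a group moving an involution inside `A`. -/
theorem card_le_of_delta {x : G} {P : Subgroup G} (hP : IsPGroup 2 P) (hPA : P ≤ centralizer (A : Set G))
    (hx : x ∈ P) (hx2 : x * x = 1) (hxA : x ∉ A) (hd : ∀ p ∈ P, delta x p ∈ A) :
    Nat.card P ≤ 32 ∧ (Nat.card P = 32 → ∀ a ∈ A, ∃ p ∈ P, delta x p = a) := by
  let f : P →* A := MonoidHom.mk' (fun p => ⟨delta x p, hd p p.2⟩) fun p q => Subtype.ext (by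
    show delta x ((p : G) * q) = delta x p * delta x q
    rw [delta_mul hx2 (hPA p.2) (hd q q.2), H.comm (hd q q.2) (hd p p.2)])
  have hker : f.ker.map P.subtype ≤ P ⊓ cc x := by
    rintro _ ⟨p, hp, rfl⟩
    exact ⟨p.2, (delta_eq_one hx2).mp (congrArg Subtype.val (MonoidHom.mem_ker.mp hp))⟩
  have h1 : Nat.card f.ker ≤ 8 := by
    exact (le_of_eq (card_map_of_injective (f := P.subtype) P.subtype_injective).symm).trans
      ((Nat.card_le_card_of_injective _ (inclusion_injective hker)).trans (hb P hP hPA x hx hx2 hxA))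
  have h2 : Nat.card f.range ≤ 4 := H.card ▸ Nat.card_le_card_of_injective _ f.range.subtype_injective
  have h3 := f.ker.card_mul_index
  rw [index_ker] at h3
  refine ⟨h3 ▸ (Nat.mul_le_mul h1 h2).trans (by norm_num), fun e a ha => ?_⟩
  have h4 : f.range = ⊤ := eq_top_of_le_card _ (by rw [H.card]; nlinarith)
  obtain ⟨p, hp⟩ : (⟨a, ha⟩ : A) ∈ f.range := h4 ▸ mem_top _
  exact ⟨p, p.2, congrArg Subtype.val hp⟩

variable {x : G} {M : Subgroup G}

theorem frame_cent (F : Frame A x M) {m : G} (hm : m ∈ M) (hmx : m ∈ cc x) : m ∈ A ∨ m * x ∈ A := by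
  by_contra hcon
  push Not at hcon
  have hle : A ⊔ zpowers x ≤ M ⊓ cc x := sup_le
    (le_inf F.leA fun a ha => AfterFT.CoreSep.mem_cc.mpr (comm_of_cent (F.cent F.mem) ha).symm)
    (zpowers_le.mpr ⟨F.mem, AfterFT.CoreSep.mem_cc.mpr rfl⟩)
  have hdis : ∀ b ∈ zpowers x, b ∈ A → b = 1 := by
    intro b hb' hbA
    obtain ⟨k, rfl⟩ := mem_zpowers_iff.mp hb'
    have hord : orderOf x = 2 := orderOf_eq_prime (by rw [pow_two]; exact F.sq)
      fun e => F.ne (by rw [e]; exact one_mem A)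
    rw [← zpow_mod_orderOf, hord] at hbA ⊢
    simp only [Nat.cast_ofNat] at hbA ⊢
    rcases Int.emod_two_eq_zero_or_one k with e | e <;> rw [e] at hbA ⊢
    · exact zpow_zero x
    · exact absurd (by simpa using hbA) F.ne
  have hN : zpowers x ≤ normalizer (A : Set G) := zpowers_le.mpr (mem_normalizer_of_maps fun a ha => by
    rwa [comm_of_cent (F.cent F.mem) ha, mul_inv_cancel_right])
  have hord : orderOf x = 2 := orderOf_eq_prime (by rw [pow_two]; exact F.sq)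
    fun e => F.ne (by rw [e]; exact one_mem A)
  have hc : Nat.card ↥(A ⊔ zpowers x) = 8 := by rw [card_sup_eq hN hdis, H.card, Nat.card_zpowers, hord]
  have hm' : m ∈ A ⊔ zpowers x := by
    rw [eq_of_le_of_card_ge hle (by rw [hc]; exact hb M F.isP F.cent x F.mem F.sq F.ne)]
    exact ⟨hm, hmx⟩
  rw [← SetLike.mem_coe, coe_mul_of_right_le_normalizer_left _ _ hN] at hm'
  obtain ⟨a, ha, z, hz, rfl⟩ := hm'
  obtain ⟨k, rfl⟩ := mem_zpowers_iff.mp hz
  rw [← zpow_mod_orderOf, hord] at hcon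
  simp only [Nat.cast_ofNat] at hcon
  rcases Int.emod_two_eq_zero_or_one k with e | e <;> rw [e] at hcon
  · exact hcon.1 (by simpa using ha)
  · exact hcon.2 (by rw [zpow_one, mul_assoc, F.sq, mul_one]; exact ha)

theorem frame_sq (F : Frame A x M) {m : G} (hm : m ∈ M) : m * m ∈ A := by
  have h1 : m * m ∈ cc x := (delta_eq_one F.sq).mp (by
    rw [delta_mul F.sq (F.cent hm) (F.comm m hm), H.sq (F.comm m hm)])
  rcases H.frame_cent hb F (mul_mem hm hm) h1 with h | h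
  · exact h
  -- `m` commutes with `x`
  have hmm : m * (m * m * x) = m * m * x * m := comm_of_cent (F.cent hm) h
  have hx : m ∈ cc x := AfterFT.CoreSep.mem_cc.mpr (by
    refine mul_left_cancel (a := m * m) ?_
    calc m * m * (m * x) = m * (m * m * x) := by group
      _ = m * m * x * m := hmm
      _ = m * m * (x * m) := by group)
  rcases H.frame_cent hb F hm hx with h2 | h2
  · exact mul_mem h2 h2
  · rw [show m * m = m * x * (x⁻¹ * m) by group,
      show x⁻¹ * m = m * x by rw [inv_eq_of_mul_eq_one_right F.sq, AfterFT.CoreSep.mem_cc.mp hx]]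
    exact mul_mem h2 h2

theorem frame_commutator (F : Frame A x M) {m n : G} (hm : m ∈ M) (hn : n ∈ M) : m * n * m⁻¹ * n⁻¹ ∈ A := by
  rw [show m * n * m⁻¹ * n⁻¹ = m * n * (m * n) * (n⁻¹ * (m * m)⁻¹ * n) * (n * n)⁻¹ by group]
  refine mul_mem (mul_mem (H.frame_sq hb F (mul_mem hm hn)) ?_) (inv_mem (H.frame_sq hb F hn))
  rw [comm_of_cent (inv_mem (F.cent hn)) (inv_mem (H.frame_sq hb F hm)), inv_mul_cancel_right]
  exact inv_mem (H.frame_sq hb F hm)

/-- The abelian subgroup of index two. -/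
theorem exists_abelian (F : Frame A x M) : ∃ U : Subgroup G, A ≤ U ∧ U ≤ M ∧ Nat.card U = 16 ∧
    ∀ u ∈ U, ∀ v ∈ U, u * v = v * u := by
  classical
  obtain ⟨a, ha, ha1⟩ := A.bot_or_exists_ne_one.resolve_left H.closed.ne_bot
  obtain ⟨b, hbA, hb1, hab⟩ : ∃ b ∈ A, b ≠ 1 ∧ a ≠ b := by
    by_contra hh
    push Not at hh
    have h2 : (A : Set G) ⊆ ({1, a} : Set G) := fun w hw => by
      by_cases e : w = 1
      · exact Or.inl e
      · exact Or.inr (hh w hw e).symm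
    have := Set.ncard_le_ncard h2 (Set.toFinite _)
    have h3 := Set.ncard_insert_le (1 : G) ({a} : Set G)
    rw [Set.ncard_singleton] at h3
    rw [← Nat.card_coe_set_eq] at this
    have h4 : Nat.card A ≤ 2 := this.trans h3
    rw [H.card] at h4
    omega
  obtain ⟨-, hsurj⟩ := H.card_le_of_delta hb F.isP F.cent F.mem F.sq F.ne F.comm
  obtain ⟨m₁, hm₁, d₁⟩ := hsurj F.card a ha
  obtain ⟨m₂, hm₂, d₂⟩ := hsurj F.card b hbA
  -- a commuting pair of representatives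
  obtain ⟨n₁, hn₁, n₂, hn₂, e₁, e₂, hcomm⟩ : ∃ n₁ ∈ M, ∃ n₂ ∈ M, delta x n₁ = a ∧ delta x n₂ = b ∧
      n₁ * n₂ = n₂ * n₁ := by
    have dx : delta x x = 1 := (delta_eq_one F.sq).mpr (AfterFT.CoreSep.mem_cc.mpr rfl)
    have dmx : ∀ {m c : G}, m ∈ M → delta x m = c → delta x (m * x) = c := fun hm e => by
      rw [delta_mul F.sq (F.cent hm) (by rw [dx]; exact one_mem A), dx, one_mul, e]
    have hxx : x⁻¹ = x := inv_eq_of_mul_eq_one_right F.sq
    have k1 : m₁ * x = a * x * m₁ := by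
      rw [← d₁]; unfold delta
      rw [mul_assoc (m₁ * x * m₁⁻¹) x x, F.sq, mul_one]; group
    have k2 : m₂ * x = b * x * m₂ := by
      rw [← d₂]; unfold delta
      rw [mul_assoc (m₂ * x * m₂⁻¹) x x, F.sq, mul_one]; group
    set β := m₁ * m₂ * m₁⁻¹ * m₂⁻¹ with hβ
    have hβA : β ∈ A := H.frame_commutator hb F hm₁ hm₂
    have k3 : m₁ * m₂ = β * (m₂ * m₁) := by rw [hβ]; group
    have ca : ∀ {c g : G}, c ∈ A → g ∈ M → g * c = c * g := fun hc hg => comm_of_cent (F.cent hg) hc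
    by_cases hβ1 : β = 1
    · exact ⟨m₁, hm₁, m₂, hm₂, d₁, d₂, by rw [k3, hβ1, one_mul]⟩
    by_cases hβb : β = b
    · refine ⟨m₁ * x, mul_mem hm₁ F.mem, m₂, hm₂, dmx hm₁ d₁, d₂, ?_⟩
      calc m₁ * x * m₂ = m₁ * (b * (m₂ * x)) := by
            rw [k2, ← mul_assoc b, ← mul_assoc b, H.sq hbA, one_mul, mul_assoc]
        _ = b * (m₁ * m₂) * x := by rw [← mul_assoc m₁, ca hbA hm₁]; group
        _ = m₂ * (m₁ * x) := by rw [k3, hβb, ← mul_assoc b, H.sq hbA, one_mul, mul_assoc]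
    by_cases hβa : β = a
    · refine ⟨m₁, hm₁, m₂ * x, mul_mem hm₂ F.mem, d₁, dmx hm₂ d₂, ?_⟩
      calc m₁ * (m₂ * x) = a * (m₂ * m₁) * x := by rw [← mul_assoc, k3, hβa]
        _ = a * m₂ * (m₁ * x) := by group
        _ = m₂ * (a * (m₁ * x)) := by rw [← ca ha hm₂, mul_assoc]
        _ = m₂ * x * m₁ := by rw [k1, ← mul_assoc a, ← mul_assoc a, H.sq ha, one_mul, mul_assoc]
    have hβab : β = a * b :=
      CfsgLib.S3Simple.four_third H.card ha hbA hβA ha1 hb1 hab (fun _ h => H.sq h) hβ1 hβa hβb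
    refine ⟨m₁ * x, mul_mem hm₁ F.mem, m₂ * x, mul_mem hm₂ F.mem, dmx hm₁ d₁, dmx hm₂ d₂, ?_⟩
    have hA1 := ca hbA (mul_mem hm₁ F.mem)
    have l1 : m₁ * x * (m₂ * x) = b * (m₁ * m₂) := by
      calc m₁ * x * (m₂ * x) = m₁ * x * (b * x * m₂) := by rw [k2]
        _ = (m₁ * x * b) * x * m₂ := by group
        _ = b * (m₁ * (x * x) * m₂) := by rw [hA1]; group
        _ = b * (m₁ * m₂) := by rw [F.sq, mul_one]
    have l2 : m₂ * x * (m₁ * x) = a * (m₂ * m₁) := by
      calc m₂ * x * (m₁ * x) = m₂ * x * (a * x * m₁) := by rw [k1]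
        _ = (m₂ * x * a) * x * m₁ := by group
        _ = a * (m₂ * (x * x) * m₁) := by rw [ca ha (mul_mem hm₂ F.mem)]; group
        _ = a * (m₂ * m₁) := by rw [F.sq, mul_one]
    rw [l1, l2, k3, hβab, ← mul_assoc b, ← mul_assoc b a b, H.comm hbA ha, mul_assoc a b b, H.sq hbA, mul_one]
  -- their common centraliser
  set U := M ⊓ cc n₁ ⊓ cc n₂ with hU
  have hn₁U : n₁ ∈ U := ⟨⟨hn₁, AfterFT.CoreSep.mem_cc.mpr rfl⟩, AfterFT.CoreSep.mem_cc.mpr hcomm⟩
  have hn₂U : n₂ ∈ U := ⟨⟨hn₂, AfterFT.CoreSep.mem_cc.mpr hcomm.symm⟩, AfterFT.CoreSep.mem_cc.mpr rfl⟩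
  have hAU : A ≤ U := fun c hc => ⟨⟨F.leA hc, AfterFT.CoreSep.mem_cc.mpr (comm_of_cent (F.cent hn₁) hc).symm⟩,
    AfterFT.CoreSep.mem_cc.mpr (comm_of_cent (F.cent hn₂) hc).symm⟩
  have hxU : x ∉ U := fun h => by
    have h1 : n₁ ∈ cc x := AfterFT.CoreSep.mem_cc.mpr (AfterFT.CoreSep.mem_cc.mp h.1.2).symm
    exact ha1 (e₁ ▸ (delta_eq_one F.sq).mpr h1)
  have hker : ∀ u ∈ U, delta x u = 1 → u ∈ A := fun u hu h => by
    refine (H.frame_cent hb F hu.1.1 ((delta_eq_one F.sq).mp h)).resolve_right fun hux => hxU ?_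
    have := mul_mem (inv_mem hu) (hAU hux)
    rwa [inv_mul_cancel_left] at this
  have hsp : ∀ u ∈ U, ∃ w, (w = 1 ∨ w = n₁ ∨ w = n₂ ∨ w = n₁ * n₂) ∧ ∃ c ∈ A, u = c * w := by
    intro u hu
    obtain ⟨w, hw, hwU, hwd⟩ : ∃ w, (w = 1 ∨ w = n₁ ∨ w = n₂ ∨ w = n₁ * n₂) ∧ w ∈ U ∧ delta x w = delta x u := by
      set c := delta x u with hc
      by_cases h1 : c = 1
      · exact ⟨1, Or.inl rfl, one_mem U, by rw [h1]; exact (delta_eq_one F.sq).mpr (one_mem _)⟩
      by_cases h2 : c = a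
      · exact ⟨n₁, Or.inr (Or.inl rfl), hn₁U, e₁.trans h2.symm⟩
      by_cases h3 : c = b
      · exact ⟨n₂, Or.inr (Or.inr (Or.inl rfl)), hn₂U, e₂.trans h3.symm⟩
      refine ⟨n₁ * n₂, Or.inr (Or.inr (Or.inr rfl)), mul_mem hn₁U hn₂U, ?_⟩
      rw [delta_mul F.sq (F.cent hn₁) (F.comm n₂ hn₂), e₁, e₂, H.comm hbA ha]
      exact (CfsgLib.S3Simple.four_third H.card ha hbA (F.comm u hu.1.1) ha1 hb1 hab (fun _ h => H.sq h) h1 h2 h3).symm
    refine ⟨w, hw, u * w⁻¹, hker _ (mul_mem hu (inv_mem hwU)) ?_, (inv_mul_cancel_right u w).symm⟩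
    have h1 : delta x w⁻¹ ∈ A := F.comm _ (inv_mem hwU.1.1)
    rw [delta_mul F.sq (F.cent hu.1.1) h1, ← hwd, H.comm h1 (F.comm w hwU.1.1),
      ← delta_mul F.sq (F.cent (inv_mem hwU.1.1)) (F.comm w hwU.1.1), inv_mul_cancel]
    exact (delta_eq_one F.sq).mpr (one_mem _)
  refine ⟨U, hAU, inf_le_left.trans inf_le_left, ?_, fun u hu v hv => ?_⟩
  · let f : U →* A := MonoidHom.mk' (fun u => ⟨delta x u, F.comm u u.2.1.1⟩) fun p q => Subtype.ext (by
      show delta x ((p : G) * q) = delta x p * delta x q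
      rw [delta_mul F.sq (F.cent p.2.1.1) (F.comm q q.2.1.1), H.comm (F.comm q q.2.1.1) (F.comm p p.2.1.1)])
    have hk : f.ker = A.subgroupOf U := by
      ext u
      rw [MonoidHom.mem_ker, mem_subgroupOf]
      refine ⟨fun h => hker u u.2 (congrArg Subtype.val h), fun h => Subtype.ext ?_⟩
      exact (delta_eq_one F.sq).mpr (AfterFT.CoreSep.mem_cc.mpr (comm_of_cent (F.cent F.mem) h).symm)
    have hr : f.range = ⊤ := by
      refine eq_top_iff.mpr fun c _ => ?_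
      by_cases h1 : (c : G) = 1
      · exact ⟨1, by rw [map_one]; exact Subtype.ext h1.symm⟩
      by_cases h2 : (c : G) = a
      · exact ⟨⟨n₁, hn₁U⟩, Subtype.ext (e₁.trans h2.symm)⟩
      by_cases h3 : (c : G) = b
      · exact ⟨⟨n₂, hn₂U⟩, Subtype.ext (e₂.trans h3.symm)⟩
      refine ⟨⟨n₁, hn₁U⟩ * ⟨n₂, hn₂U⟩, Subtype.ext ?_⟩
      show delta x (n₁ * n₂) = (c : G)
      rw [delta_mul F.sq (F.cent hn₁) (F.comm n₂ hn₂), e₁, e₂, H.comm hbA ha]
      exact (CfsgLib.S3Simple.four_third H.card ha hbA c.2 ha1 hb1 hab (fun _ h => H.sq h) h1 h2 h3).symm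
    have h := f.ker.card_mul_index
    rw [index_ker, hr, card_top, H.card, hk, Nat.card_congr (subgroupOfEquivOfLe hAU).toEquiv, H.card] at h
    omega
  · obtain ⟨w, hw, c, hc, hu'⟩ := hsp u hu
    obtain ⟨w', hw', c', hc', hv'⟩ := hsp v hv
    have hgen : ∀ z ∈ U, Commute z n₁ ∧ Commute z n₂ := fun z hz =>
      ⟨AfterFT.CoreSep.mem_cc.mp hz.1.2, AfterFT.CoreSep.mem_cc.mp hz.2⟩
    have hcu : Commute u w' := by
      rcases hw' with rfl | rfl | rfl | rfl
      exacts [Commute.one_right u, (hgen u hu).1, (hgen u hu).2, (hgen u hu).1.mul_right (hgen u hu).2]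
    rw [hv']
    exact ((show Commute u c' from comm_of_cent (F.cent hu.1.1) hc').mul_right hcu).eq

end Ctx4

end CfsgLib.GoldSC
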