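import Cfsg.Agent.Lib.GoldSC.Defs
import Cfsg.Agent.Lib.JankoReeMult.PSLTwo
import Cfsg.Agent.Lib.PSL2Klein

/-!
A prime of the torus of `L₂(q)`, `q ≡ 3, 5 mod 8`: an element centralising one involution of a four-group and inverted
by another.

Blueprint: `blueprint/Goldschmidt.md`, C2 and C4.
-/

set_option autoImplicit false
set_option linter.unusedSectionVars false
set_option linter.style.haveILetI false

namespace CfsgLib.GoldSC

open Matrix CfsgLib.PSL2 CfsgLib.PSL2Klein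

variable {F : Type} [Field F] [Fintype F]

local notation "SL₂" => Matrix.SpecialLinearGroup (Fin 2) F
local notation "PSL₂" => Matrix.ProjectiveSpecialLinearGroup (Fin 2) F
local notation "M₂" => Matrix (Fin 2) (Fin 2) F

/-- The order of the torus centralising an involution. -/
def torusOrd (q : ℕ) : ℕ := if q % 4 = 1 then q - 1 else q + 1

theorem two_ne_of_card (hq : Fintype.card F % 8 = 3 ∨ Fintype.card F % 8 = 5) : (2 : F) ≠ 0 := by
  refine CfsgLib.JankoReeMult.two_ne (Nat.odd_iff.mpr ?_)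
  omega

theorem torus_elt (hq : Fintype.card F % 8 = 3 ∨ Fintype.card F % 8 = 5) {ℓ : ℕ} (hℓ : ℓ.Prime) (hℓ2 : ℓ ≠ 2)
    (hd : ℓ ∣ torusOrd (Fintype.card F)) {v w : PSL₂} (hv1 : v ≠ 1) (hw1 : w ≠ 1) (hvw : v ≠ w)
    (hv : v * v = 1) (hw : w * w = 1) (hc : v * w = w * v) :
    ∃ u : PSL₂, orderOf u = ℓ ∧ v * u = u * v ∧ w * u * w⁻¹ = u⁻¹ := by
  haveI : Fact ℓ.Prime := ⟨hℓ⟩
  have h2 := two_ne_of_card hq
  obtain ⟨g, rfl⟩ := QuotientGroup.mk'_surjective _ v
  obtain ⟨k, rfl⟩ := QuotientGroup.mk'_surjective _ w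
  have hg : g.1.trace = 0 := (invol_iff h2).mp ⟨hv1, hv⟩
  have hk : k.1.trace = 0 := (invol_iff h2).mp ⟨hw1, hw⟩
  have hkg : k * g = -g * k := by
    rw [← map_mul, ← map_mul] at hc
    rcases mk_eq_iff.mp hc with e | e
    · exfalso
      rcases eq_or_eq_neg h2 hg hk e with rfl | rfl
      · exact hvw rfl
      · exact hvw (mk_eq_iff.mpr (Or.inr rfl))
    · rw [e, neg_mul]
  have hcard : Nat.card (Subgroup.centralizer ({g} : Set SL₂)) = torusOrd (Fintype.card F) := by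
    unfold torusOrd
    split_ifs with h
    · exact card_centralizer_one h2 hg h
    · exact card_centralizer_three h2 hg (by omega)
  obtain ⟨⟨c, hc'⟩, hoc⟩ := exists_prime_orderOf_dvd_card' ℓ (hcard ▸ hd)
  rw [Subgroup.orderOf_mk] at hoc
  rw [Subgroup.mem_centralizer_singleton_iff] at hc'
  refine ⟨PSL2.mk c, ?_, by rw [← map_mul, ← map_mul, hc'], ?_⟩
  · refine orderOf_eq_prime (by rw [← map_pow, ← hoc, pow_orderOf_eq_one, map_one]) fun e => ?_
    rw [← map_one (PSL2.mk : SL₂ →* PSL₂), mk_eq_iff] at e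
    rcases e with e | e
    · rw [← e, orderOf_one] at hoc
      exact hℓ.ne_one hoc.symm
    · have : c ^ 2 = 1 := by
        rw [← neg_eq_iff_eq_neg.mpr e, pow_two]
        simp
      have h' := orderOf_dvd_of_pow_eq_one this
      rw [hoc] at h'
      exact hℓ2 ((Nat.prime_dvd_prime_iff_eq hℓ Nat.prime_two).mp h')
  · rw [← map_inv, ← map_inv, ← map_mul, ← map_mul]
    congr 1
    refine eq_inv_of_mul_eq_one_left (Subtype.ext ?_)
    obtain ⟨a, b, hab⟩ := SL2Centralizer.exists_of_commute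
      (SL2Centralizer.not_scalar_of_trace (g := g) (by rw [hg]; exact zero_sq_ne_four h2))
      (show Commute c.1 g.1 from congrArg Subtype.val hc')
    have e1 : k.1 * g.1 = -(g.1 * k.1) := by
      have := congrArg Subtype.val hkg
      rw [Matrix.SpecialLinearGroup.coe_mul, Matrix.SpecialLinearGroup.coe_mul, Matrix.SpecialLinearGroup.coe_neg,
        neg_mul] at this
      exact this
    have e2 : k.1 * (k⁻¹).1 = 1 := congrArg Subtype.val (mul_inv_cancel k)
    have e3 : g.1 * g.1 = -1 := congrArg Subtype.val (sq_of_trace h2 hg).1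
    have hdet : a * a + b * b = 1 := by
      have h1 := SL2Centralizer.det_lin g a b
      rw [← hab, c.2, hg] at h1
      linear_combination -h1
    show (k.1 * c.1 * (k⁻¹).1) * c.1 = 1
    have e4 : k.1 * c.1 * (k⁻¹).1 = a • (1 : M₂) - b • g.1 := by
      rw [hab, mul_add, mul_smul_comm, mul_smul_comm, mul_one, e1, add_mul, smul_mul_assoc, smul_mul_assoc,
        neg_mul, mul_assoc, e2, mul_one, smul_neg, sub_eq_add_neg]
    rw [e4, hab, sub_mul, mul_add, mul_add, smul_mul_smul_comm, smul_mul_smul_comm, smul_mul_smul_comm,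
      smul_mul_smul_comm, one_mul, one_mul, mul_one, e3, smul_neg]
    conv_rhs => rw [← one_smul F (1 : M₂), ← hdet]
    rw [add_smul, mul_comm b a]
    abel

/-- The torus of `L₂(q)`, `q ≥ 11`, has an odd prime. -/
theorem exists_torus_prime {q : ℕ} (hq : q % 8 = 3 ∨ q % 8 = 5) (h11 : 11 ≤ q) :
    ∃ ℓ, ℓ.Prime ∧ ℓ ≠ 2 ∧ ℓ ∣ torusOrd q := by
  have h : torusOrd q % 8 = 4 ∧ 12 ≤ torusOrd q := by unfold torusOrd; split_ifs <;> omega
  obtain ⟨m, hm⟩ : 4 ∣ torusOrd q := by omega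
  have hodd : ¬ 2 ∣ m := by omega
  refine ⟨m.minFac, Nat.minFac_prime (by omega), fun e => hodd (e ▸ Nat.minFac_dvd m),
    (Nat.minFac_dvd m).trans ⟨4, by rw [hm, mul_comm]⟩⟩

/-- The torus element in a component with cores. -/
theorem Big.torus {K : Type*} [Group K] (hK : Big K) {v w : K} (hv1 : v ≠ 1) (hw1 : w ≠ 1) (hvw : v ≠ w)
    (hv : v * v = 1) (hw : w * w = 1) (hc : v * w = w * v) :
    ∃ u : K, u ≠ 1 ∧ Odd (orderOf u) ∧ v * u = u * v ∧ w * u * w⁻¹ = u⁻¹ := by
  obtain ⟨F, i1, i2, hq, h11, ⟨e⟩⟩ := hK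
  obtain ⟨ℓ, hℓ, hℓ2, hd⟩ := exists_torus_prime hq h11
  have ne : ∀ {x : K}, x ≠ 1 → e x ≠ 1 := fun hx h => hx (e.injective (by rw [h, map_one]))
  obtain ⟨u, ho, hu1, hu2⟩ := torus_elt hq hℓ hℓ2 hd (ne hv1) (ne hw1) (fun h => hvw (e.injective h))
    (by rw [← map_mul, hv, map_one]) (by rw [← map_mul, hw, map_one]) (by rw [← map_mul, ← map_mul, hc])
  refine ⟨e.symm u, fun h => hℓ.ne_one ?_, ?_, e.injective ?_, e.injective ?_⟩
  · rw [← ho, show u = 1 by rw [← e.apply_symm_apply u, h, map_one], orderOf_one]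
  · rw [MulEquiv.orderOf_eq, ho]
    exact hℓ.odd_of_ne_two hℓ2
  · rw [map_mul, map_mul, e.apply_symm_apply, hu1]
  · rw [map_mul, map_mul, map_inv, map_inv, e.apply_symm_apply, hu2]

end CfsgLib.GoldSC
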