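import Cfsg.Agent.Lib.GoldSC.Four.Local
import Cfsg.Agent.Lib.GoldSC.Four.Torus

/-!
The torus elements of a blocked component: they lie in the cores at `A` and in no core at an involution centralising
the component.

Blueprint: `blueprint/Goldschmidt.md`, C2 and C4.
-/

set_option autoImplicit false
set_option linter.unusedSectionVars false
set_option linter.style.haveILetI false

namespace CfsgLib.GoldSC

open Cfsg Subgroup CfsgLib CfsgLib.Comp CfsgLib.AfterFT.CoreSep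
open CfsgLib.S3Simple (Closed Irred oddSolv)
open scoped commutatorElement

universe u

variable {G : Type u} [Group G] [Finite G] {S : Sylow 2 G} {A : Subgroup G}

/-- An element of odd order inverted and centralised is trivial. -/
theorem eq_one_of_inverted {M : Type u} [Group M] {u b : M} (ho : Odd (orderOf u)) (hi : b * u * b⁻¹ = u⁻¹)
    (hc : b * u = u * b) : u = 1 := by
  rw [hc, mul_inv_cancel_right] at hi
  have h2 : u ^ 2 = 1 := by rw [pow_two]; nth_rw 2 [hi]; exact mul_inv_cancel u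
  rw [← orderOf_eq_one_iff]
  rcases (Nat.dvd_prime Nat.prime_two).mp (orderOf_dvd_of_pow_eq_one h2) with e | e
  · exact e
  · rw [e] at ho
    exact absurd ho (Nat.not_odd_iff_even.mpr even_two)

/-- A 2-element power of an element of odd order generates it. -/
theorem mem_of_sq_mem {M : Type u} [Group M] {N : Subgroup M} {u : M} (ho : Odd (orderOf u)) (h : u * u ∈ N) :
    u ∈ N := by
  obtain ⟨k, hk⟩ := ho
  have e : u = (u * u) ^ (k + 1) := by
    rw [← pow_two, ← pow_mul, show 2 * (k + 1) = orderOf u + 1 by omega, pow_succ, pow_orderOf_eq_one, one_mul]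
  rw [e]
  exact pow_mem h _

namespace Ctx4

variable (H : Ctx4 S A)
include H

/-- An element of odd order in `C(α)` inverted by an element of `A` lies in `O(C(α))`. -/
theorem mem_core_of_inverted {α β u : G} (hα : α ∈ A) (hα1 : α ≠ 1) (hβ : β ∈ A) (hu : u ∈ cc α)
    (ho : Odd (orderOf u)) (hi : β * u * β⁻¹ = u⁻¹) : u ∈ centralizerPPrimeCore 2 α := by
  haveI : Fact (Nat.Prime 2) := ⟨Nat.prime_two⟩
  set O := centralizerPPrimeCore 2 α with hO
  have hOc : O ≤ cc α := map_subtype_le _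
  have hAc : A ≤ cc α := fun a ha => AfterFT.CoreSep.mem_cc.mpr (H.comm ha hα)
  have hN : normalizer (A : Set G) ⊓ cc α ≤ normalizer (O : Set G) := inf_le_right.trans (cc_le_normalizer_core α)
  have hu' : u ∈ ((O ⊔ (normalizer (A : Set G) ⊓ cc α) : Subgroup G) : Set G) :=
    H.facts.cc_le S A H.closed H.card α hα hα1 hu
  rw [coe_mul_of_right_le_normalizer_left _ _ hN] at hu'
  obtain ⟨o, ho', n, hn, rfl⟩ := hu'
  obtain ⟨hnA, hnc⟩ := mem_inf.mp hn
  have hoc : o ∈ cc α := hOc ho'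
  have hb' : n * β * n⁻¹ ∈ A := (mem_normalizer_iff.mp hnA β).mp hβ
  have hsq : o * n * (o * n) = o * (n * β * n⁻¹) * o⁻¹ * β := by
    have e2 : (o * n)⁻¹ * β = β * (o * n) := by
      rw [← hi, mul_assoc, inv_mul_cancel, mul_one]
    have e3 : β * β = 1 := H.sq hβ
    calc o * n * (o * n) = o * n * (β * (β * (o * n))) := by rw [← mul_assoc β β, e3, one_mul]
      _ = o * n * (β * ((o * n)⁻¹ * β)) := by rw [e2]
      _ = _ := by group
  have hz : ff α ⟨o * n * (o * n), mul_mem hu hu⟩ = ff α ⟨n * β * n⁻¹ * β, mul_mem (hAc hb') (hAc hβ)⟩ := by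
    rw [show (⟨o * n * (o * n), mul_mem hu hu⟩ : ↥(cc α)) =
      ⟨o, hoc⟩ * ⟨n * β * n⁻¹, hAc hb'⟩ * ⟨o, hoc⟩⁻¹ * ⟨β, hAc hβ⟩ from Subtype.ext hsq, map_mul, map_mul, map_mul,
      map_inv, ff_eq_one hoc ho', one_mul, inv_one, mul_one, ← map_mul]
    rfl
  set q := ff α ⟨o * n * (o * n), mul_mem hu hu⟩ with hq
  have hq2 : q * q = 1 := by
    rw [hz, ← map_mul, show (⟨n * β * n⁻¹ * β, mul_mem (hAc hb') (hAc hβ)⟩ : ↥(cc α)) *
      ⟨n * β * n⁻¹ * β, mul_mem (hAc hb') (hAc hβ)⟩ = 1 from Subtype.ext (H.sq (mul_mem hb' hβ)), map_one]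
  have hq1 : q = 1 := by
    refine orderOf_eq_one_iff.mp ?_
    have h1 : Odd (orderOf (⟨o * n * (o * n), mul_mem hu hu⟩ : ↥(cc α))) := by
      rw [orderOf_mk, ← pow_two]
      exact ho.of_dvd_nat (orderOf_pow_dvd 2)
    have h2 : Odd (orderOf q) := h1.of_dvd_nat (orderOf_map_dvd _ _)
    rcases (Nat.dvd_prime Nat.prime_two).mp (orderOf_dvd_of_pow_eq_one (pow_two q ▸ hq2)) with e | e
    · exact e
    · rw [e] at h2
      exact absurd h2 (Nat.not_odd_iff_even.mpr even_two)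
  exact mem_of_sq_mem ho (mem_core_of_bar hq1)

/-- An element of the component centralising `α` and inverted by `β` lifts, up to a power prime to it, to an element
centralising `α` and `R` and inverted by `β`. -/
theorem exists_torus_lift {y : G} {D : Subgroup (qq y)} (hB : Blk S A y D) {α β : G} (hα : α ∈ A) (hβ : β ∈ A)
    (hα1 : α ≠ 1) {R : Subgroup G} (hR : IsPGroup 2 R) (hRy : R ≤ cc y)
    (hRA : ∀ r ∈ R, ∀ a ∈ A, r * a = a * r)
    (hRD : ∀ r ∈ R, ∀ h : r ∈ cc y, ff y ⟨r, h⟩ ∈ centralizer (D : Set (qq y))) (τ : ↥D) (hτo : Odd (orderOf τ))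
    (hτv : ff y ⟨α, hB.at_.le hα⟩ * (τ : qq y) = (τ : qq y) * ff y ⟨α, hB.at_.le hα⟩)
    (hτw : ff y ⟨β, hB.at_.le hβ⟩ * (τ : qq y) * (ff y ⟨β, hB.at_.le hβ⟩)⁻¹ = (τ : qq y)⁻¹) :
    ∃ u, ∃ h : u ∈ cc y, (∃ e : ℕ, ff y ⟨u, h⟩ = (τ : qq y) ^ 2 ^ e) ∧
      u ∈ centralizerPPrimeCore 2 α ∧ Odd (orderOf u) ∧ β * u * β⁻¹ = u⁻¹ ∧
      u * α = α * u ∧ ∀ r ∈ R, u * r = r * u := by
  haveI : Fact (Nat.Prime 2) := ⟨Nat.prime_two⟩
  have hAy : A ≤ cc y := hB.at_.le
  set v := ff y ⟨α, hAy hα⟩ with hvd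
  set w := ff y ⟨β, hAy hβ⟩ with hwd
  set t : qq y := (τ : qq y) with ht
  have hto : Odd (orderOf t) := by rw [ht, Subgroup.orderOf_coe]; exact hτo
  have htv : v * t = t * v := hτv
  have htw : w * t * w⁻¹ = t⁻¹ := hτw
  -- the 2-group to be centralised
  have hcomm : R ≤ normalizer (zpowers α : Set G) := fun r hr => mem_normalizer_of_maps fun z hz => by
    obtain ⟨k, rfl⟩ := mem_zpowers_iff.mp hz
    rw [← conj_zpow, hRA r hr α hα, mul_inv_cancel_right]
    exact zpow_mem (mem_zpowers α) k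
  set Y := zpowers α ⊔ R with hY
  have hYy : Y ≤ cc y := sup_le (zpowers_le.mpr (hAy hα)) hRy
  have hY2 : IsPGroup 2 Y := (zpowers_two (H.sq hα)).to_sup_of_normal_left' hR hcomm
  have hYp : IsPGroup 2 ↥(Y.subgroupOf (cc y)) := hY2.of_equiv (subgroupOfEquivOfLe hYy).symm
  have htY : t ∈ centralizer (((Y.subgroupOf (cc y)).map (ff y) : Subgroup (qq y)) : Set (qq y)) := by
    suffices hle : Y.subgroupOf (cc y) ≤ (centralizer {t}).comap (ff y) by
      rintro _ ⟨z, hz, rfl⟩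
      exact mem_centralizer_singleton_iff.mp (hle hz)
    suffices hle : Y ≤ ((centralizer {t}).comap (ff y)).map (cc y).subtype from fun z hz => by
      obtain ⟨z', hz', e⟩ := hle hz
      rwa [← Subtype.ext e]
    refine sup_le (zpowers_le.mpr ⟨⟨α, hAy hα⟩, ?_, rfl⟩) fun r hr => ⟨⟨r, hRy hr⟩, ?_, rfl⟩
    · exact mem_centralizer_singleton_iff.mpr htv
    · exact mem_centralizer_singleton_iff.mpr (hRD r hr (hRy hr) t τ.2).symm
  obtain ⟨h, hhY, hht⟩ := (bar_centralizer_two hYp).ge htY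
  set b : ↥(cc y) := ⟨β, hAy hβ⟩ with hbd
  set u0 : ↥(cc y) := h * b * h⁻¹ * b⁻¹ with hu0
  have hbi : b⁻¹ = b := inv_eq_of_mul_eq_one_right (Subtype.ext (H.sq hβ))
  have hu0i : b * u0 * b⁻¹ = u0⁻¹ := by
    rw [hu0, mul_inv_rev, mul_inv_rev, mul_inv_rev, inv_inv, inv_inv, hbi]
    calc b * (h * b * h⁻¹ * b) * b = b * (h * b * h⁻¹) * (b * b) := by group
      _ = b * (h * b * h⁻¹) := by rw [show b * b = 1 from Subtype.ext (H.sq hβ), mul_one]
      _ = _ := by group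
  have hbY : b ∈ centralizer ((Y.subgroupOf (cc y) : Subgroup ↥(cc y)) : Set ↥(cc y)) := by
    intro z hz
    refine Subtype.ext ?_
    have hle : Y ≤ centralizer ({β} : Set G) := sup_le
      (zpowers_le.mpr (mem_centralizer_singleton_iff.mpr (H.comm hα hβ)))
      fun r hr => mem_centralizer_singleton_iff.mpr (hRA r hr β hβ)
    exact mem_centralizer_singleton_iff.mp (hle hz)
  have hu0Y : u0 ∈ centralizer ((Y.subgroupOf (cc y) : Subgroup ↥(cc y)) : Set ↥(cc y)) :=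
    mul_mem (mul_mem (mul_mem hhY hbY) (inv_mem hhY)) (inv_mem hbY)
  have hu0t : ff y u0 = t * t := by
    rw [hu0, map_mul, map_mul, map_mul, map_inv, map_inv, hht, ← hwd]
    calc t * w * t⁻¹ * w⁻¹ = t * (w * t * w⁻¹)⁻¹ := by group
      _ = t * t := by rw [htw, inv_inv]
  obtain ⟨k, m, hm, hkm⟩ := Nat.exists_eq_pow_mul_and_not_dvd (orderOf_pos u0).ne' 2 (by norm_num)
  set u := u0 ^ 2 ^ k with hud
  have hum : orderOf u = m := by
    rw [hud, orderOf_pow_of_dvd (by positivity) (hkm ▸ dvd_mul_right _ _), hkm,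
      Nat.mul_div_cancel_left _ (by positivity)]
  have huo : Odd (orderOf u) := by rw [hum]; exact Nat.odd_iff.mpr (Nat.two_dvd_ne_zero.mp hm)
  have hui : b * u * b⁻¹ = u⁻¹ := by rw [hud, ← conj_pow, hu0i, inv_pow]
  have huY := pow_mem hu0Y (2 ^ k)
  have huYG : ∀ z ∈ Y, (u : G) * z = z * u := fun z hz => by
    exact (congrArg Subtype.val (huY ⟨z, hYy hz⟩ hz)).symm
  have huα : (u : G) * α = α * u := huYG α (mem_sup_left (mem_zpowers α))
  refine ⟨u, u.2, ⟨k + 1, ?_⟩, H.mem_core_of_inverted hα hα1 hβ (AfterFT.CoreSep.mem_cc.mpr huα)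
    (by rw [Subgroup.orderOf_coe]; exact huo) (congrArg Subtype.val hui), by rw [Subgroup.orderOf_coe]; exact huo,
    congrArg Subtype.val hui, huα, fun r hr => huYG r (mem_sup_right hr)⟩
  show ff y u = t ^ 2 ^ (k + 1)
  rw [hud, map_pow, hu0t, ← pow_two, ← pow_mul, pow_succ']

/-- The torus element: it centralises `α` and `R`, and `β` inverts it. -/
theorem exists_torus {y : G} {D : Subgroup (qq y)} (hB : Blk S A y D) {α β : G} (hα : α ∈ A) (hβ : β ∈ A)
    (hα1 : α ≠ 1) (hβ1 : β ≠ 1) (hne : α ≠ β) {R : Subgroup G} (hR : IsPGroup 2 R) (hRy : R ≤ cc y)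
    (hRA : ∀ r ∈ R, ∀ a ∈ A, r * a = a * r)
    (hRD : ∀ r ∈ R, ∀ h : r ∈ cc y, ff y ⟨r, h⟩ ∈ centralizer (D : Set (qq y))) :
    ∃ u, ∃ h : u ∈ cc y, ff y ⟨u, h⟩ ∉ centralizer (D : Set (qq y)) ∧ ff y ⟨u, h⟩ ∈ D ∧
      u ∈ centralizerPPrimeCore 2 α ∧ Odd (orderOf u) ∧ β * u * β⁻¹ = u⁻¹ ∧
      u * α = α * u ∧ ∀ r ∈ R, u * r = r * u := by
  haveI : Fact (Nat.Prime 2) := ⟨Nat.prime_two⟩
  have hAt := hB.at_
  have hAy : A ≤ cc y := hAt.le
  set v := ff y ⟨α, hAy hα⟩ with hvd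
  set w := ff y ⟨β, hAy hβ⟩ with hwd
  have hvD : v ∈ D := H.imQ_le hAt (mem_imQ hα _)
  have hwD : w ∈ D := H.imQ_le hAt (mem_imQ hβ _)
  have hv1 : v ≠ 1 := ne_one_imQ (H.sq hα) hα1 _
  have hw1 : w ≠ 1 := ne_one_imQ (H.sq hβ) hβ1 _
  have hvw : v ≠ w := fun e => hne (ff_inj H.isPGroup hα hβ _ _ e)
  obtain ⟨τ, hτ1, hτo, hτv, hτw⟩ := hB.big.torus (v := (⟨v, hvD⟩ : ↥D)) (w := ⟨w, hwD⟩)
    (fun e => hv1 (congrArg Subtype.val e)) (fun e => hw1 (congrArg Subtype.val e))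
    (fun e => hvw (congrArg Subtype.val e)) (Subtype.ext (hAt.imQ_sq (mem_imQ hα _)))
    (Subtype.ext (hAt.imQ_sq (mem_imQ hβ _))) (Subtype.ext (hAt.imQ_comm (mem_imQ hα _) (mem_imQ hβ _)))
  obtain ⟨u, hu, ⟨e, he⟩, h1, h2, h3, h4, h5⟩ := H.exists_torus_lift hB hα hβ hα1 hR hRy hRA hRD τ hτo
    (congrArg Subtype.val hτv) (congrArg Subtype.val hτw)
  refine ⟨u, hu, fun hc => hτ1 (Subtype.ext ?_), he ▸ pow_mem τ.2 _, h1, h2, h3, h4, h5⟩
  have hune : ff y ⟨u, hu⟩ = 1 := by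
    have huo' : Odd (orderOf (⟨u, hu⟩ : ↥(cc y))) := by rw [orderOf_mk]; exact h2
    refine eq_one_of_inverted (b := w) (huo'.of_dvd_nat (orderOf_map_dvd _ _)) ?_ (hc w hwD)
    rw [hwd, ← map_inv, ← map_inv, ← map_mul, ← map_mul]
    exact congrArg (ff y) (Subtype.ext h3)
  rw [hune] at he
  have hco : (orderOf (τ : qq y)).Coprime (2 ^ e) := by
    rw [Subgroup.orderOf_coe]
    exact (Nat.coprime_two_right.mpr hτo).pow_right _
  exact orderOf_eq_one_iff.mp (hco.eq_one_of_dvd (orderOf_dvd_of_pow_eq_one he.symm))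

omit H in
/-- It lies in no core at an involution centralising the component. -/
theorem _root_.CfsgLib.GoldSC.not_mem_core {y : G} {D : Subgroup (qq y)} (hD : IsComponent D) {u z : G}
    (hu : u ∈ cc y) (hnc : ff y ⟨u, hu⟩ ∉ centralizer (D : Set (qq y))) (hz : z ∈ cc y) (hz2 : z * z = 1)
    (hzD : ff y ⟨z, hz⟩ ∈ centralizer (D : Set (qq y))) : u ∉ centralizerPPrimeCore 2 z := fun hw =>
  hnc (CfsgLib.S3Simple.core_centralizes_component hz hz2 hw hu hD hzD)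

end Ctx4

end CfsgLib.GoldSC
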