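import Cfsg.Agent.Lib.GoldSC.Four.Torus
import Cfsg.Agent.Lib.GW.Model.NoField
import Cfsg.Agent.Lib.DicksonFull.Subgroups

/-!
A prime `ℓ` of the torus of `L₂(q)`, `q ≡ 3, 5 mod 8`, prime to the degree of the field: the automorphisms of order `ℓ`
fixing an involution lie in the torus, and the centraliser of an involution is a maximal subgroup.

Blueprint: `blueprint/Goldschmidt.md`, C4.
-/

set_option autoImplicit false
set_option linter.unusedSectionVars false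
set_option linter.style.haveILetI false

namespace CfsgLib.GoldSC

open Matrix CfsgLib.PSL2Klein
open scoped MatrixGroups

/-- What C4 needs of the prime `ℓ`. -/
structure TorusPrime (K : Type*) [Group K] (ℓ : ℕ) : Prop where
  simple : IsSimpleGroup K
  nonabel : ¬ IsMulCommutative K
  torus : ∀ v w : K, v ≠ 1 → w ≠ 1 → v ≠ w → v * v = 1 → w * w = 1 → v * w = w * v →
    ∃ u : K, orderOf u = ℓ ∧ v * u = u * v ∧ w * u * w⁻¹ = u⁻¹
  inner : ∀ t : K, t ≠ 1 → t * t = 1 → ∃ d : K, d ^ ℓ = 1 ∧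
    ∀ φ : MulAut K, φ ^ ℓ = 1 → φ t = t → ∃ j : ℕ, φ = MulAut.conj (d ^ j)
  maximal : ∀ t : K, t ≠ 1 → t * t = 1 → ∀ M : Subgroup K, (∀ z, z * t = t * z → z ∈ M) →
    ∀ u ∈ M, u * t ≠ t * u → M = ⊤

theorem TorusPrime.of_equiv {K L : Type*} [Group K] [Group L] {ℓ : ℕ} (T : TorusPrime K ℓ) (e : K ≃* L) :
    TorusPrime L ℓ := by
  have hes : ∀ {x : L}, x ≠ 1 → e.symm x ≠ 1 := fun {x} hx h => hx (by
    rw [← e.apply_symm_apply x, h, map_one])
  refine ⟨e.isSimpleGroup_congr.mp T.simple, fun h => T.nonabel ⟨⟨fun a b => e.injective ?_⟩⟩, ?_, ?_, ?_⟩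
  · rw [map_mul, map_mul]
    exact h.is_comm.comm _ _
  · intro v w hv hw hvw hv2 hw2 hc
    obtain ⟨u, ho, h1, h2⟩ := T.torus (e.symm v) (e.symm w) (hes hv) (hes hw) (fun h => hvw (e.symm.injective h))
      (by rw [← map_mul, hv2, map_one]) (by rw [← map_mul, hw2, map_one]) (by rw [← map_mul, ← map_mul, hc])
    refine ⟨e u, by rw [MulEquiv.orderOf_eq, ho], e.symm.injective ?_, e.symm.injective ?_⟩
    · rw [map_mul, map_mul, e.symm_apply_apply, h1]
    · rw [map_mul, map_mul, map_inv, map_inv, e.symm_apply_apply, h2]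
  · intro t ht ht2
    obtain ⟨d, hd, h⟩ := T.inner (e.symm t) (hes ht) (by rw [← map_mul, ht2, map_one])
    refine ⟨e d, by rw [← map_pow, hd, map_one], fun φ hφ hφt => ?_⟩
    set ψ : MulAut K := (MulAut.congr e).symm φ with hψ
    obtain ⟨j, hj⟩ := h ψ (by rw [hψ, ← map_pow, hφ, map_one]) (by
      show e.symm (φ (e (e.symm t))) = e.symm t
      rw [e.apply_symm_apply, hφt])
    refine ⟨j, ?_⟩
    have hφe : φ = (MulAut.congr e) ψ := by rw [hψ, MulEquiv.apply_symm_apply]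
    rw [hφe, hj]
    refine MulEquiv.ext fun z => ?_
    show e (d ^ j * e.symm z * (d ^ j)⁻¹) = e d ^ j * z * (e d ^ j)⁻¹
    rw [map_mul, map_mul, map_inv, map_pow, e.apply_symm_apply]
  · intro t ht ht2 M hM u hu hut
    have h := T.maximal (e.symm t) (hes ht) (by rw [← map_mul, ht2, map_one]) (M.comap e.toMonoidHom)
      (fun z hz => hM (e z) (by
        have h1 := congrArg e hz
        rwa [map_mul, map_mul, e.apply_symm_apply] at h1))
      (e.symm u) (show e (e.symm u) ∈ M by rwa [e.apply_symm_apply])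
      (fun h => hut (e.symm.injective (by rw [map_mul, map_mul, h])))
    refine eq_top_iff.mpr fun z _ => ?_
    have h1 : e.symm z ∈ M.comap e.toMonoidHom := h ▸ Subgroup.mem_top _
    have h2 : e (e.symm z) ∈ M := h1
    rwa [e.apply_symm_apply] at h2

/-- A prime of the torus prime to the degree. -/
theorem exists_prime_not_dvd {p f : ℕ} (hp : p.Prime) (hq : p ^ f % 8 = 3 ∨ p ^ f % 8 = 5) (h11 : 11 ≤ p ^ f) :
    ∃ ℓ, ℓ.Prime ∧ ℓ ≠ 2 ∧ ℓ ∣ torusOrd (p ^ f) ∧ ¬ ℓ ∣ f := by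
  have hp3 : 3 ≤ p := by
    have := hp.two_le
    by_contra hlt
    obtain rfl : p = 2 := by omega
    rcases Nat.eq_zero_or_pos f with rfl | hf
    · simp at h11
    · have := dvd_pow_self 2 hf.ne'
      omega
  have hfodd : f % 2 = 1 := by
    by_contra he
    obtain ⟨k, rfl⟩ : ∃ k, f = 2 * k := ⟨f / 2, by omega⟩
    obtain ⟨m, hm⟩ := hp.odd_of_ne_two (by omega)
    rw [pow_mul, Nat.pow_mod] at hq
    have h8 : p ^ 2 % 8 = 1 := by
      rw [hm, show (2 * m + 1) ^ 2 = 4 * (m * (m + 1)) + 1 by ring]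
      obtain ⟨c, hc⟩ := Nat.even_mul_succ_self m
      rw [hc]
      omega
    rw [h8, one_pow] at hq
    omega
  rcases eq_or_lt_of_le (show 1 ≤ f by omega) with rfl | hf
  · obtain ⟨ℓ, h1, h2, h3⟩ := exists_torus_prime hq h11
    exact ⟨ℓ, h1, h2, h3, fun h => h1.ne_one (Nat.dvd_one.mp h)⟩
  have hne : f.primeFactors.Nonempty := Nat.nonempty_primeFactors.mpr hf
  set r := f.primeFactors.max' hne with hr
  obtain ⟨hrp, hrf, -⟩ := Nat.mem_primeFactors.mp (Finset.max'_mem _ hne)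
  have hr2 : r ≠ 2 := fun e => by
    have h2 : 2 ∣ f := e ▸ hrf
    omega
  obtain ⟨s, hs⟩ := hrf
  set n := p ^ s with hn
  have hnr : n ^ r = p ^ f := by rw [hn, ← pow_mul, hs, mul_comm r s]
  have hn3 : 3 ≤ n := by
    rcases Nat.eq_zero_or_pos s with rfl | hs0
    · rw [mul_zero] at hs; omega
    · exact hp3.trans (Nat.le_self_pow hs0.ne' p)
  obtain ⟨ε, hε, hT⟩ : ∃ ε : ℤ, (ε = 1 ∨ ε = -1) ∧ (torusOrd (p ^ f) : ℤ) = (n : ℤ) ^ r - ε := by
    have hc : ((n : ℤ) ^ r) = ((p ^ f : ℕ) : ℤ) := by rw [← hnr]; push_cast; ring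
    rw [hc]
    unfold torusOrd
    split_ifs with h
    · exact ⟨1, Or.inl rfl, by rw [Nat.cast_sub (by omega)]; rfl⟩
    · exact ⟨-1, Or.inr rfl, by push_cast; ring⟩
  obtain ⟨ℓ, hℓ, hℓr, hℓ2, hℓT, hℓm, hℓp⟩ := CfsgLib.GW.Model.exists_primitive hn3 hrp hr2 hε
  rw [← hT] at hℓT
  refine ⟨ℓ, hℓ, hℓ2, Int.natCast_dvd_natCast.mp hℓT, fun hd => ?_⟩
  have hlt : ℓ < r := lt_of_le_of_ne (Finset.le_max' _ _ (Nat.mem_primeFactors.mpr ⟨hℓ, hd, by omega⟩)) hℓr
  haveI : Fact ℓ.Prime := ⟨hℓ⟩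
  haveI : Fact r.Prime := ⟨hrp⟩
  rw [hT] at hℓT
  have h0 := (ZMod.intCast_zmod_eq_zero_iff_dvd _ ℓ).mpr hℓT
  push_cast at h0
  set z : ZMod ℓ := (ε : ZMod ℓ) * (n : ZMod ℓ) with hz
  have hee : (ε : ZMod ℓ) * (ε : ZMod ℓ) = 1 := by rcases hε with rfl | rfl <;> simp
  have hzr : z ^ r = 1 := by
    have her' : ε ^ r = ε := by
      rcases hε with rfl | rfl
      · exact one_pow r
      · exact (hrp.odd_of_ne_two hr2).neg_one_pow
    have her : (ε : ZMod ℓ) ^ r = ε := by rw [← Int.cast_pow, her']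
    rw [hz, mul_pow, her, sub_eq_zero.mp h0, hee]
  have hz1 : z ≠ 1 := fun e => by
    have hn' : (n : ZMod ℓ) = (ε : ZMod ℓ) := by
      calc (n : ZMod ℓ) = (ε : ZMod ℓ) * z := by rw [hz, ← mul_assoc, hee, one_mul]
        _ = _ := by rw [e, mul_one]
    rcases hε with rfl | rfl
    · refine hℓm ((ZMod.natCast_eq_zero_iff _ ℓ).mp ?_)
      rw [Nat.cast_sub (by omega), hn']
      simp
    · refine hℓp ((ZMod.natCast_eq_zero_iff _ ℓ).mp ?_)
      rw [Nat.cast_add, hn']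
      simp
  have hz0 : z ≠ 0 := fun e => by rw [e, zero_pow hrp.ne_zero] at hzr; exact zero_ne_one hzr
  have h1 := orderOf_dvd_of_pow_eq_one (ZMod.pow_card_sub_one_eq_one hz0)
  rw [orderOf_eq_prime hzr hz1] at h1
  have := Nat.le_of_dvd (by have := hℓ.two_le; omega) h1
  omega

variable {F : Type} [Field F] [Fintype F]

local notation "SL₂" => Matrix.SpecialLinearGroup (Fin 2) F
local notation "PSL₂" => Matrix.ProjectiveSpecialLinearGroup (Fin 2) F

/-- An automorphism of odd order prime to the degree is inner. -/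
theorem inner_of_pow (p f : ℕ) [Fact p.Prime] [CharP F p] (hf : Fintype.card F = p ^ f) {ℓ : ℕ}
    (hℓ : ℓ.Prime) (hℓ2 : ℓ ≠ 2) (hℓf : ¬ ℓ ∣ f) {φ : MulAut PSL₂} (hφ : φ ^ ℓ = 1) :
    ∃ d : PSL₂, φ = MulAut.conj d := by
  haveI : Finite (RingAut F) := Finite.of_injective (fun g : RingAut F => (g : F → F)) DFunLike.coe_injective
  set e := CfsgLib.PSL2.fieldPart p φ with he
  have hel : e ^ ℓ = 1 := by rw [he, ← map_pow, hφ, map_one]
  have he1 : e = 1 := by
    rcases (Nat.dvd_prime hℓ).mp (orderOf_dvd_of_pow_eq_one hel) with h | h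
    · exact orderOf_eq_one_iff.mp h
    · refine absurd ?_ hℓf
      have hc := CfsgLib.GW.Model.card_fixField e
      rw [hf, h] at hc
      obtain ⟨j, -, hj⟩ := (Nat.dvd_prime_pow Fact.out).mp (hc ▸ dvd_pow_self _ hℓ.ne_zero)
      rw [hj, ← pow_mul] at hc
      exact ⟨j, by rw [← Nat.pow_right_injective (Fact.out : p.Prime).two_le hc, mul_comm]⟩
  obtain ⟨g, hg⟩ := CfsgLib.PSL2.exists_of_fieldPart_eq_one p he1
  obtain ⟨c, A, rfl⟩ := CfsgLib.PSL2.exists_dil_mul g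
  obtain ⟨k, hk⟩ := hℓ.odd_of_ne_two hℓ2
  obtain ⟨x, hx⟩ := (CfsgLib.PSL2.dil_inner_iff (c * c)).mpr ⟨c, sq c⟩
  have h2 : φ * φ ∈ (MulAut.conj : PSL₂ →* MulAut PSL₂).range := by
    rw [hg, map_mul, CfsgLib.PSL2.diagAut_toGL]
    set δ : MulAut PSL₂ := CfsgLib.PSL2.diagAut (CfsgLib.PSL2.dil c) with hδ
    set a : PSL₂ := CfsgLib.PSL2.mk A with ha
    refine ⟨δ a * x * a, ?_⟩
    have hxx : δ * δ = MulAut.conj x := by rw [hδ, ← map_mul, ← map_mul, hx]
    have hcj : MulAut.conj (δ a) = δ * MulAut.conj a * δ⁻¹ := by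
      refine MulEquiv.ext fun z => ?_
      show δ a * z * (δ a)⁻¹ = δ (a * δ⁻¹ z * a⁻¹)
      rw [map_mul, map_mul, map_inv, MulAut.apply_inv_self]
    rw [map_mul, map_mul, hcj, ← hxx]
    group
  obtain ⟨d, hd⟩ := h2
  refine ⟨d ^ (k + 1), ?_⟩
  rw [map_pow, hd, ← pow_two, ← pow_mul, show 2 * (k + 1) = ℓ + 1 by omega, pow_succ, hφ, one_mul]

/-- The elements of order `ℓ` centralising an involution form one cyclic group. -/
theorem exists_torus_gen (hq : Fintype.card F % 8 = 3 ∨ Fintype.card F % 8 = 5) {ℓ : ℕ} (hℓ : ℓ.Prime)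
    (hℓ2 : ℓ ≠ 2) (hd : ℓ ∣ torusOrd (Fintype.card F)) {t : PSL₂} (ht : t ≠ 1) (ht2 : t * t = 1) :
    ∃ d : PSL₂, d ^ ℓ = 1 ∧ ∀ c : PSL₂, c ^ ℓ = 1 → c * t = t * c → ∃ j : ℕ, c = d ^ j := by
  haveI : Fact ℓ.Prime := ⟨hℓ⟩
  have h2 := two_ne_of_card hq
  obtain ⟨k, hk⟩ := hℓ.odd_of_ne_two hℓ2
  obtain ⟨g, rfl⟩ := QuotientGroup.mk'_surjective _ t
  have hg : g.1.trace = 0 := (invol_iff h2).mp ⟨ht, ht2⟩
  set C := Subgroup.centralizer ({g} : Set SL₂) with hC
  haveI : IsCyclic C := (CfsgLib.SL2Tori.isCyclic_centralizer (x := g) (by rw [hg]; exact zero_sq_ne_four h2)).1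
  have hcard : Nat.card C = torusOrd (Fintype.card F) := by
    unfold torusOrd
    split_ifs with h
    · exact card_centralizer_one h2 hg h
    · exact card_centralizer_three h2 hg (by omega)
  obtain ⟨c₀, hc₀⟩ := exists_prime_orderOf_dvd_card' (G := C) ℓ (hcard ▸ hd)
  refine ⟨PSL2.mk (c₀ : SL₂), by
    rw [← map_pow, ← SubmonoidClass.coe_pow, ← hc₀, pow_orderOf_eq_one, OneMemClass.coe_one, map_one], ?_⟩
  intro c hc hct
  obtain ⟨w, rfl⟩ := QuotientGroup.mk'_surjective _ c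
  obtain ⟨w', hww, hw⟩ : ∃ w' : SL₂, (QuotientGroup.mk' _ w' : PSL₂) = QuotientGroup.mk' _ w ∧ w' ^ ℓ = 1 := by
    rw [← map_pow, ← map_one (QuotientGroup.mk' (Subgroup.center SL₂))] at hc
    rcases (mk_eq_iff (A := w ^ ℓ) (B := 1)).mp hc with e | e
    · exact ⟨w, rfl, e.symm⟩
    · refine ⟨-w, mk_eq_iff.mpr (Or.inr (neg_neg w).symm), ?_⟩
      rw [Odd.neg_pow ⟨k, hk⟩, ← e]
  rw [← hww] at hct ⊢
  clear hww hc w
  rename' w' => w
  rw [← map_mul, ← map_mul] at hct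
  have hwg : Commute w g := by
    rcases (mk_eq_iff (A := w * g) (B := g * w)).mp hct with e | e
    · exact e.symm
    · exfalso
      have hw2 : Commute (w * w) g := by
        show w * w * g = g * (w * w)
        rw [← mul_assoc g, e, neg_mul, mul_assoc w g w, e, mul_neg, neg_neg, mul_assoc]
      have hwe : w = (w * w) ^ (k + 1) := by
        rw [← pow_two, ← pow_mul, show 2 * (k + 1) = ℓ + 1 by omega, pow_succ, hw, one_mul]
      have h3 : Commute w g := hwe ▸ hw2.pow_left (k + 1)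
      exact not_anti_of_comm h2 h3.eq.symm (by rw [e, neg_mul])
  obtain ⟨j, hj⟩ : ∃ j : ℕ, (c₀ ^ j : C) = ⟨w, Subgroup.mem_centralizer_singleton_iff.mpr hwg.eq⟩ := by
    set W : C := ⟨w, Subgroup.mem_centralizer_singleton_iff.mpr hwg.eq⟩
    by_cases hW : W = 1
    · exact ⟨0, by rw [hW, pow_zero]⟩
    have hoW : orderOf W = ℓ := orderOf_eq_prime (Subtype.ext hw) hW
    have hcomm : ∀ a b : C, Commute a b := fun a b => IsCyclic.commGroup.mul_comm a b
    let K : Subgroup C :=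
      { carrier := {x | x ^ ℓ = 1}
        one_mem' := one_pow ℓ
        mul_mem' := fun {a b} ha hb => by
          show (a * b) ^ ℓ = 1
          rw [(hcomm a b).mul_pow, show a ^ ℓ = 1 from ha, show b ^ ℓ = 1 from hb, one_mul]
        inv_mem' := fun {a} ha => by
          show a⁻¹ ^ ℓ = 1
          rw [inv_pow, show a ^ ℓ = 1 from ha, inv_one] }
    have hKc : Nat.card K ∣ ℓ := by
      rw [← IsCyclic.exponent_eq_card]
      exact Monoid.exponent_dvd_of_forall_pow_eq_one fun x => Subtype.ext x.2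
    have hKle : ∀ x : C, x ^ ℓ = 1 → orderOf x = ℓ → Subgroup.zpowers x = K := fun x hx ho =>
      Subgroup.eq_of_le_of_card_ge (Subgroup.zpowers_le.mpr hx)
        (by rw [Nat.card_zpowers, ho]; exact Nat.le_of_dvd hℓ.pos hKc)
    have heq : Subgroup.zpowers c₀ = Subgroup.zpowers W :=
      (hKle c₀ (by rw [← hc₀, pow_orderOf_eq_one]) hc₀).trans (hKle W (Subtype.ext hw) hoW).symm
    exact Submonoid.mem_powers_iff _ _ |>.mp (mem_powers_iff_mem_zpowers.mpr (heq ▸ Subgroup.mem_zpowers W))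
  exact ⟨j, by rw [← map_pow, ← SubmonoidClass.coe_pow, hj]⟩

/-- The centraliser of an involution is maximal. -/
theorem centralizer_maximal (hq : Fintype.card F % 8 = 3 ∨ Fintype.card F % 8 = 5) (h11 : 11 ≤ Fintype.card F)
    {t : PSL₂} (ht : t ≠ 1) (ht2 : t * t = 1) : IsCoatom (Subgroup.centralizer ({t} : Set PSL₂)) := by
  have h2 := two_ne_of_card hq
  obtain ⟨p, hp⟩ := CharP.exists F
  haveI := Fact.mk (CharP.char_is_prime F p)
  have hodd : Odd (Fintype.card F) := Nat.odd_iff.mpr (by omega)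
  haveI : IsSimpleGroup PSL₂ := CfsgLib.JankoReeMult.psl_simple (by omega)
  set n := torusOrd (Fintype.card F) / 2 with hn
  have h4 : torusOrd (Fintype.card F) % 8 = 4 ∧ 12 ≤ torusOrd (Fintype.card F) := by
    unfold torusOrd; split_ifs <;> omega
  have hg : Nat.gcd 2 (Fintype.card F - 1) = 2 := Nat.gcd_eq_left (by omega)
  obtain ⟨M, hM, ⟨e⟩⟩ := CfsgLib.DicksonFull.coatom_dihedral (F := F) p (n := n) (by omega)
    (by rw [hg, hn]; unfold torusOrd; split_ifs <;> omega) (fun h => by omega)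
  set z : DihedralGroup n := DihedralGroup.r ((n / 2 : ℕ) : ZMod n) with hz
  have hz1 : z ≠ 1 := fun h => by
    rw [hz, DihedralGroup.one_def, DihedralGroup.r.injEq, ZMod.natCast_eq_zero_iff] at h
    have := Nat.le_of_dvd (by omega) h
    omega
  have hzn : ((n / 2 : ℕ) : ZMod n) + ((n / 2 : ℕ) : ZMod n) = 0 := by
    rw [← Nat.cast_add, show n / 2 + n / 2 = n by omega, ZMod.natCast_self]
  have hz2 : z * z = 1 := by rw [hz, DihedralGroup.r_mul_r, hzn, DihedralGroup.one_def]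
  have hzc : ∀ g, z * g = g * z := by
    rintro (i | i)
    · rw [hz, DihedralGroup.r_mul_r, DihedralGroup.r_mul_r, add_comm]
    · rw [hz, DihedralGroup.r_mul_sr, DihedralGroup.sr_mul_r, sub_eq_add_neg, neg_eq_of_add_eq_zero_left hzn]
  set s : PSL₂ := ((e.symm z : M) : PSL₂) with hs
  have hs1 : s ≠ 1 := fun h => hz1 (e.symm.injective (Subtype.ext (h.trans (by rw [map_one]; rfl))))
  have hs2 : s * s = 1 := by rw [hs, ← Subgroup.coe_mul, ← map_mul, hz2, map_one]; rfl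
  have hle : M ≤ Subgroup.centralizer ({s} : Set PSL₂) := fun m hm => by
    refine Subgroup.mem_centralizer_singleton_iff.mpr ?_
    have h1 := congrArg (fun g : DihedralGroup n => ((e.symm g : M) : PSL₂)) (hzc (e ⟨m, hm⟩))
    simp only [map_mul, Subgroup.coe_mul, e.symm_apply_apply] at h1
    exact h1.symm
  have hne : Subgroup.centralizer ({s} : Set PSL₂) ≠ ⊤ := fun h => by
    have hsc : s ∈ Subgroup.center PSL₂ := Subgroup.mem_center_iff.mpr fun g =>
      (Subgroup.mem_centralizer_singleton_iff.mp (h ▸ Subgroup.mem_top g))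
    rcases (inferInstance : (Subgroup.center PSL₂).Normal).eq_bot_or_eq_top with e' | e'
    · exact hs1 (Subgroup.mem_bot.mp (e' ▸ hsc))
    · exact CfsgLib.JankoReeMult.psl_nonabelian hodd (by omega)
        ⟨⟨fun a b => (Subgroup.mem_center_iff.mp (e' ▸ Subgroup.mem_top b : b ∈ Subgroup.center PSL₂)) a⟩⟩
  have hMs : Subgroup.centralizer ({s} : Set PSL₂) = M := by
    rcases hM.le_iff.mp hle with h | h
    · exact absurd h hne
    · exact h
  obtain ⟨g, rfl⟩ := QuotientGroup.mk'_surjective _ t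
  obtain ⟨g', hg'⟩ := QuotientGroup.mk'_surjective _ s
  obtain ⟨c, hc⟩ := isConj_iff.mp (isConj_trace_zero h2 ((invol_iff h2).mp ⟨hg' ▸ hs1, hg' ▸ hs2⟩)
    ((invol_iff h2).mp ⟨ht, ht2⟩))
  set γ : PSL₂ := QuotientGroup.mk' _ c with hγ
  have hγs : γ * s * γ⁻¹ = QuotientGroup.mk' _ g := by rw [hγ, ← hg', ← map_inv, ← map_mul, ← map_mul, hc]
  have hmap : Subgroup.centralizer ({QuotientGroup.mk' _ g} : Set PSL₂) = M.map (MulAut.conj γ).toMonoidHom := by
    rw [← hMs, ← hγs]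
    ext y
    rw [Subgroup.mem_map_equiv, MulAut.conj_symm_apply, Subgroup.mem_centralizer_singleton_iff,
      Subgroup.mem_centralizer_singleton_iff]
    constructor
    · intro h
      calc γ⁻¹ * y * γ * s = γ⁻¹ * (y * (γ * s * γ⁻¹)) * γ := by group
        _ = γ⁻¹ * (γ * s * γ⁻¹ * y) * γ := by rw [h]
        _ = s * (γ⁻¹ * y * γ) := by group
    · intro h
      calc y * (γ * s * γ⁻¹) = γ * (γ⁻¹ * y * γ * s) * γ⁻¹ := by group
        _ = γ * (s * (γ⁻¹ * y * γ)) * γ⁻¹ := by rw [h]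
        _ = γ * s * γ⁻¹ * y := by group
  rw [hmap]
  exact ((OrderIso.isCoatom_iff (MulEquiv.mapSubgroup (MulAut.conj γ)) M).mpr hM :)

/-- The prime of a component with cores. -/
theorem Big.exists_prime {K : Type*} [Group K] (hK : Big K) : ∃ ℓ, ℓ.Prime ∧ ℓ ≠ 2 ∧ TorusPrime K ℓ := by
  obtain ⟨F, i1, i2, hq, h11, ⟨e⟩⟩ := hK
  obtain ⟨p, hp⟩ := CharP.exists F
  haveI := Fact.mk (CharP.char_is_prime F p)
  obtain ⟨f, -, hf⟩ := FiniteField.card F p
  obtain ⟨ℓ, hℓ, hℓ2, hd, hℓf⟩ := exists_prime_not_dvd (Fact.out : p.Prime) (hf ▸ hq) (hf ▸ h11)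
  rw [← hf] at hd
  have hodd : Odd (Fintype.card F) := Nat.odd_iff.mpr (by omega)
  refine ⟨ℓ, hℓ, hℓ2, TorusPrime.of_equiv ?_ e.symm⟩
  refine ⟨CfsgLib.JankoReeMult.psl_simple (by omega), CfsgLib.JankoReeMult.psl_nonabelian hodd (by omega),
    fun v w hv hw hvw hv2 hw2 hc => torus_elt hq hℓ hℓ2 hd hv hw hvw hv2 hw2 hc, fun t ht ht2 => ?_,
    fun t ht ht2 M hM u hu hut => ?_⟩
  · obtain ⟨d, hdl, hgen⟩ := exists_torus_gen hq hℓ hℓ2 hd ht ht2
    refine ⟨d, hdl, fun φ hφ hφt => ?_⟩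
    obtain ⟨c, rfl⟩ := inner_of_pow p f hf hℓ hℓ2 hℓf hφ
    obtain ⟨j, hj⟩ := hgen c (CfsgLib.GW.conj_psl_injective (by rw [map_pow, hφ, map_one]))
      (mul_inv_eq_iff_eq_mul.mp hφt)
    exact ⟨j, by rw [hj]⟩
  · rcases (centralizer_maximal hq h11 ht ht2).le_iff.mp
      (fun z hz => hM z (Subgroup.mem_centralizer_singleton_iff.mp hz)) with h | h
    · exact h
    · exact absurd (Subgroup.mem_centralizer_singleton_iff.mp (h ▸ hu)) hut

end CfsgLib.GoldSC
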