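import Cfsg.Agent.Lib.GoldSC.Four.Sixteen
import Cfsg.Agent.Lib.GoldSC.Four.Prime

/-!
C4, the end: with the functor trivial, the elements of order `ℓ` of `[O_x, A] (O_x ∩ O(C(A)))` form a group of order `ℓ³`,
split into three lines by `A`; an element of the component at `x` of order `ℓ` fixes one of them, and so does the
centraliser of an involution of the component, hence the whole component, whose involutions would centralise it.

Blueprint: `blueprint/Goldschmidt.md`, C4.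
-/

set_option autoImplicit false
set_option linter.unusedSectionVars false
set_option linter.style.haveILetI false

namespace CfsgLib.GoldSC

open Cfsg Subgroup CfsgLib CfsgLib.Comp CfsgLib.AfterFT.CoreSep
open CfsgLib.S3Simple (Closed Irred oddSolv)
open scoped commutatorElement

universe u

variable {G : Type u} [Group G] [Finite G] {S : Sylow 2 G} {A : Subgroup G}

theorem pow_mul_inv_mem {N : Subgroup G} {w c : G} (hc : c ∈ normalizer (N : Set G)) (h : w * c⁻¹ ∈ N) (n : ℕ) :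
    w ^ n * (c ^ n)⁻¹ ∈ N := by
  induction n with
  | zero => simp
  | succ n ih =>
    have e : w ^ (n + 1) * (c ^ (n + 1))⁻¹ =
        w ^ n * (c ^ n)⁻¹ * (c ^ n * (w * c⁻¹) * (c ^ n)⁻¹) := by
      rw [pow_succ w, pow_succ c]; group
    rw [e]
    exact mul_mem ih ((mem_normalizer_iff.mp (pow_mem hc n) _).mp h)

theorem odd_order_core {x z : G} (hz : z ∈ centralizerPPrimeCore 2 x) : Odd (orderOf z) := by
  haveI : Fact (Nat.Prime 2) := ⟨Nat.prime_two⟩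
  exact (odd_card_core x).of_dvd_nat (Subgroup.orderOf_dvd_natCard _ hz)

/-- An element of odd order of `C(y)` normalising `D` and inverted by one centralising `D` centralises `D`. -/
theorem cent_of_inverted {y u s : G} {D : Subgroup (qq y)} (hu : u ∈ cc y) (hs : s ∈ cc y)
    (hN : ff y ⟨u, hu⟩ ∈ normalizer (D : Set (qq y))) (hsD : CentAt y D s) (ho : Odd (orderOf u))
    (hi : s * u * s⁻¹ = u⁻¹) : CentAt y D u := fun h => by
  refine mem_of_sq_mem (u := ff y ⟨u, h⟩) ((show Odd (orderOf (⟨u, h⟩ : ↥(cc y))) by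
    rw [orderOf_mk]; exact ho).of_dvd_nat (orderOf_map_dvd _ _)) ?_
  have h1 := mul_mem (conj_mem_centralizer hN (hsD hs)) (inv_mem (hsD hs))
  rw [← map_inv, ← map_inv, ← map_mul, ← map_mul, ← map_mul] at h1
  have e : (⟨u, hu⟩ * ⟨s, hs⟩ * ⟨u, hu⟩⁻¹ * ⟨s, hs⟩⁻¹ : ↥(cc y)) = ⟨u, h⟩ * ⟨u, h⟩ := Subtype.ext (by
    show u * s * u⁻¹ * s⁻¹ = u * u
    rw [show u * s * u⁻¹ * s⁻¹ = u * (s * u * s⁻¹)⁻¹ by group, hi, inv_inv])
  rw [e, map_mul] at h1
  exact h1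

theorem normalizes_component {y z w : G} {D : Subgroup (qq y)} (hD : IsComponent D) (hzy : z ∈ cc y) (hz2 : z * z = 1)
    (hw : w ∈ centralizerPPrimeCore 2 z) (hwy : w ∈ cc y) : ff y ⟨w, hwy⟩ ∈ normalizer (D : Set (qq y)) :=
  coreC_normalizes (pPrimeCore_quotient_eq_bot 2) (zpowers_two (by
    rw [← map_mul, show (⟨z, hzy⟩ : ↥(cc y)) * ⟨z, hzy⟩ = 1 from Subtype.ext hz2, map_one])) hD
    (image_core hzy hz2 ⟨w, hwy⟩ hw)

variable {E A₁ : Subgroup G}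

theorem Four.YY_normal (F : Four E A₁) {x : G} (hx : x ∈ E) :
    centralizerPPrimeCore 2 x ≤ normalizer (YY A₁ x : Set G) := by
  haveI : Fact (Nat.Prime 2) := ⟨Nat.prime_two⟩
  set O := centralizerPPrimeCore 2 x with hO
  have hN : O ≤ normalizer ((⁅O, A₁⁆ : Subgroup G) : Set G) := left_le_normalizer_commutator A₁ O
  intro n hn
  haveI := F.isP.isNilpotent
  obtain ⟨r, hr, c, hc, rfl⟩ := coprime_decomp (F.le.trans (F.le_normalizer_core hx)) (F.coprime_core le_rfl)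
    (Or.inl inferInstance) (k := n) hn
  have hrO : r ∈ O := commutator_le_of_le_normalizer (F.le.trans (F.le_normalizer_core hx)) hr
  refine mul_mem (mem_normalizer_of_maps fun z hz => ?_) (mem_normalizer_of_maps fun z hz => ?_)
  · have hle : YY A₁ x ≤ (YY A₁ x).comap (MulAut.conj r).toMonoidHom := by
      refine sup_le (fun u hu => mem_sup_left ((mem_normalizer_iff.mp (hN hrO) u).mp hu)) fun f hf => ?_
      show r * f * r⁻¹ ∈ YY A₁ x
      rw [show r * f * r⁻¹ = r * (f * r⁻¹ * f⁻¹) * f by group]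
      exact mul_mem (mul_mem (mem_sup_left hr) (mem_sup_left ((mem_normalizer_iff.mp (hN hf.1) _).mp (inv_mem hr))))
        (mem_sup_right hf)
    exact hle hz
  · have hle : YY A₁ x ≤ (YY A₁ x).comap (MulAut.conj c).toMonoidHom := by
      refine sup_le (fun u hu => mem_sup_left ((mem_normalizer_iff.mp (hN hc.1) u).mp hu)) fun f hf => mem_sup_right ?_
      show c * f * c⁻¹ ∈ centralizerPPrimeCore 2 x ⊓ coreC A₁
      exact mem_inf.mpr ⟨mul_mem (mul_mem (mem_inf.mp hc).1 (mem_inf.mp hf).1) (inv_mem (mem_inf.mp hc).1),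
        (mem_normalizer_iff.mp (centralizer_le_normalizer_coreC A₁ (mem_inf.mp hc).2) f).mp (mem_inf.mp hf).2⟩
    exact hle hz

theorem Four.mem_YY_of_inverted (_F : Four E A₁) {x z r : G} (hr : r ∈ A₁)
    (hz : z ∈ centralizerPPrimeCore 2 x) (hi : r * z * r⁻¹ = z⁻¹) : z ∈ YY A₁ x := by
  refine mem_of_sq_mem (odd_order_core hz) (mem_sup_left ?_)
  have h := commutator_mem_commutator hz hr
  rwa [commutatorElement_def, show z * r * z⁻¹ * r⁻¹ = z * (r * z * r⁻¹)⁻¹ by group, hi, inv_inv] at h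

namespace Ctx4

variable (H : Ctx4 S A)
include H

variable {x : G} {D : Subgroup (qq x)} {B : Subgroup G} {g : Fin 4 → G} {k : G}

theorem plane_four (P : Plane S A x D B g k) (j : Option (Fin 4)) : Four (A ⊔ B) (fours A B g j) :=
  (H.plane_spread P).fours j

/-- A translation other than the first moves each element of `B`. -/
theorem plane_move_ne (P : Plane S A x D B g k) {i : Fin 4} (hi : i ≠ 0) {c : G} (hc : c ∈ B) (hc1 : c ≠ 1) :
    g i * c * (g i)⁻¹ ≠ c := by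
  intro e
  have hc2 : c * c = 1 := by rw [← pow_two]; exact P.top.elem.2 c hc
  let ψ : Fin 4 → A := fun j => ⟨g j * c * (g j)⁻¹ * c, P.move j c hc⟩
  have hs : Function.Surjective ψ := fun a => by
    by_cases ha : (a : G) = 1
    · exact ⟨0, Subtype.ext (by show g 0 * c * (g 0)⁻¹ * c = a; rw [P.one, ha, one_mul, inv_one, mul_one, hc2])⟩
    · obtain ⟨j, hj⟩ := P.cover a a.2 ha c hc hc1
      exact ⟨j, Subtype.ext (by show g j * c * (g j)⁻¹ * c = a; rw [hj, mul_assoc, hc2, mul_one])⟩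
  have hb := (Nat.bijective_iff_surjective_and_card ψ).mpr ⟨hs, by rw [H.card, Nat.card_fin]⟩
  exact hi (hb.1 (Subtype.ext (show g i * c * (g i)⁻¹ * c = g 0 * c * (g 0)⁻¹ * c by
    rw [e, P.one, one_mul, inv_one, mul_one])))

theorem plane_x (P : Plane S A x D B g k) : x ∈ A ⊔ B ∧ x ≠ 1 :=
  ⟨mem_sup_right P.top.mem_B, fun e => P.top.blk.at_.ne (by rw [e]; exact one_mem A)⟩

/-- In `O_x`, what centralises a member and its component lies in the core at the member. -/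
theorem mem_coreC_of_cent (P : Plane S A x D B g k) (i : Fin 4) {y : G} (hyR : y ∈ fours A B g (some i))
    (hα : y * x ∈ A) {D' : Subgroup (qq y)} (hD' : Blk S A y D') {c : G} (hc : c ∈ centralizerPPrimeCore 2 x)
    (hcR : c ∈ centralizer (fours A B g (some i) : Set G)) (hcD : CentAt y D' c) :
    c ∈ coreC (fours A B g (some i)) := by
  have F := H.plane_four P (some i)
  have hxE := (H.plane_x P).1
  have hcy : c ∈ cc y := AfterFT.CoreSep.mem_cc.mpr (hcR y hyR).symm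
  have hxy : x ∈ cc y := F.mem_cc hxE (F.le hyR)
  have hx2 := P.top.blk.at_.sq
  refine core_inf_le_coreC hyR ⟨mem_core_of_centralizes hxy hx2 hc hcy fun D'' hD'' => ?_, hcR⟩
  have hAt := hD'.at_
  by_cases hm : Moved A y D''
  · rw [H.facts.unique S A _ D'' D' ⟨hAt.closed, hAt.card, hAt.ne, hAt.sq, hAt.le, hD'', hm⟩ hAt]
    exact hcD hcy
  · refine CfsgLib.S3Simple.core_centralizes_component hxy hx2 hc hcy hD'' ?_
    have hyy : y ∈ cc y := AfterFT.CoreSep.mem_cc.mpr rfl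
    have h1 := mul_mem (show ff y ⟨y, hyy⟩ ∈ centralizer (D'' : Set (qq y)) from fun d _ => ff_self_central y hyy d)
      (centralizes_of_not_moved hm _ hα (hAt.le hα))
    rw [← map_mul, show (⟨y, hyy⟩ * ⟨y * x, hAt.le hα⟩ : ↥(cc y)) = ⟨x, hxy⟩ from Subtype.ext
      (show y * (y * x) = x by rw [← mul_assoc, hAt.sq, one_mul])] at h1
    exact h1

/-- The coordinates of the elements of order `ℓ` of `O_x`. -/
theorem coord (P : Plane S A x D B g k) {i : Fin 4} (hi : i ≠ 0) {ℓ : ℕ} (hℓ : ℓ.Prime) (hT : TorusPrime ↥D ℓ) :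
    ∃ f : G → Fin ℓ, ∀ w₁ ∈ centralizerPPrimeCore 2 x, w₁ ^ ℓ = 1 → ∀ w₂ ∈ centralizerPPrimeCore 2 x, w₂ ^ ℓ = 1 →
      (f w₁ = f w₂ → w₁ * w₂⁻¹ ∈ YY (fours A B g (some i)) x) ∧
        w₁ * w₂ * w₁⁻¹ * w₂⁻¹ ∈ YY (fours A B g (some i)) x := by
  classical
  haveI : Fact (Nat.Prime 2) := ⟨Nat.prime_two⟩
  set y := g i * x * (g i)⁻¹ with hy
  obtain ⟨D', hD', ⟨e⟩, hcent⟩ : ∃ D' : Subgroup (qq y), Blk S A y D' ∧ Nonempty (↥D ≃* ↥D') ∧
      ∀ z ∈ cc x, CentAt x D z → CentAt y D' (g i * z * (g i)⁻¹) := P.top.blk.conj (H.plane_gN P i)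
  have hT' := hT.of_equiv e
  set R := fours A B g (some i) with hR
  have F : Four (A ⊔ B) R := H.plane_four P (some i)
  have hyR : y ∈ R := ⟨x, P.top.mem_B, rfl⟩
  have hxE := (H.plane_x P).1
  have hyE := F.le hyR
  have hx2 := P.top.blk.at_.sq
  have hAt := hD'.at_
  have hxy : x ∈ cc y := F.mem_cc hxE hyE
  have hRy : R ≤ cc y := fun r hr => F.mem_cc (F.le hr) hyE
  have hRD : ∀ r ∈ R, CentAt y D' r := by
    rintro _ ⟨b, hb, rfl⟩
    exact hcent b (mem_inf.mp (P.top.le hb)).2 fun h => P.top.cent b hb h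
  set O := centralizerPPrimeCore 2 x with hO
  set C := O ⊓ centralizer (R : Set G) with hC
  have hCy : C ≤ cc y := fun c hc => AfterFT.CoreSep.mem_cc.mpr ((mem_inf.mp hc).2 y hyR).symm
  have hCn : ∀ c : C, ff y ⟨c, hCy c.2⟩ ∈ normalizer (D' : Set (qq y)) := fun c =>
    normalizes_component hAt.comp hxy hx2 (mem_inf.mp c.2).1 _
  let act : C →* MulAut ↥D' := D'.normalizerMonoidHom.comp (((ff y).comp (inclusion hCy)).codRestrict _ hCn)
  have hker : ∀ c : C, act c = 1 ↔ ff y ⟨c, hCy c.2⟩ ∈ centralizer (D' : Set (qq y)) := by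
    intro c
    show ((ff y).comp (inclusion hCy)).codRestrict _ hCn c ∈ D'.normalizerMonoidHom.ker ↔ _
    rw [normalizerMonoidHom_ker]
    rfl
  have hα : y * x ∈ A := P.move i x P.top.mem_B
  have hα1 : y * x ≠ 1 := fun e => H.plane_move_ne P hi P.top.mem_B (H.plane_x P).2 (by
    rw [← hy, eq_inv_of_mul_eq_one_left e, inv_eq_of_mul_eq_one_right hx2])
  set t : ↥D' := ⟨ff y ⟨y * x, hAt.le hα⟩, H.imQ_le hAt (mem_imQ hα _)⟩ with ht
  have ht1 : t ≠ 1 := fun e => ne_one_imQ (H.sq hα) hα1 _ (congrArg Subtype.val e)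
  obtain ⟨d, hdl, hinner⟩ := hT'.inner t ht1 (Subtype.ext (hAt.imQ_sq (mem_imQ hα _)))
  have hNc : O ≤ normalizer ((⁅O, R⁆ : Subgroup G) : Set G) := left_le_normalizer_commutator R O
  have key : ∀ w ∈ O, w ^ ℓ = 1 → ∃ c : C, w * (c : G)⁻¹ ∈ ⁅O, R⁆ ∧ ∃ j : Fin ℓ, act c = MulAut.conj (d ^ (j : ℕ)) := by
    intro w hw hwl
    haveI := F.isP.isNilpotent
    obtain ⟨r, hr, c, hc, rfl⟩ := coprime_decomp (F.le.trans (F.le_normalizer_core hxE)) (F.coprime_core le_rfl)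
      (Or.inl inferInstance) (k := w) hw
    have hrc : r * c * c⁻¹ ∈ ⁅O, R⁆ := by rwa [mul_inv_cancel_right]
    refine ⟨⟨c, hc⟩, hrc, ?_⟩
    have hcl : c ^ ℓ ∈ coreC R := by
      refine F.fixed_le_coreC hxE (mem_inf.mpr ⟨?_, pow_mem (mem_inf.mp hc).2 ℓ⟩)
      have h1 := pow_mul_inv_mem (hNc (mem_inf.mp hc).1) hrc ℓ
      rw [hwl, one_mul] at h1
      exact inv_mem_iff.mp h1
    have hpow : act ⟨c, hc⟩ ^ ℓ = 1 := by
      rw [← map_pow]
      refine (hker _).mpr ?_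
      refine coreC_centralizes_component oddSolv (pPrimeCore_quotient_eq_bot 2)
        ((F.isP.of_equiv (subgroupOfEquivOfLe hRy).symm).map _) hAt.comp (le_centralizer_iff.mp ?_)
        (image_coreC hRy F.isP _ hcl)
      rintro _ ⟨r', hr', rfl⟩
      exact hRD r' hr' r'.2
    have hct : act ⟨c, hc⟩ t = t := by
      have h1 : c * (y * x) = y * x * c := ((show Commute c y from (hc.2 y hyR).symm).mul_right
        (show Commute c x from AfterFT.CoreSep.mem_cc.mp (map_subtype_le _ hc.1))).eq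
      refine Subtype.ext ?_
      show ff y ⟨c, _⟩ * ff y ⟨y * x, _⟩ * (ff y ⟨c, _⟩)⁻¹ = ff y ⟨y * x, _⟩
      rw [← map_inv, ← map_mul, ← map_mul]
      exact congrArg (ff y) (Subtype.ext (show c * (y * x) * c⁻¹ = y * x by rw [h1, mul_inv_cancel_right]))
    obtain ⟨j, hj⟩ := hinner _ hpow hct
    refine ⟨⟨j % ℓ, Nat.mod_lt _ hℓ.pos⟩, ?_⟩
    rw [hj, pow_eq_pow_mod j hdl]
  haveI : NeZero ℓ := ⟨hℓ.ne_zero⟩
  choose! cf hcf jf hjf using key
  refine ⟨jf, fun w₁ h₁ h₁l w₂ h₂ h₂l => ?_⟩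
  have hON : O ≤ normalizer (YY R x : Set G) := F.YY_normal hxE
  have hcN : ∀ c : C, act c = 1 → (c : G) ∈ YY R x := fun c hc =>
    mem_sup_right ⟨(mem_inf.mp c.2).1,
      H.mem_coreC_of_cent P i hyR hα hD' (mem_inf.mp c.2).1 (mem_inf.mp c.2).2 fun _ => (hker c).mp hc⟩
  obtain ⟨r₁, hr₁, hw₁⟩ : ∃ r ∈ YY R x, w₁ = r * (cf w₁ : G) :=
    ⟨_, mem_sup_left (hcf w₁ h₁ h₁l), (inv_mul_cancel_right _ _).symm⟩
  obtain ⟨r₂, hr₂, hw₂⟩ : ∃ r ∈ YY R x, w₂ = r * (cf w₂ : G) :=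
    ⟨_, mem_sup_left (hcf w₂ h₂ h₂l), (inv_mul_cancel_right _ _).symm⟩
  refine ⟨fun he => ?_, ?_⟩
  · have h1 : act (cf w₁ * (cf w₂)⁻¹) = 1 := by
      rw [map_mul, map_inv, hjf w₁ h₁ h₁l, hjf w₂ h₂ h₂l, he, mul_inv_cancel]
    rw [hw₁, hw₂, show r₁ * (cf w₁ : G) * (r₂ * (cf w₂ : G))⁻¹ = r₁ * ((cf w₁ : G) * (cf w₂ : G)⁻¹) * r₂⁻¹ by group]
    exact mul_mem (mul_mem hr₁ (hcN _ h1)) (inv_mem hr₂)
  · have h1 : act (cf w₁ * cf w₂ * (cf w₁)⁻¹ * (cf w₂)⁻¹) = 1 := by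
      rw [map_mul, map_mul, map_mul, map_inv, map_inv, hjf w₁ h₁ h₁l, hjf w₂ h₂ h₂l, ← map_inv, ← map_inv,
        ← map_mul, ← map_mul, ← map_mul, ← pow_add, add_comm, pow_add, mul_inv_cancel_right, mul_inv_cancel, map_one]
    rw [hw₁, hw₂, show r₁ * (cf w₁ : G) * (r₂ * (cf w₂ : G)) * (r₁ * (cf w₁ : G))⁻¹ * (r₂ * (cf w₂ : G))⁻¹ =
      r₁ * ((cf w₁ : G) * r₂ * (cf w₁ : G)⁻¹) * ((cf w₁ : G) * (cf w₂ : G) * (cf w₁ : G)⁻¹ * (cf w₂ : G)⁻¹) *
        ((cf w₂ : G) * r₁⁻¹ * (cf w₂ : G)⁻¹) * r₂⁻¹ by group]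
    exact mul_mem (mul_mem (mul_mem (mul_mem hr₁ ((mem_normalizer_iff.mp (hON (mem_inf.mp (cf w₁).2).1) _).mp hr₂))
      (hcN _ h1)) ((mem_normalizer_iff.mp (hON (mem_inf.mp (cf w₂).2).1) _).mp (inv_mem hr₁))) (inv_mem hr₂)

theorem core_of_YY (P : Plane S A x D B g k) {α : G} (hα : α ∈ A) (hα1 : α ≠ 1) {z : G} (hz : z ∈ YY A x)
    (hzα : z ∈ cc α) : z ∈ centralizerPPrimeCore 2 α := by
  have F : Four (A ⊔ B) A := H.plane_four P none
  have hxE := (H.plane_x P).1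
  have hxα : x ∈ cc α := F.mem_cc hxE (F.le hα)
  exact mem_core_of_centralizes hxα P.top.blk.at_.sq (F.YY_le hxE hz) hzα fun D' hD' =>
    F.YY_centralizes hxE (F.le hα) hD' (H.not_moved hα hα1 hD') hz hzα

theorem YY_of_core (P : Plane S A x D B g k) {α : G} (hα : α ∈ A) {z : G}
    (hz : z ∈ centralizerPPrimeCore 2 x) (hzα : z ∈ centralizerPPrimeCore 2 α) : z ∈ YY A x := by
  haveI : Fact (Nat.Prime 2) := ⟨Nat.prime_two⟩
  have F : Four (A ⊔ B) A := H.plane_four P none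
  have hxE := (H.plane_x P).1
  set N := centralizerPPrimeCore 2 x ⊓ centralizerPPrimeCore 2 α with hN
  haveI := F.isP.isNilpotent
  have hAN : A ≤ normalizer (N : Set G) := fun a ha => mem_normalizer_of_maps fun n hn => mem_inf.mpr
      ⟨(mem_normalizer_iff.mp (F.le_normalizer_core hxE (F.le ha)) n).mp (mem_inf.mp hn).1,
        (mem_normalizer_iff.mp (F.le_normalizer_core (F.le hα) (F.le ha)) n).mp (mem_inf.mp hn).2⟩
  obtain ⟨r, hr, c, hc, rfl⟩ := coprime_decomp hAN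
    (F.coprime_core inf_le_left) (Or.inl inferInstance) (k := z) ⟨hz, hzα⟩
  exact mul_mem (mem_sup_left (commutator_mono inf_le_left le_rfl hr))
    (mem_sup_right ⟨(mem_inf.mp hc.1).1, core_inf_le_coreC hα ⟨(mem_inf.mp hc.1).2, hc.2⟩⟩)

/-- `C(x) ∩ C(α)` normalises `YY A x`. -/
theorem YY_conj (P : Plane S A x D B g k) {α : G} (hα : α ∈ A) (hα1 : α ≠ 1) {c : G} (hcx : c ∈ cc x)
    (hcα : c ∈ cc α) {z : G} (hz : z ∈ YY A x) : c * z * c⁻¹ ∈ YY A x := by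
  haveI : Fact (Nat.Prime 2) := ⟨Nat.prime_two⟩
  have F : Four (A ⊔ B) A := H.plane_four P none
  have hxE := (H.plane_x P).1
  have hAN : A ≤ normalizer (YY A x : Set G) := F.le.trans (F.YY_invariant hxE)
  have hZ : zpowers α ≤ A := zpowers_le.mpr hα
  have hα2 := H.sq hα
  have hcop : (Nat.card ↥(zpowers α)).Coprime (Nat.card ↥(YY A x)) :=
    (F.coprime_core (F.YY_le hxE)).coprime_dvd_left (card_dvd_of_le hZ)
  haveI := (zpowers_two hα2).isNilpotent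
  obtain ⟨r, hr, f, hf, rfl⟩ := coprime_decomp (hZ.trans hAN) hcop (Or.inl inferInstance) (k := z) hz
  have hcO := cc_le_normalizer_core x hcx
  have hcαc : c * α * c⁻¹ = α := by rw [AfterFT.CoreSep.mem_cc.mp hcα, mul_inv_cancel_right]
  rw [show c * (r * f) * c⁻¹ = c * r * c⁻¹ * (c * f * c⁻¹) by group]
  refine mul_mem (mem_sup_left (commutator_mono le_rfl hZ ?_)) ?_
  · have hle : ⁅YY A x, zpowers α⁆ ≤
        (⁅centralizerPPrimeCore 2 x, zpowers α⁆).comap (MulAut.conj c).toMonoidHom := by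
      rw [commutator_le]
      intro p hp q hq
      rw [mem_comap, map_commutatorElement]
      refine commutator_mem_commutator ((mem_normalizer_iff.mp hcO p).mp (F.YY_le hxE hp)) ?_
      obtain ⟨n, rfl⟩ := mem_zpowers_iff.mp hq
      rw [map_zpow, MulEquiv.coe_toMonoidHom, MulAut.conj_apply, hcαc]
      exact zpow_mem (mem_zpowers α) n
    exact hle hr
  · have hfα : f ∈ cc α := AfterFT.CoreSep.mem_cc.mpr ((mem_inf.mp hf).2 α (mem_zpowers α)).symm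
    exact H.YY_of_core P hα ((mem_normalizer_iff.mp hcO f).mp (F.YY_le hxE (mem_inf.mp hf).1))
      ((mem_normalizer_iff.mp (cc_le_normalizer_core α hcα) f).mp (H.core_of_YY P hα hα1 (mem_inf.mp hf).1 hfα))

/-- An element in all the members is trivial. -/
theorem eq_one_of_members (P : Plane S A x D B g k) {z : G} (hz : z ∈ centralizerPPrimeCore 2 x) (hA : z ∈ YY A x)
    (hR : ∀ i : Fin 4, i ≠ 0 → z ∈ YY (fours A B g (some i)) x) : z = 1 := by
  obtain ⟨hxE, hx1⟩ := H.plane_x P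
  have hmem : z ∈ sigT (fours A B g) x := by
    refine mem_inf.mpr ⟨hz, mem_iInf.mpr fun j => ?_⟩
    cases j with
    | none => exact hA
    | some i =>
      by_cases hi : i = 0
      · subst hi
        exact (H.plane_four P (some 0)).core_le_YY ⟨x, P.top.mem_B, by
          show g 0 * x * (g 0)⁻¹ = x
          rw [P.one, one_mul, inv_one, mul_one]⟩ hz
      · exact hR i hi
  rw [H.plane_sigT P hxE hx1, mem_bot] at hmem
  exact hmem

/-- The elements of order `ℓ` of `YY A x` form an abelian group of order at most `ℓ³`. -/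
theorem exists_V (P : Plane S A x D B g k) {ℓ : ℕ} (hℓ : ℓ.Prime) (hT : TorusPrime ↥D ℓ) :
    ∃ V : Subgroup G, (∀ v, v ∈ V ↔ v ∈ YY A x ∧ v ^ ℓ = 1) ∧ (∀ v ∈ V, ∀ w ∈ V, v * w = w * v) ∧
      Nat.card V ≤ ℓ ^ 3 := by
  classical
  have F : Four (A ⊔ B) A := H.plane_four P none
  have hxE := (H.plane_x P).1
  have hO : ∀ {v}, v ∈ YY A x → v ∈ centralizerPPrimeCore 2 x := fun hv => F.YY_le hxE hv
  choose f hf using fun j : Fin 3 => H.coord P (i := j.succ) (Fin.succ_ne_zero j) hℓ hT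
  have hcomm : ∀ v ∈ YY A x, v ^ ℓ = 1 → ∀ w ∈ YY A x, w ^ ℓ = 1 → v * w = w * v := by
    intro v hv hvl w hw hwl
    have h1 : v * w * v⁻¹ * w⁻¹ ∈ YY A x := mul_mem (mul_mem (mul_mem hv hw) (inv_mem hv)) (inv_mem hw)
    have h2 := H.eq_one_of_members P (hO h1) h1 fun i hi => by
      obtain ⟨j, rfl⟩ := Fin.exists_succ_eq.mpr hi
      exact (hf j v (hO hv) hvl w (hO hw) hwl).2
    exact mul_inv_eq_iff_eq_mul.mp (mul_inv_eq_one.mp h2)
  let V : Subgroup G :=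
    { carrier := {v | v ∈ YY A x ∧ v ^ ℓ = 1}
      one_mem' := ⟨one_mem _, one_pow ℓ⟩
      mul_mem' := fun {a b} ha hb => ⟨mul_mem ha.1 hb.1, by
        rw [(show Commute a b from hcomm a ha.1 ha.2 b hb.1 hb.2).mul_pow, ha.2, hb.2, one_mul]⟩
      inv_mem' := fun {a} ha => ⟨inv_mem ha.1, by rw [inv_pow, ha.2, inv_one]⟩ }
  refine ⟨V, fun v => Iff.rfl, fun v hv w hw => hcomm v hv.1 hv.2 w hw.1 hw.2, ?_⟩
  have hinj : Function.Injective (fun v : V => fun j : Fin 3 => f j v) := by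
    intro v w e
    have h1 : (v : G) * (w : G)⁻¹ ∈ YY A x := mul_mem v.2.1 (inv_mem w.2.1)
    refine Subtype.ext (mul_inv_eq_one.mp (H.eq_one_of_members P (hO h1) h1 fun i hi => ?_))
    obtain ⟨j, rfl⟩ := Fin.exists_succ_eq.mpr hi
    exact (hf j v (hO v.2.1) v.2.2 w (hO w.2.1) w.2.2).1 (congrFun e j)
  refine (Nat.card_le_card_of_injective _ hinj).trans ?_
  rw [Nat.card_fun, Nat.card_fin, Nat.card_fin]

/-- A line fixed by the centraliser of an involution and an element outside it. -/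
theorem false_of_line (P : Plane S A x D B g k) {ℓ : ℕ} (hT : TorusPrime ↥D ℓ) {a β w τ : G}
    (ha : a ∈ A) (hβ : β ∈ A) (hβ1 : β ≠ 1) {V : Subgroup G}
    (hV : ∀ c ∈ cc x, c ∈ cc β → ∀ v ∈ V, c * v * c⁻¹ ∈ V) (hw : w ∈ V) (ho : Odd (orderOf w)) (hw1 : w ≠ 1)
    (hwβ : β * w = w * β) (haw : a * w * a⁻¹ = w⁻¹) (hline : ∀ v ∈ V, β * v = v * β → v ∈ zpowers w)
    (hτx : τ ∈ cc x) (hτw : τ * w = w * τ) (hτD : ff x ⟨τ, hτx⟩ ∈ D)
    (hτβ : ff x ⟨τ, hτx⟩ * ff x ⟨β, H.le_cc P.top.mem hβ⟩ ≠ ff x ⟨β, H.le_cc P.top.mem hβ⟩ * ff x ⟨τ, hτx⟩) :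
    False := by
  haveI : Fact (Nat.Prime 2) := ⟨Nat.prime_two⟩
  haveI := hT.simple
  have hAt := P.top.blk.at_
  have hAx : A ≤ cc x := hAt.le
  set M := normalizer (zpowers w : Set G) ⊓ cc x with hM
  set M' := (M.subgroupOf (cc x)).map (ff x) with hM'
  set t : ↥D := ⟨ff x ⟨β, hAx hβ⟩, H.imQ_le hAt (mem_imQ hβ _)⟩ with ht
  have hwN : ∀ {c : G}, c * w * c⁻¹ ∈ zpowers w → c ∈ normalizer (zpowers w : Set G) := fun {c} hc =>
    mem_normalizer_of_maps fun v hv => by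
      obtain ⟨n, rfl⟩ := mem_zpowers_iff.mp hv
      rw [← conj_zpow]
      exact zpow_mem hc n
  have htop : M'.subgroupOf D = ⊤ := by
    refine hT.maximal t (fun e => ne_one_imQ (H.sq hβ) hβ1 _ (congrArg Subtype.val e))
      (Subtype.ext (hAt.imQ_sq (mem_imQ hβ _))) _ (fun z hz => ?_) ⟨ff x ⟨τ, hτx⟩, hτD⟩ ?_
      (fun e => hτβ (congrArg Subtype.val e))
    · have hzY : (z : qq x) ∈ centralizer ((((zpowers β).subgroupOf (cc x)).map (ff x) : Subgroup (qq x)) : Set (qq x)) := by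
        rintro _ ⟨⟨p, hp⟩, hp', rfl⟩
        obtain ⟨n, hn⟩ := mem_zpowers_iff.mp (hp' : p ∈ zpowers β)
        rw [show (⟨p, hp⟩ : ↥(cc x)) = (⟨β, hAx hβ⟩ : ↥(cc x)) ^ n from Subtype.ext hn.symm, map_zpow]
        exact ((show Commute (z : qq x) (ff x ⟨β, hAx hβ⟩) from congrArg Subtype.val hz).zpow_right n).symm.eq
      obtain ⟨h, hh, he⟩ := (bar_centralizer_two ((zpowers_two (H.sq hβ)).of_equiv
        (subgroupOfEquivOfLe (zpowers_le.mpr (hAx hβ))).symm)).ge hzY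
      have hhβ : (h : G) ∈ cc β := AfterFT.CoreSep.mem_cc.mpr
        (congrArg Subtype.val (hh ⟨β, hAx hβ⟩ (mem_zpowers β))).symm
      refine mem_subgroupOf.mpr ⟨h, mem_inf.mpr ⟨hwN ?_, h.2⟩, he⟩
      refine hline _ (hV _ h.2 hhβ w hw) ?_
      have hb' : Commute β (h : G) := (AfterFT.CoreSep.mem_cc.mp hhβ).symm
      exact ((hb'.mul_right hwβ).mul_right hb'.inv_right).eq
    · refine mem_subgroupOf.mpr ⟨⟨τ, hτx⟩, mem_inf.mpr ⟨hwN ?_, hτx⟩, rfl⟩
      show τ * w * τ⁻¹ ∈ zpowers w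
      rw [hτw, mul_inv_cancel_right]
      exact mem_zpowers w
  have hle : D ≤ M' := fun d hd => by
    have h1 : (⟨d, hd⟩ : ↥D) ∈ M'.subgroupOf D := htop ▸ mem_top _
    exact h1
  have hcomD : commutator ↥D = ⊤ :=
    ((commutator_normal (⊤ : Subgroup ↥D) ⊤).eq_bot_or_eq_top).resolve_left fun h => hT.nonabel
      ⟨⟨fun p q => commutatorElement_eq_one_iff_mul_comm.mp (mem_bot.mp (h ▸
        commutator_mem_commutator (mem_top p) (mem_top q) : ⁅p, q⁆ ∈ (⊥ : Subgroup ↥D)))⟩⟩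
  have haD : ff x ⟨a, hAx ha⟩ ∈ (⁅M', M'⁆ : Subgroup (qq x)) := by
    have h1 : (⟨ff x ⟨a, hAx ha⟩, H.imQ_le hAt (mem_imQ ha _)⟩ : ↥D) ∈ commutator ↥D := hcomD ▸ mem_top _
    have h2 := mem_map_of_mem D.subtype h1
    rw [_root_.commutator_def, map_commutator, ← MonoidHom.range_eq_map, range_subtype] at h2
    exact commutator_mono hle hle h2
  rw [hM', ← map_commutator] at haD
  obtain ⟨z, hz, hza⟩ := haD
  have hzw : (z : G) * w = w * z := by
    have hle' : ⁅M.subgroupOf (cc x), M.subgroupOf (cc x)⁆ ≤ (centralizer ({w} : Set G)).comap (cc x).subtype := by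
      rw [commutator_le]
      intro p hp q hq
      have key : ∀ {P Q : G}, P ∈ M → Q ∈ M → P * Q * w * (P * Q)⁻¹ = Q * P * w * (Q * P)⁻¹ := by
        intro P Q hP hQ
        obtain ⟨i, hi⟩ := mem_zpowers_iff.mp ((mem_normalizer_iff.mp (mem_inf.mp hP).1 w).mp (mem_zpowers w))
        obtain ⟨j, hj⟩ := mem_zpowers_iff.mp ((mem_normalizer_iff.mp (mem_inf.mp hQ).1 w).mp (mem_zpowers w))
        rw [show P * Q * w * (P * Q)⁻¹ = P * (Q * w * Q⁻¹) * P⁻¹ by group, ← hj, ← conj_zpow, ← hi, ← zpow_mul,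
          show Q * P * w * (Q * P)⁻¹ = Q * (P * w * P⁻¹) * Q⁻¹ by group, ← hi, ← conj_zpow, ← hj, ← zpow_mul,
          mul_comm i j]
      have e1 := key (inv_mem (mem_subgroupOf.mp hp)) (inv_mem (mem_subgroupOf.mp hq))
      refine mem_centralizer_singleton_iff.mpr ?_
      show (p : G) * q * (p : G)⁻¹ * (q : G)⁻¹ * w = w * ((p : G) * q * (p : G)⁻¹ * (q : G)⁻¹)
      refine mul_inv_eq_iff_eq_mul.mp ?_
      rw [show (p : G) * q * (p : G)⁻¹ * (q : G)⁻¹ * w * ((p : G) * q * (p : G)⁻¹ * (q : G)⁻¹)⁻¹ =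
        (p : G) * q * ((p : G)⁻¹ * (q : G)⁻¹ * w * ((p : G)⁻¹ * (q : G)⁻¹)⁻¹) * ((p : G) * q)⁻¹ by group, e1]
      group
    exact mem_centralizer_singleton_iff.mp (hle' hz)
  have hzO : (z : G)⁻¹ * a ∈ centralizerPPrimeCore 2 x := mem_core_of_bar (w := z⁻¹ * ⟨a, hAx ha⟩) (by
    show ff x (z⁻¹ * ⟨a, hAx ha⟩) = 1
    rw [map_mul, map_inv, hza, inv_mul_cancel])
  set o := (z : G)⁻¹ * a with hodef
  have how : o * w * o⁻¹ = w⁻¹ := by
    rw [hodef, show (z : G)⁻¹ * a * w * ((z : G)⁻¹ * a)⁻¹ = (z : G)⁻¹ * (a * w * a⁻¹) * z by group, haw,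
      mul_assoc, ← ((show Commute (z : G) w from hzw).inv_right).eq, ← mul_assoc, inv_mul_cancel, one_mul]
  have hooc : o ∈ centralizer ({w} : Set G) := mem_of_sq_mem (odd_order_core hzO) (mem_centralizer_singleton_iff.mpr (by
    refine mul_inv_eq_iff_eq_mul.mp ?_
    rw [show o * o * w * (o * o)⁻¹ = o * (o * w * o⁻¹) * o⁻¹ by group, how,
      show o * w⁻¹ * o⁻¹ = (o * w * o⁻¹)⁻¹ by group, how, inv_inv]))
  exact hw1 (eq_one_of_inverted ho how (mem_centralizer_singleton_iff.mp hooc))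

/-- C4. -/
theorem false_of_sixteen {x : G} {D : Subgroup (qq x)} {B : Subgroup G} (T : Top S A x D B) (hB4 : Nat.card B = 4) :
    False := by
  classical
  haveI : Fact (Nat.Prime 2) := ⟨Nat.prime_two⟩
  obtain ⟨g, k, P⟩ := H.exists_plane T hB4
  obtain ⟨ℓ, hℓ, hℓ2, hT⟩ := T.blk.big.exists_prime
  haveI : Fact ℓ.Prime := ⟨hℓ⟩
  obtain ⟨hxE, hx1⟩ := H.plane_x P
  have hx2 := T.blk.at_.sq
  have hAx : A ≤ cc x := T.blk.at_.le
  obtain ⟨a, ha, ha1⟩ := A.bot_or_exists_ne_one.resolve_left H.closed.ne_bot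
  obtain ⟨i, hi⟩ := P.cover a ha ha1 x T.mem_B hx1
  obtain ⟨hb1, hba, hkb⟩ := H.turn_sq P.k_norm P.k_fpf ha ha1
  set b := k * a * k⁻¹ with hb
  have hbA : b ∈ A := (mem_normalizer_iff.mp P.k_norm a).mp ha
  have habA : a * b ∈ A := mul_mem ha hbA
  have haa := H.sq ha
  have hbb := H.sq hbA
  have hcomE : ∀ {p q : G}, p ∈ A ⊔ B → q ∈ A ⊔ B → p * q = q * p := fun hp hq =>
    (H.plane_four P none).comm hp hq
  have hi0 : i ≠ 0 := fun e => ha1 (mul_right_cancel (b := x) (by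
    rw [← hi, e, P.one, one_mul, inv_one, mul_one]))
  -- the element at `a x`
  set y := g i * x * (g i)⁻¹ with hy
  obtain ⟨D', hD', ⟨eD⟩, hcent⟩ : ∃ D' : Subgroup (qq y), Blk S A y D' ∧ Nonempty (↥D ≃* ↥D') ∧
      ∀ z ∈ cc x, CentAt x D z → CentAt y D' (g i * z * (g i)⁻¹) := T.blk.conj (H.plane_gN P i)
  have FR := H.plane_four P (some i)
  set R := fours A B g (some i) with hR
  have hyR : y ∈ R := ⟨x, T.mem_B, rfl⟩
  have hyA : A ≤ cc y := hD'.at_.le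
  obtain ⟨σ, hσo, hσv, hσw⟩ := (hT.of_equiv eD).torus ⟨ff y ⟨a, hyA ha⟩, H.imQ_le hD'.at_ (mem_imQ ha _)⟩
    ⟨ff y ⟨b, hyA hbA⟩, H.imQ_le hD'.at_ (mem_imQ hbA _)⟩ (fun e => ne_one_imQ haa ha1 _ (congrArg Subtype.val e))
    (fun e => ne_one_imQ hbb hb1 _ (congrArg Subtype.val e))
    (fun e => hba.symm (ff_inj H.isPGroup ha hbA _ _ (congrArg Subtype.val e)))
    (Subtype.ext (hD'.at_.imQ_sq (mem_imQ ha _))) (Subtype.ext (hD'.at_.imQ_sq (mem_imQ hbA _)))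
    (Subtype.ext (hD'.at_.imQ_comm (mem_imQ ha _) (mem_imQ hbA _)))
  have hσodd : Odd (orderOf σ) := by rw [hσo]; exact hℓ.odd_of_ne_two hℓ2
  obtain ⟨u, huy, ⟨e, he⟩, huOa, huo, hub, hua, huR⟩ := H.exists_torus_lift hD' ha hbA ha1 FR.isP
    (fun r hr => FR.mem_cc (FR.le hr) (FR.le hyR))
    (fun r hr α hα => hcomE (FR.le hr) (mem_sup_left hα))
    (fun r hr h => by
      obtain ⟨b', hb', rfl⟩ := hr
      exact hcent b' (mem_inf.mp (T.le hb')).2 (fun h' => T.cent b' hb' h') h) σ hσodd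
    (congrArg Subtype.val hσv) (congrArg Subtype.val hσw)
  have hux : u ∈ cc x := by
    have h1 : Commute u (a * y) := (show Commute u a from hua).mul_right (huR y hyR)
    rw [hi, ← mul_assoc, haa, one_mul] at h1
    exact AfterFT.CoreSep.mem_cc.mpr h1.eq
  have huab : a * b * u * (a * b)⁻¹ = u⁻¹ := by
    rw [show a * b * u * (a * b)⁻¹ = a * (b * u * b⁻¹) * a⁻¹ by group, hub,
      show a * u⁻¹ * a⁻¹ = (a * u * a⁻¹)⁻¹ by group, ← hua, mul_inv_cancel_right]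
  -- it lies in `O_x`
  obtain ⟨c, hc, hc1, hcx⟩ : ∃ c ∈ B, c ≠ 1 ∧ c ≠ x := by
    by_contra hcon
    push Not at hcon
    have h1 := Set.ncard_le_ncard (show (B : Set G) ⊆ {1, x} from fun c hc => by
      by_cases e : c = 1
      · exact Or.inl e
      · exact Or.inr (hcon c hc e)) (Set.toFinite _)
    have h2 := Set.ncard_insert_le (1 : G) ({x} : Set G)
    have h3 : (B : Set G).ncard = 4 := by rw [← Nat.card_coe_set_eq]; exact hB4
    rw [Set.ncard_singleton] at h2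
    omega
  have hcu : c * u * c⁻¹ = u⁻¹ := by
    set r := g i * c * (g i)⁻¹ with hr
    have hrE : r ∈ A ⊔ B := H.plane_mem_E P i hc
    have hcE : c ∈ A ⊔ B := mem_sup_right hc
    have hγ : r * c ∈ A := P.move i c hc
    have hcc : c * c = 1 := by rw [← pow_two]; exact T.elem.2 c hc
    have hrr : r * r = 1 := by
      rw [hr, show g i * c * (g i)⁻¹ * (g i * c * (g i)⁻¹) = g i * (c * c) * (g i)⁻¹ by group, hcc, mul_one,
        mul_inv_cancel]
    have hγ1 : r * c ≠ 1 := fun h => H.plane_move_ne P hi0 hc hc1 (by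
      rw [← hr, eq_inv_of_mul_eq_one_left h, inv_eq_of_mul_eq_one_right hcc])
    have hγa : r * c ≠ a := fun h => H.plane_move_ne P hi0 (mul_mem T.mem_B hc) (fun h' => hcx (by
      rw [eq_inv_of_mul_eq_one_right h', inv_eq_of_mul_eq_one_right hx2])) (by
      rw [show g i * (x * c) * (g i)⁻¹ = g i * x * (g i)⁻¹ * (g i * c * (g i)⁻¹) by group, ← hr, ← hy, hi,
        show r = r * c * c by rw [mul_assoc, hcc, mul_one], h,
        show a * x * (a * c) = a * (x * a) * c by group, hcomE hxE (mem_sup_left ha),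
        show a * (a * x) * c = a * a * (x * c) by group, haa, one_mul])
    have hinv : r * c * u * (r * c)⁻¹ = u⁻¹ := by
      by_cases h : r * c = b
      · rw [h]; exact hub
      · rw [CfsgLib.S3Simple.four_third H.card ha hbA hγ ha1 hb1 hba.symm (fun _ h => H.sq h) hγ1 hγa h]
        exact huab
    have e1 : c = r * c * r := by rw [hcomE hrE hcE, mul_assoc, hrr, mul_one]
    rw [e1, show r * c * r * u * (r * c * r)⁻¹ = r * c * (r * u * r⁻¹) * (r * c)⁻¹ by group,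
      ← huR r ⟨c, hc, rfl⟩, mul_inv_cancel_right]
    exact hinv
  have hax : a ∈ cc x := hAx ha
  have huO : u ∈ centralizerPPrimeCore 2 x := mem_core_of_centralizes hax haa huOa hux fun D'' hD'' => by
    have hN := normalizes_component hD'' hax haa huOa hux
    by_cases hm : Moved A x D''
    · have hAt := T.blk.at_
      have heq := H.facts.unique S A x D'' D ⟨hAt.closed, hAt.card, hAt.ne, hAt.sq, hAt.le, hD'', hm⟩ hAt
      subst heq
      exact cent_of_inverted hux (mem_inf.mp (T.le hc)).2 hN (fun h => T.cent c hc h) huo hcu hux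
    · exact cent_of_inverted hux (hAx hbA) hN (fun h => centralizes_of_not_moved hm b hbA h) huo hub hux
  have hℓu : ℓ ∣ orderOf u := by
    have h1 : orderOf (ff y ⟨u, huy⟩) = ℓ := by
      have hco : Nat.Coprime (orderOf σ) (2 ^ e) := by
        rw [hσo]; exact ((Nat.coprime_primes hℓ Nat.prime_two).mpr hℓ2).pow_right _
      rw [he, Nat.Coprime.orderOf_pow (by rwa [Subgroup.orderOf_coe]), Subgroup.orderOf_coe, hσo]
    have h2 := orderOf_map_dvd (ff y) (⟨u, huy⟩ : ↥(cc y))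
    rwa [h1, orderOf_mk] at h2
  set u₁ := u ^ (orderOf u / ℓ) with hu₁
  have hou₁ : orderOf u₁ = ℓ := orderOf_pow_orderOf_div (orderOf_pos u).ne' hℓu
  have hu₁O : u₁ ∈ centralizerPPrimeCore 2 x := pow_mem huO _
  have h1a : a * u₁ * a⁻¹ = u₁ := by
    rw [hu₁, ← conj_pow, ← hua, mul_inv_cancel_right]
  have h1b : b * u₁ * b⁻¹ = u₁⁻¹ := by rw [hu₁, ← conj_pow, hub, inv_pow]
  have hmul : ∀ {p q v : G}, p * q * v * (p * q)⁻¹ = p * (q * v * q⁻¹) * p⁻¹ := fun {p q v} => by group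
  have hinvc : ∀ {p v : G}, p * v⁻¹ * p⁻¹ = (p * v * p⁻¹)⁻¹ := fun {p v} => by group
  have hkc : ∀ {p v w : G}, p * v * p⁻¹ = w → k * p * k⁻¹ * (k * v * k⁻¹) * (k * p * k⁻¹)⁻¹ = k * w * k⁻¹ :=
    fun {p v w} h => by rw [← h]; group
  set u₂ := k * u₁ * k⁻¹ with hu₂
  set u₃ := k * u₂ * k⁻¹ with hu₃
  have hou : orderOf u₂ = ℓ ∧ orderOf u₃ = ℓ := by
    have hcj : ∀ v, orderOf (k * v * k⁻¹) = orderOf v := fun v => (MulAut.conj k).orderOf_eq v
    exact ⟨(hcj u₁).trans hou₁, (hcj u₂).trans ((hcj u₁).trans hou₁)⟩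
  have h2b : b * u₂ * b⁻¹ = u₂ := hkc h1a
  have h2ab : a * b * u₂ * (a * b)⁻¹ = u₂⁻¹ := by
    have h := hkc h1b
    rw [hkb, show k * u₁⁻¹ * k⁻¹ = u₂⁻¹ by rw [hu₂]; group] at h
    exact h
  have h2a : a * u₂ * a⁻¹ = u₂⁻¹ := by
    rw [show a = a * b * b by rw [mul_assoc, hbb, mul_one], hmul, h2b, h2ab]
  have h3ab : a * b * u₃ * (a * b)⁻¹ = u₃ := by
    have h := hkc h2b
    rwa [hkb] at h
  have h3a : a * u₃ * a⁻¹ = u₃⁻¹ := by
    have h := hkc h2ab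
    rw [show k * (a * b) * k⁻¹ = k * a * k⁻¹ * (k * b * k⁻¹) by group, ← hb, hkb,
      show b * (a * b) = a * (b * b) by rw [← mul_assoc, H.comm hbA ha, mul_assoc], hbb, mul_one,
      show k * u₂⁻¹ * k⁻¹ = u₃⁻¹ by rw [hu₃]; group] at h
    exact h
  have h3b : b * u₃ * b⁻¹ = u₃⁻¹ := by
    rw [show b = a * (a * b) by rw [← mul_assoc, haa, one_mul], hmul, h3ab, h3a]
  -- the group `V`
  obtain ⟨V, hV, hVc, hVcard⟩ := H.exists_V P hℓ hT
  have FA : Four (A ⊔ B) A := H.plane_four P none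
  have hkO : k ∈ normalizer (centralizerPPrimeCore 2 x : Set G) := cc_le_normalizer_core x P.k_cc
  have hpowl : ∀ {v : G}, orderOf v = ℓ → v ^ ℓ = 1 := fun {v} h => by rw [← h, pow_orderOf_eq_one]
  have hu₂O : u₂ ∈ centralizerPPrimeCore 2 x := (mem_normalizer_iff.mp hkO u₁).mp hu₁O
  have hu₃O : u₃ ∈ centralizerPPrimeCore 2 x := (mem_normalizer_iff.mp hkO u₂).mp hu₂O
  have hv₁ : u₁ ∈ V := (hV _).mpr ⟨FA.mem_YY_of_inverted hbA hu₁O h1b, hpowl hou₁⟩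
  have hv₂ : u₂ ∈ V := (hV _).mpr ⟨FA.mem_YY_of_inverted ha hu₂O h2a, hpowl hou.1⟩
  have hv₃ : u₃ ∈ V := (hV _).mpr ⟨FA.mem_YY_of_inverted ha hu₃O h3a, hpowl hou.2⟩
  set ev := fun p q r : ℤ => u₁ ^ p * u₂ ^ q * u₃ ^ r with hev
  have hevV : ∀ p q r, ev p q r ∈ V := fun p q r =>
    mul_mem (mul_mem (zpow_mem hv₁ p) (zpow_mem hv₂ q)) (zpow_mem hv₃ r)
  have hevmul : ∀ p q r p' q' r', ev p q r * ev p' q' r' = ev (p + p') (q + q') (r + r') := by
    intro p q r p' q' r'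
    have c : ∀ {v w : G}, v ∈ V → w ∈ V → ∀ n m : ℤ, Commute (v ^ n) (w ^ m) := fun {v w} hv hw n m =>
      hVc _ (zpow_mem hv n) _ (zpow_mem hw m)
    show u₁ ^ p * u₂ ^ q * u₃ ^ r * (u₁ ^ p' * u₂ ^ q' * u₃ ^ r') = _
    rw [((c hv₃ hv₁ r p').mul_right (c hv₃ hv₂ r q')).mul_mul_mul_comm (u₁ ^ p * u₂ ^ q) (u₃ ^ r'),
      (c hv₂ hv₁ q p').mul_mul_mul_comm (u₁ ^ p) (u₂ ^ q'), ← zpow_add, ← zpow_add, ← zpow_add]
  have hev0 : ev 0 0 0 = 1 := by simp [hev]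
  have hevinv : ∀ p q r, (ev p q r)⁻¹ = ev (-p) (-q) (-r) := fun p q r =>
    inv_eq_of_mul_eq_one_right (by rw [hevmul, add_neg_cancel, add_neg_cancel, add_neg_cancel, hev0])
  have hea : ∀ p q r, a * ev p q r * a⁻¹ = ev p (-q) (-r) := fun p q r => by
    show a * (u₁ ^ p * u₂ ^ q * u₃ ^ r) * a⁻¹ = _
    rw [← conj_mul, ← conj_mul, ← conj_zpow, ← conj_zpow, ← conj_zpow, h1a, h2a, h3a, inv_zpow', inv_zpow']
  have heb : ∀ p q r, b * ev p q r * b⁻¹ = ev (-p) q (-r) := fun p q r => by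
    show b * (u₁ ^ p * u₂ ^ q * u₃ ^ r) * b⁻¹ = _
    rw [← conj_mul, ← conj_mul, ← conj_zpow, ← conj_zpow, ← conj_zpow, h1b, h2b, h3b, inv_zpow', inv_zpow']
  have hl2 : ∀ {p : ℤ}, (ℓ : ℤ) ∣ p + p → (ℓ : ℤ) ∣ p := fun {p} h => by
    rw [← two_mul] at h
    refine ((Nat.prime_iff_prime_int.mp hℓ).dvd_mul.mp h).resolve_left fun h2 => hℓ2 ?_
    exact (Nat.prime_dvd_prime_iff_eq hℓ Nat.prime_two).mp (by exact_mod_cast h2)
  have h0 : ∀ {v : G} {p : ℤ}, orderOf v = ℓ → (ℓ : ℤ) ∣ p → v ^ p = 1 := fun {v p} h hd =>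
    orderOf_dvd_iff_zpow_eq_one.mp (by rw [h]; exact hd)
  have hindep : ∀ p q r, ev p q r = 1 → (ℓ : ℤ) ∣ p ∧ (ℓ : ℤ) ∣ q ∧ (ℓ : ℤ) ∣ r := by
    intro p q r h
    have d : ∀ {v : G} {n : ℤ}, orderOf v = ℓ → v ^ n = 1 → (ℓ : ℤ) ∣ n := fun {v n} hv hn =>
      hv ▸ orderOf_dvd_iff_zpow_eq_one.mpr hn
    have e1 : ev (p + p) 0 0 = 1 := by
      have h' : ev p (-q) (-r) = 1 := by rw [← hea, h, mul_one, mul_inv_cancel]
      have h2 := hevmul p q r p (-q) (-r)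
      rw [h, h', one_mul, add_neg_cancel, add_neg_cancel] at h2
      exact h2.symm
    have hp : (ℓ : ℤ) ∣ p := hl2 (d hou₁ (by simpa [hev] using e1))
    have hq' : ev 0 q r = 1 := by
      rw [← h]
      show u₁ ^ (0 : ℤ) * _ * _ = _ * _ * _
      rw [h0 hou₁ hp, zpow_zero]
    have e2 : ev 0 (q + q) 0 = 1 := by
      have h' : ev (-0) q (-r) = 1 := by rw [← heb, hq', mul_one, mul_inv_cancel]
      rw [neg_zero] at h'
      have h2 := hevmul 0 q r 0 q (-r)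
      rw [hq', h', one_mul, add_zero, add_neg_cancel] at h2
      exact h2.symm
    have hq : (ℓ : ℤ) ∣ q := hl2 (d hou.1 (by simpa [hev] using e2))
    refine ⟨hp, hq, d hou.2 ?_⟩
    have h' : ev 0 q r = u₃ ^ r := by
      show u₁ ^ (0 : ℤ) * u₂ ^ q * u₃ ^ r = _
      rw [zpow_zero, h0 hou.1 hq, one_mul, one_mul]
    rw [← h', hq']
  have hgen : ∀ v ∈ V, ∃ p q r : ℤ, v = ev p q r := by
    intro v hv
    let φ : Fin ℓ × Fin ℓ × Fin ℓ → V := fun t => ⟨ev (t.1 : ℕ) (t.2.1 : ℕ) (t.2.2 : ℕ), hevV _ _ _⟩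
    have hφ : Function.Injective φ := by
      rintro ⟨p, q, r⟩ ⟨p', q', r'⟩ e
      have h1 : ev (p : ℕ) (q : ℕ) (r : ℕ) * (ev (p' : ℕ) (q' : ℕ) (r' : ℕ))⁻¹ = 1 :=
        mul_inv_eq_one.mpr (congrArg Subtype.val e)
      rw [hevinv, hevmul] at h1
      obtain ⟨hp, hq, hr⟩ := hindep _ _ _ h1
      have key : ∀ {m n : Fin ℓ}, (ℓ : ℤ) ∣ ((m : ℕ) : ℤ) + -((n : ℕ) : ℤ) → m = n := fun {m n} h => by
        have hm := m.2; have hn := n.2
        have := Int.eq_zero_of_abs_lt_dvd h (by rw [abs_lt]; omega)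
        exact Fin.ext (by omega)
      rw [key hp, key hq, key hr]
    have hb' := (Nat.bijective_iff_injective_and_card φ).mpr ⟨hφ, le_antisymm (Nat.card_le_card_of_injective φ hφ) (by
      rw [Nat.card_prod, Nat.card_prod, Nat.card_fin]; exact hVcard.trans (le_of_eq (by ring)))⟩
    obtain ⟨t, ht⟩ := hb'.2 ⟨v, hv⟩
    exact ⟨_, _, _, (congrArg Subtype.val ht).symm⟩
  -- the element at `x`
  obtain ⟨σ', hσ'o, hσ'v, hσ'w⟩ := hT.torus ⟨ff x ⟨a, hAx ha⟩, H.imQ_le T.blk.at_ (mem_imQ ha _)⟩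
    ⟨ff x ⟨b, hAx hbA⟩, H.imQ_le T.blk.at_ (mem_imQ hbA _)⟩ (fun e => ne_one_imQ haa ha1 _ (congrArg Subtype.val e))
    (fun e => ne_one_imQ hbb hb1 _ (congrArg Subtype.val e))
    (fun e => hba.symm (ff_inj H.isPGroup ha hbA _ _ (congrArg Subtype.val e)))
    (Subtype.ext (T.blk.at_.imQ_sq (mem_imQ ha _))) (Subtype.ext (T.blk.at_.imQ_sq (mem_imQ hbA _)))
    (Subtype.ext (T.blk.at_.imQ_comm (mem_imQ ha _) (mem_imQ hbA _)))
  have hσ'odd : Odd (orderOf σ') := by rw [hσ'o]; exact hℓ.odd_of_ne_two hℓ2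
  obtain ⟨τ₀, hτ₀x, ⟨e', he'⟩, -, -, hτ₀b, hτ₀a, -⟩ := H.exists_torus_lift T.blk ha hbA ha1
    (S.2.to_le (T.le.trans inf_le_left)) (T.le.trans inf_le_right)
    (fun r hr α hα => H.central (mem_inf.mp (T.le hr)).1 hα)
    (fun r hr h => T.cent r hr h) σ' hσ'odd (congrArg Subtype.val hσ'v) (congrArg Subtype.val hσ'w)
  obtain ⟨n, m, hm, hnm⟩ := Nat.exists_eq_pow_mul_and_not_dvd (orderOf_pos τ₀).ne' ℓ hℓ.ne_one
  set τ := τ₀ ^ m with hτ
  have hτx : τ ∈ cc x := pow_mem hτ₀x m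
  have hτimg : ff x ⟨τ, hτx⟩ = (σ' : qq x) ^ (2 ^ e' * m) := by
    rw [show (⟨τ, hτx⟩ : ↥(cc x)) = (⟨τ₀, hτ₀x⟩ : ↥(cc x)) ^ m from rfl, map_pow, he', ← pow_mul]
  have hτord : orderOf (ff x ⟨τ, hτx⟩) = ℓ := by
    have hco : Nat.Coprime (orderOf σ') (2 ^ e' * m) := by
      rw [hσ'o]
      exact Nat.Coprime.mul_right (((Nat.coprime_primes hℓ Nat.prime_two).mpr hℓ2).pow_right _)
        (hℓ.coprime_iff_not_dvd.mpr hm)
    rw [hτimg, Nat.Coprime.orderOf_pow (by rwa [Subgroup.orderOf_coe]), Subgroup.orderOf_coe, hσ'o]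
  have hτD : ff x ⟨τ, hτx⟩ ∈ D := hτimg ▸ pow_mem σ'.2 _
  have hτb : b * τ * b⁻¹ = τ⁻¹ := by rw [hτ, ← conj_pow, hτ₀b, inv_pow]
  have hτa : a * τ = τ * a := ((show Commute a τ₀ from hτ₀a.symm).pow_right m).eq
  have hτne : ∀ {β : G}, β ∈ A → β * τ * β⁻¹ = τ⁻¹ → ∀ h : β ∈ cc x,
      ff x ⟨τ, hτx⟩ * ff x ⟨β, h⟩ ≠ ff x ⟨β, h⟩ * ff x ⟨τ, hτx⟩ := fun {β} _ hi h hc => by
    have h1 : ff x ⟨τ, hτx⟩ = 1 := eq_one_of_inverted (b := ff x ⟨β, h⟩)
      (hτord ▸ hℓ.odd_of_ne_two hℓ2) (by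
        rw [← map_inv, ← map_mul, ← map_mul, ← map_inv]
        exact congrArg (ff x) (Subtype.ext hi)) hc.symm
    rw [h1, orderOf_one] at hτord
    exact hℓ.ne_one hτord.symm
  have hVconj : ∀ α ∈ A, α ≠ 1 → ∀ c ∈ cc x, c ∈ cc α → ∀ v ∈ V, c * v * c⁻¹ ∈ V := by
    intro α hα hα1 c hcx hcα v hv
    obtain ⟨h1, h2⟩ := (hV v).mp hv
    exact (hV _).mpr ⟨H.YY_conj P hα hα1 hcx hcα h1, by rw [conj_pow, h2, mul_one, mul_inv_cancel]⟩
  have hτca : τ ∈ cc a := AfterFT.CoreSep.mem_cc.mpr hτa.symm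
  -- a fixed point in the plane inverted by `a`
  let Pl : Subgroup G :=
    { carrier := {v | v ∈ V ∧ a * v * a⁻¹ = v⁻¹}
      one_mem' := ⟨one_mem V, by rw [mul_one, mul_inv_cancel, inv_one]⟩
      mul_mem' := fun {p q} hp hq => ⟨mul_mem hp.1 hq.1, by
        rw [← conj_mul, hp.2, hq.2, mul_inv_rev, hVc _ (inv_mem hp.1) _ (inv_mem hq.1)]⟩
      inv_mem' := fun {p} hp => ⟨inv_mem hp.1, by rw [hinvc, hp.2]⟩ }
  have hPlN : zpowers τ ≤ normalizer (Pl : Set G) := zpowers_le.mpr (mem_normalizer_of_maps fun v hv =>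
    ⟨hVconj a ha ha1 τ hτx hτca v hv.1, by
      rw [show a * (τ * v * τ⁻¹) * a⁻¹ = (a * τ) * v * (a * τ)⁻¹ by group, hτa, hmul, hv.2, hinvc]⟩)
  have hPl : IsPGroup ℓ Pl := fun v => ⟨1, Subtype.ext (by
    rw [pow_one]; exact ((hV _).mp v.2.1).2)⟩
  have hzτ : IsPGroup ℓ (zpowers τ) := IsPGroup.of_card (n := n) (by
    have hm0 : m ≠ 0 := fun h => hm (by rw [h]; exact dvd_zero ℓ)
    rw [Nat.card_zpowers, hτ, orderOf_pow_of_dvd hm0 (by rw [hnm]; exact dvd_mul_left m _), hnm,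
      Nat.mul_div_cancel _ (Nat.pos_of_ne_zero hm0)])
  have hPlne : Pl ≠ ⊥ := fun h => hℓ.ne_one (by
    have h1 : u₂ ∈ Pl := ⟨hv₂, h2a⟩
    rw [h, mem_bot] at h1
    rw [← hou.1, h1, orderOf_one])
  obtain ⟨z, hz, hzo, hzc⟩ := exists_central_in_normal (p := ℓ) (hPl.to_sup_of_normal_left' hzτ hPlN)
    (le_sup_left : Pl ≤ Pl ⊔ zpowers τ) (sup_le le_normalizer hPlN) hPlne
  have hτz : τ * z = z * τ := hzc τ (mem_sup_right (mem_zpowers τ))
  obtain ⟨p, q, r, hzev⟩ := hgen z hz.1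
  have hp : (ℓ : ℤ) ∣ p := by
    have h1 : ev p (-q) (-r) * ev p q r = 1 := by
      rw [← hea, ← hzev, hz.2, inv_mul_cancel]
    rw [hevmul, neg_add_cancel, neg_add_cancel] at h1
    exact hl2 (hindep _ _ _ h1).1
  have hz' : z = u₂ ^ q * u₃ ^ r := by
    rw [hzev]
    show u₁ ^ p * u₂ ^ q * u₃ ^ r = _
    rw [h0 hou₁ hp, one_mul]
  -- its conjugate under `b`
  have hτz' : τ * (b * z * b⁻¹) = b * z * b⁻¹ * τ := by
    have h1 : b * τ⁻¹ * b⁻¹ = τ := by rw [hinvc, hτb, inv_inv]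
    have h2 : b * (τ⁻¹ * z) * b⁻¹ = b * (z * τ⁻¹) * b⁻¹ := by rw [((show Commute τ z from hτz).inv_left).eq]
    rw [← conj_mul, ← conj_mul, h1] at h2
    exact h2
  have hmk : ∀ {v w : G}, orderOf v = ℓ → w ∈ zpowers v → w ≠ 1 → τ * w = w * τ → τ * v = v * τ := by
    intro v w hv hw hw1 hc'
    have hwo : orderOf w = ℓ := by
      obtain ⟨j, rfl⟩ := mem_zpowers_iff.mp hw
      refine orderOf_eq_prime ?_ hw1
      rw [← zpow_natCast, ← zpow_mul, mul_comm, zpow_mul, zpow_natCast, hpowl hv, one_zpow]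
    have hle : zpowers w = zpowers v := eq_of_le_of_card_ge (zpowers_le.mpr hw)
      (by rw [Nat.card_zpowers, Nat.card_zpowers, hv, hwo])
    obtain ⟨j, hj⟩ := mem_zpowers_iff.mp (hle ▸ mem_zpowers v : v ∈ zpowers w)
    rw [← hj]
    exact ((show Commute τ w from hc').zpow_right j).eq
  by_cases hq : (ℓ : ℤ) ∣ q
  · -- the line of `a b`
    have hz3 : z = u₃ ^ r := by rw [hz', h0 hou.1 hq, one_mul]
    have hτu : τ * u₃ = u₃ * τ := hmk hou.2 (hz3 ▸ zpow_mem (mem_zpowers u₃) r)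
      (fun h => by rw [h, orderOf_one] at hzo; exact hℓ.ne_one hzo.symm) hτz
    have hab1 : a * b ≠ 1 := fun h => hba (by
      rw [eq_inv_of_mul_eq_one_right h, inv_eq_of_mul_eq_one_right haa])
    have hτab : a * b * τ * (a * b)⁻¹ = τ⁻¹ := by
      rw [hmul, hτb, hinvc, hτa, mul_inv_cancel_right]
    refine H.false_of_line P hT ha habA hab1 (hVconj _ habA hab1) hv₃ (hou.2.symm ▸ hℓ.odd_of_ne_two hℓ2)
      (fun h => by rw [h, orderOf_one] at hou; exact hℓ.ne_one hou.2.symm) (mul_inv_eq_iff_eq_mul.mp h3ab) h3a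
      (fun v hv hvc => ?_) hτx hτu hτD (hτne habA hτab _)
    obtain ⟨p', q', r', rfl⟩ := hgen v hv
    have h1 : a * b * ev p' q' r' * (a * b)⁻¹ = ev (-p') (-q') r' := by rw [hmul, heb, hea, neg_neg]
    rw [hvc, mul_inv_cancel_right] at h1
    have h2 : ev p' q' r' * (ev (-p') (-q') r')⁻¹ = 1 := mul_inv_eq_one.mpr h1
    rw [hevinv, hevmul, neg_neg, neg_neg] at h2
    obtain ⟨hp', hq', -⟩ := hindep _ _ _ h2
    show u₁ ^ p' * u₂ ^ q' * u₃ ^ r' ∈ zpowers u₃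
    rw [h0 hou₁ (hl2 hp'), h0 hou.1 (hl2 hq'), one_mul, one_mul]
    exact zpow_mem (mem_zpowers u₃) r'
  · -- the line of `b`
    have hzz : z * (b * z * b⁻¹) = u₂ ^ (q + q) := by
      have h1 : ev 0 q r * (b * ev 0 q r * b⁻¹) = ev 0 (q + q) 0 := by
        rw [heb, hevmul]; simp
      have h2 : ev 0 q r = z := by simp [hev, hz']
      rw [h2] at h1
      rw [h1]; simp [hev]
    have hτu : τ * u₂ = u₂ * τ := by
      refine hmk hou.1 (hzz ▸ zpow_mem (mem_zpowers u₂) (q + q)) (fun h => hq (hl2 ?_)) ?_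
      · rw [hzz] at h
        exact hou.1 ▸ orderOf_dvd_iff_zpow_eq_one.mpr h
      · exact ((show Commute τ z from hτz).mul_right hτz').eq
    refine H.false_of_line P hT ha hbA hb1 (hVconj _ hbA hb1) hv₂ (hou.1.symm ▸ hℓ.odd_of_ne_two hℓ2)
      (fun h => by rw [h, orderOf_one] at hou; exact hℓ.ne_one hou.1.symm) (mul_inv_eq_iff_eq_mul.mp h2b) h2a
      (fun v hv hvc => ?_) hτx hτu hτD (hτne hbA hτb _)
    obtain ⟨p', q', r', rfl⟩ := hgen v hv
    have h1 := heb p' q' r'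
    rw [hvc, mul_inv_cancel_right] at h1
    have h2 : ev p' q' r' * (ev (-p') q' (-r'))⁻¹ = 1 := mul_inv_eq_one.mpr h1
    rw [hevinv, hevmul, neg_neg, neg_neg] at h2
    obtain ⟨hp', -, hr'⟩ := hindep _ _ _ h2
    show u₁ ^ p' * u₂ ^ q' * u₃ ^ r' ∈ zpowers u₂
    rw [h0 hou₁ (hl2 hp'), h0 hou.2 (hl2 hr'), one_mul, mul_one]
    exact zpow_mem (mem_zpowers u₂) q'

end Ctx4

end CfsgLib.GoldSC
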