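import Cfsg.Agent.Lib.GoldSC.Four.Blocked

/-!
The 2-subgroups at a point with a moved component: the element turning `A`, and the inner action of 2-elements.

Blueprint: `blueprint/Goldschmidt.md`, C.
-/

set_option autoImplicit false
set_option linter.unusedSectionVars false
set_option linter.style.haveILetI false

namespace CfsgLib.GoldSC

open Cfsg Subgroup CfsgLib CfsgLib.Comp CfsgLib.AfterFT.CoreSep
open CfsgLib.S3Simple (Closed Irred oddSolv)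
open scoped commutatorElement

universe u

variable {G : Type u} [Group G] [Finite G] {S : Sylow 2 G} {A : Subgroup G}

/-- A 2-element in the core is trivial. -/
theorem eq_one_of_ff {x b : G} (hb : b ∈ cc x) {j : ℕ} (hj : b ^ 2 ^ j = 1) (h : ff x ⟨b, hb⟩ = 1) : b = 1 := by
  by_contra hne
  obtain ⟨i, -, hi⟩ := (Nat.dvd_prime_pow Nat.prime_two).mp (orderOf_dvd_of_pow_eq_one hj)
  have ho : Odd (orderOf (⟨b, hb⟩ : ↥(cc x))) :=
    (Nat.coprime_two_right.mp (card_pPrimeCore_coprime 2)).of_dvd_nat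
      (Subgroup.orderOf_dvd_natCard _ ((QuotientGroup.eq_one_iff _).mp h))
  rw [Subgroup.orderOf_mk, hi] at ho
  have hi0 : i = 0 := by
    by_contra h0
    exact Nat.not_odd_iff_even.mpr (even_two.pow_of_ne_zero h0) ho
  rw [hi0, pow_zero, orderOf_eq_one_iff] at hi
  exact hne hi

theorem pow_two_pow_of_mem {P : Subgroup G} (hP : IsPGroup 2 P) {b : G} (hb : b ∈ P) : ∃ j : ℕ, b ^ 2 ^ j = 1 := by
  obtain ⟨j, hj⟩ := hP ⟨b, hb⟩
  exact ⟨j, congrArg Subtype.val hj⟩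

/-- The canonical map is injective on a 2-subgroup. -/
theorem ff_inj {x : G} {P : Subgroup G} (hP : IsPGroup 2 P) {b c : G} (hb : b ∈ P) (hc : c ∈ P) (hbx : b ∈ cc x)
    (hcx : c ∈ cc x) (h : ff x ⟨b, hbx⟩ = ff x ⟨c, hcx⟩) : b = c := by
  obtain ⟨j, hj⟩ := pow_two_pow_of_mem hP (mul_mem hb (inv_mem hc))
  refine mul_inv_eq_one.mp (eq_one_of_ff (mul_mem hbx (inv_mem hcx)) hj ?_)
  rw [show (⟨b * c⁻¹, mul_mem hbx (inv_mem hcx)⟩ : ↥(cc x)) = ⟨b, hbx⟩ * ⟨c, hcx⟩⁻¹ from rfl, map_mul, map_inv, h,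
    mul_inv_cancel]

/-- An element that maps `A` into a 2-group containing it normalises `A`. -/
theorem _root_.CfsgLib.S3Simple.Closed.mem_normalizer_of_two (hA : Closed S A) {B : Subgroup G} (hB : IsPGroup 2 B) (hAB : A ≤ B) {k : G}
    (hk : k ∈ normalizer (B : Set G)) : k ∈ normalizer (A : Set G) := by
  haveI : Fact (Nat.Prime 2) := ⟨Nat.prime_two⟩
  obtain ⟨P, hP⟩ := hB.exists_le_sylow
  obtain ⟨y, hy⟩ := MulAction.exists_smul_eq G P S
  have hconj : ∀ z ∈ B, y * z * y⁻¹ ∈ (S : Subgroup G) := fun z hz => by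
    rw [← hy, Sylow.coe_subgroup_smul]
    exact smul_mem_pointwise_smul z (MulAut.conj y) _ (hP hz)
  have hyA : ∀ a ∈ A, y * a * y⁻¹ ∈ A := fun a ha => hA.closed.2 a ha y (hconj a (hAB ha))
  have hyA' : ∀ w ∈ A, y⁻¹ * w * y ∈ A := by
    have hN : y ∈ normalizer (A : Set G) := mem_normalizer_of_maps hyA
    exact fun w hw => (mem_normalizer_iff''.mp hN w).mp hw
  refine mem_normalizer_of_maps fun a ha => ?_
  have h1 : y * (k * a * k⁻¹) * y⁻¹ ∈ (S : Subgroup G) := hconj _ ((mem_normalizer_iff.mp hk a).mp (hAB ha))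
  have h2 : (y * k * y⁻¹) * (y * a * y⁻¹) * (y * k * y⁻¹)⁻¹ ∈ A := hA.closed.2 _ (hyA a ha) _ (by
    rwa [show (y * k * y⁻¹) * (y * a * y⁻¹) * (y * k * y⁻¹)⁻¹ = y * (k * a * k⁻¹) * y⁻¹ by group])
  have h3 := hyA' _ h2
  rwa [show y⁻¹ * ((y * k * y⁻¹) * (y * a * y⁻¹) * (y * k * y⁻¹)⁻¹) * y = k * a * k⁻¹ by group] at h3

variable {x : G} {D : Subgroup (qq x)}

theorem At.imQ_sq (hAt : At S A x D) {v : qq x} (hv : v ∈ imQ A x) : v * v = 1 := by
  obtain ⟨a, ha, rfl⟩ := hv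
  rw [← map_mul, show a * a = 1 from Subtype.ext (hAt.closed.sq ha), map_one]

theorem At.imQ_comm (hAt : At S A x D) {v w : qq x} (hv : v ∈ imQ A x) (hw : w ∈ imQ A x) : v * w = w * v := by
  obtain ⟨a, ha, rfl⟩ := hv
  obtain ⟨b, hb, rfl⟩ := hw
  rw [← map_mul, ← map_mul, show a * b = b * a from Subtype.ext (hAt.closed.comm ha hb)]

theorem Ctx4.imQ_le (H : Ctx4 S A) (hAt : At S A x D) : imQ A x ≤ D := H.facts.inside S A x D hAt

/-- The image of `A` meets the centre of `D` trivially. -/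
theorem Ctx4.imQ_centralizer (H : Ctx4 S A) (hAt : At S A x D) {v : qq x} (hv : v ∈ imQ A x)
    (hc : v ∈ centralizer (D : Set (qq x))) : v = 1 := by
  obtain ⟨k, hkD, -, hk⟩ := H.facts.turn S A x D hAt
  exact hk v hv (hc k hkD)

/-- The element turning `A`: it normalises `B` and moves it by elements of `A`. -/
theorem Ctx4.exists_turn (H : Ctx4 S A) (hAt : At S A x D) {B : Subgroup G} (hB2 : IsPGroup 2 B) (hAB : A ≤ B)
    (hBx : B ≤ cc x)
    (hin : ∀ b ∈ B, ∀ h : b ∈ cc x, ∃ v ∈ imQ A x, v * ff x ⟨b, h⟩ ∈ centralizer (D : Set (qq x))) :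
    ∃ k ∈ cc x, k ∈ normalizer (B : Set G) ∧ k ∈ normalizer (A : Set G) ∧
      (∀ a ∈ A, k * a = a * k → a = 1) ∧ (∀ b ∈ B, k * b * k⁻¹ * b⁻¹ ∈ A) ∧
      ∀ b ∈ B, ∀ h : b ∈ cc x, ff x ⟨b, h⟩ ∈ centralizer (D : Set (qq x)) → k * b = b * k := by
  haveI : Fact (Nat.Prime 2) := ⟨Nat.prime_two⟩
  obtain ⟨κ, hκD, hκN, hκ⟩ := H.facts.turn S A x D hAt
  have hAx : A ≤ cc x := hAt.le
  -- the action of `κ` on the image
  have hstep : ∀ b ∈ B, ∀ h : b ∈ cc x,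
      ∃ v ∈ imQ A x, κ * ff x ⟨b, h⟩ * κ⁻¹ = v * ff x ⟨b, h⟩ ∧
        (ff x ⟨b, h⟩ ∈ centralizer (D : Set (qq x)) → v = 1) := by
    intro b hb h
    obtain ⟨v, hv, hvc⟩ := hin b hb h
    set β := ff x ⟨b, h⟩ with hβ
    refine ⟨κ * v * κ⁻¹ * v, mul_mem ((mem_normalizer_iff.mp hκN v).mp hv) hv, ?_, fun hc => ?_⟩
    · have h1 : κ * (v * β) * κ⁻¹ = v * β := by rw [hvc κ hκD, mul_inv_cancel_right]
      calc κ * β * κ⁻¹ = κ * (v * v * β) * κ⁻¹ := by rw [hAt.imQ_sq hv, one_mul]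
        _ = κ * v * κ⁻¹ * (κ * (v * β) * κ⁻¹) := by group
        _ = κ * v * κ⁻¹ * v * β := by rw [h1, ← mul_assoc]
    · have hv1 : v = 1 := H.imQ_centralizer hAt hv (by
        have h2 := mul_mem hvc (inv_mem hc)
        rwa [mul_inv_cancel_right] at h2)
      simp [hv1]
  have hκB : κ ∈ normalizer (((B.subgroupOf (cc x)).map (ff x) : Subgroup (qq x)) : Set (qq x)) := by
    refine mem_normalizer_of_maps ?_
    rintro _ ⟨⟨b, hbx⟩, hb, rfl⟩
    obtain ⟨v, hv, he, -⟩ := hstep b hb hbx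
    rw [he]
    refine mul_mem ?_ (mem_map_of_mem _ hb)
    exact Subgroup.map_mono (show A.subgroupOf (cc x) ≤ B.subgroupOf (cc x) from fun z hz => hAB hz) hv
  obtain ⟨κ', rfl⟩ := bar_surjective 2 κ
  have hBp : IsPGroup 2 ↥(B.subgroupOf (cc x)) := hB2.of_equiv (subgroupOfEquivOfLe hBx).symm
  obtain ⟨k, hkN, hke⟩ := exists_centralizing_lift hBp κ' hκB
  have hkB : (k : G) ∈ normalizer (B : Set G) := mem_normalizer_of_maps fun b hb =>
    (mem_normalizer_iff.mp hkN ⟨b, hBx hb⟩).mp hb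
  have hkA : (k : G) ∈ normalizer (A : Set G) := hAt.closed.mem_normalizer_of_two hB2 hAB hkB
  have hmove : ∀ b ∈ B, ∀ (h : b ∈ cc x) (c : G) (hc : c ∈ A), ff x k * ff x ⟨b, h⟩ * (ff x k)⁻¹ =
      ff x ⟨c, hAx hc⟩ * ff x ⟨b, h⟩ → (k : G) * b * (k : G)⁻¹ = c * b := by
    intro b hb h c hc e
    refine ff_inj hB2 ((mem_normalizer_iff.mp hkB b).mp hb) (mul_mem (hAB hc) hb)
      (mul_mem (mul_mem k.2 h) (inv_mem k.2)) (mul_mem (hAx hc) h) ?_
    rw [show (⟨(k : G) * b * (k : G)⁻¹, mul_mem (mul_mem k.2 h) (inv_mem k.2)⟩ : ↥(cc x)) = k * ⟨b, h⟩ * k⁻¹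
      from rfl, map_mul, map_mul, map_inv,
      show (⟨c * b, mul_mem (hAx hc) h⟩ : ↥(cc x)) = ⟨c, hAx hc⟩ * ⟨b, h⟩ from rfl, map_mul]
    exact e
  refine ⟨k, k.2, hkB, hkA, fun a ha hka => ?_, fun b hb => ?_, fun b hb h hc => ?_⟩
  · have h1 : ff x ⟨a, hAx ha⟩ = 1 := by
      refine hκ _ (mem_imQ ha (hAx ha)) ?_
      rw [← hke, ← map_mul, ← map_mul]
      exact congrArg (ff x) (Subtype.ext hka)
    obtain ⟨j, hj⟩ := pow_two_pow_of_mem H.isPGroup ha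
    exact eq_one_of_ff (hAx ha) hj h1
  · obtain ⟨v, hv, he, -⟩ := hstep b hb (hBx hb)
    obtain ⟨⟨c, hcx⟩, hc, rfl⟩ := hv
    rw [← hke] at he
    rw [hmove b hb (hBx hb) c hc he, mul_inv_cancel_right]
    exact hc
  · obtain ⟨v, -, he, hv1⟩ := hstep b hb h
    rw [← hke, hv1 hc] at he
    have e := hmove b hb h 1 (one_mem A) (by
      rw [show (⟨1, hAx (one_mem A)⟩ : ↥(cc x)) = 1 from rfl, map_one]; exact he)
    rw [one_mul] at e
    exact mul_inv_eq_iff_eq_mul.mp e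

end CfsgLib.GoldSC
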