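import Cfsg.Agent.Lib.GoldSC.Four.Line

/-!
Goldschmidt's theorem, the case `|A| = 4`.

Blueprint: `blueprint/Goldschmidt.md`, C.
-/

set_option autoImplicit false
set_option linter.unusedSectionVars false
set_option linter.style.haveILetI false

namespace CfsgLib.GoldSC

open Cfsg Subgroup CfsgLib CfsgLib.Comp CfsgLib.AfterFT.CoreSep
open CfsgLib.S3Simple (Closed Irred)

universe u

variable {G : Type u} [Group G] [Finite G] {S : Sylow 2 G} {A : Subgroup G}

/-- A minimal counterexample has no closed irreducible four-group. -/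
theorem false_of_four (h : Hyp G) (F : Facts G) (hA : Closed S A) (hI : Irred A) (h4 : Nat.card A = 4) : False := by
  haveI : Fact (Nat.Prime 2) := ⟨Nat.prime_two⟩
  have H : Ctx4 S A := ⟨h, F, hA, hI, h4⟩
  obtain ⟨x, D, B, T⟩ := H.exists_top
  have hB : IsPGroup 2 B := S.2.to_le (T.le.trans inf_le_left)
  obtain ⟨n, hn⟩ := IsPGroup.iff_card.mp hB
  have h1 : 1 < Nat.card B := (one_lt_card_iff_ne_bot B).mpr fun e => T.blk.at_.ne (by
    have h2 := T.mem_B
    rw [e, mem_bot] at h2
    rw [h2]
    exact one_mem A)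
  have hle := T.card_le
  have h24 : Nat.card B = 2 ∨ Nat.card B = 4 := by
    match n with
    | 0 => rw [pow_zero] at hn; omega
    | 1 => exact Or.inl hn
    | 2 => exact Or.inr hn
    | m + 3 =>
      have := Nat.pow_le_pow_right (show 2 > 0 by norm_num) (show 3 ≤ m + 3 by omega)
      omega
  rcases h24 with h2 | h4'
  · have hb := T.bound
    rw [h2] at hb
    exact H.false_of_eight hb T h2
  · exact H.false_of_sixteen T h4'

end CfsgLib.GoldSC
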