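import Cfsg.Agent.Lib.GoldSC.Four.CentralPair
import Cfsg.Agent.Lib.GoldSC.Four.AllIn
import Cfsg.Agent.Lib.Comp.PTerminal
import Cfsg.Agent.Lib.Bender.TwoClosed.Tools

/-!
C3, preparation: the centraliser in `S` of an involution outside `A` with the largest such centraliser.

Blueprint: `blueprint/Goldschmidt.md`, C3.
-/

set_option autoImplicit false
set_option linter.unusedSectionVars false
set_option linter.style.haveILetI false

namespace CfsgLib.GoldSC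

open Cfsg Subgroup CfsgLib CfsgLib.Comp CfsgLib.AfterFT.CoreSep
open CfsgLib.Signalizer (ea_comm)
open CfsgLib.S3Simple (Closed Irred card_mul_le_of_disjoint)

universe u

variable {G : Type u} [Group G] [Finite G] {S : Sylow 2 G} {A : Subgroup G}

/-- A bound on the centralisers in the 2-subgroups of `C(A)` of the involutions outside `A`. -/
def Bound (A : Subgroup G) (m : ℕ) : Prop :=
  ∀ P : Subgroup G, IsPGroup 2 P → P ≤ centralizer (A : Set G) → ∀ v ∈ P, v * v = 1 → v ∉ A →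
    Nat.card ↥(P ⊓ cc v) ≤ m

/-- The decomposition of the centraliser in `S` of a blocked involution with the largest centraliser. -/
structure Top (S : Sylow 2 G) (A : Subgroup G) (x : G) (D : Subgroup (qq x)) (B : Subgroup G) : Prop where
  blk : Blk S A x D
  mem : x ∈ (S : Subgroup G)
  mem_B : x ∈ B
  le : B ≤ (S : Subgroup G) ⊓ cc x
  cent : ∀ b ∈ B, ∀ h : b ∈ cc x, ff x ⟨b, h⟩ ∈ centralizer (D : Set (qq x))
  disjoint : ∀ b ∈ B, b ∈ A → b = 1
  sup : A ⊔ B = (S : Subgroup G) ⊓ cc x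
  elem : IsElementaryAbelian 2 B
  card_le : Nat.card B ≤ 4
  moves : ∃ g ∈ (S : Subgroup G), g ∉ cc x ∧ g ∈ normalizer (((S : Subgroup G) ⊓ cc x : Subgroup G) : Set G)
  bound : Bound A (4 * Nat.card B)

theorem card_sup_eq {X Y : Subgroup G} (hN : Y ≤ normalizer (X : Set G)) (hd : ∀ b ∈ Y, b ∈ X → b = 1) :
    Nat.card ↥(X ⊔ Y) = Nat.card X * Nat.card Y := by
  refine le_antisymm ?_ (card_mul_le_of_disjoint le_sup_left le_sup_right
    ((eq_bot_iff_forall _).mpr fun z hz => hd z hz.2 hz.1))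
  rw [← Nat.card_prod]
  refine Nat.card_le_card_of_surjective (fun p : X × Y => (⟨(p.1 : G) * p.2, mul_mem_sup p.1.2 p.2.2⟩ : ↥(X ⊔ Y)))
    fun e => ?_
  have he : (e : G) ∈ ((X ⊔ Y : Subgroup G) : Set G) := e.2
  rw [coe_mul_of_right_le_normalizer_left _ _ hN] at he
  obtain ⟨a, ha, b, hb, hab⟩ := he
  exact ⟨(⟨a, ha⟩, ⟨b, hb⟩), Subtype.ext hab⟩

theorem mem_cc_mul {x c s : G} (hs : s ∈ cc x) (hc : s * c = c * s) : s ∈ cc (x * c) :=
  AfterFT.CoreSep.mem_cc.mpr ((show Commute s x from AfterFT.CoreSep.mem_cc.mp hs).mul_right hc).eq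

namespace Ctx4

variable (H : Ctx4 S A)
include H

theorem inf_cc_mul {x c : G} (hc : c ∈ A) : (S : Subgroup G) ⊓ cc (x * c) = (S : Subgroup G) ⊓ cc x := by
  ext s
  refine ⟨fun h => ⟨h.1, ?_⟩, fun h => ⟨h.1, mem_cc_mul h.2 (H.central h.1 hc)⟩⟩
  have h2 := mem_cc_mul (c := c⁻¹) h.2 (H.central h.1 (inv_mem hc))
  rwa [mul_inv_cancel_right] at h2

/-- Every 2-element centralising `x` and `A` acts on the component as an element of `A`. -/
theorem exists_cent' {x : G} {D : Subgroup (qq x)} (hB : Blk S A x D) {s : G} (hsx : s ∈ cc x) {j : ℕ}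
    (hj : s ^ 2 ^ j = 1) (hsA : ∀ a ∈ A, s * a = a * s) :
    ∃ a ∈ A, ∃ h : a * s ∈ cc x, ff x ⟨a * s, h⟩ ∈ centralizer (D : Set (qq x)) := by
  obtain ⟨v, ⟨⟨a, hax⟩, ha, rfl⟩, hv⟩ := H.facts.big_inner S A x D hB.at_ hB.big (ff x ⟨s, hsx⟩)
    ⟨j, by rw [← map_pow, show (⟨s, hsx⟩ : ↥(cc x)) ^ 2 ^ j = 1 from Subtype.ext hj, map_one]⟩ (by
      rintro _ ⟨α, hα, rfl⟩
      rw [← map_mul, ← map_mul]
      exact congrArg (ff x) (Subtype.ext (hsA _ hα)))
  exact ⟨a, ha, mul_mem hax hsx, hv⟩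

/-- An involution outside `A` with the largest centraliser. -/
theorem exists_top : ∃ (x : G) (D : Subgroup (qq x)) (B : Subgroup G), Top S A x D B := by
  classical
  haveI : Fact (Nat.Prime 2) := ⟨Nat.prime_two⟩
  obtain ⟨d0, hd0, hd02, hd0A⟩ := H.exists_outside
  obtain ⟨d, hd, hmax⟩ := Finset.exists_max_image ((Set.toFinite {d | d ∈ (S : Subgroup G) ∧ d * d = 1 ∧ d ∉ A}).toFinset)
    (fun d => Nat.card ↥((S : Subgroup G) ⊓ cc d)) ⟨d0, by simp [hd0, hd02, hd0A]⟩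
  simp only [Set.Finite.mem_toFinset, Set.mem_setOf_eq] at hd hmax
  obtain ⟨hdS, hd2, hdA⟩ := hd
  obtain ⟨c, hc, D, hB⟩ := H.exists_blk hdS hd2 hdA
  obtain ⟨x, hxS, D, hB, hmax⟩ : ∃ x ∈ (S : Subgroup G), ∃ D : Subgroup (qq x), Blk S A x D ∧
      ∀ v ∈ (S : Subgroup G), v * v = 1 → v ∉ A →
        Nat.card ↥((S : Subgroup G) ⊓ cc v) ≤ Nat.card ↥((S : Subgroup G) ⊓ cc x) :=
    ⟨d * c, mul_mem hdS (H.le_S hc), D, hB, fun v h1 h2 h3 => by rw [H.inf_cc_mul hc]; exact hmax v ⟨h1, h2, h3⟩⟩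
  set R := (S : Subgroup G) ⊓ cc x with hR
  have hxA := hB.at_.ne
  have hxx : x ∈ cc x := AfterFT.CoreSep.mem_cc.mpr rfl
  have hAR : A ≤ R := le_inf H.le_S (H.le_cc hxS)
  have hxR : x ∈ R := ⟨hxS, hxx⟩
  set B := R ⊓ ((centralizer (D : Set (qq x))).comap (ff x)).map (cc x).subtype with hBdef
  have hBmem : ∀ {b : G}, b ∈ B → ∀ h : b ∈ cc x, ff x ⟨b, h⟩ ∈ centralizer (D : Set (qq x)) := by
    intro b hb h
    obtain ⟨b', hb', e⟩ := (mem_inf.mp hb).2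
    rwa [show (⟨b, h⟩ : ↥(cc x)) = b' from Subtype.ext e.symm]
  have hBR : B ≤ R := inf_le_left
  have hxB : x ∈ B := ⟨hxR, ⟨x, hxx⟩, fun d _ => ff_self_central x hxx d, rfl⟩
  have hdis : ∀ b ∈ B, b ∈ A → b = 1 := fun b hb hbA => by
    obtain ⟨j, hj⟩ := pow_two_pow_of_mem H.isPGroup hbA
    exact eq_one_of_ff (mem_inf.mp (hBR hb)).2 hj
      (H.imQ_centralizer hB.at_ (mem_imQ hbA _) (hBmem hb _))
  have hdec : ∀ r ∈ R, ∃ a ∈ A, a * r ∈ B := fun r hr => by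
    obtain ⟨j, hj⟩ := pow_two_pow_of_mem S.2 hr.1
    obtain ⟨a, ha, h, hcent⟩ := H.exists_cent' hB hr.2 hj fun a ha => H.central hr.1 ha
    exact ⟨a, ha, mul_mem (hAR ha) hr, ⟨a * r, h⟩, hcent, rfl⟩
  have hBN : R ≤ normalizer (B : Set G) := by
    intro r hr
    have hrx : r ∈ cc x := (mem_inf.mp hr).2
    refine mem_normalizer_of_maps fun b hb => ?_
    have hbx : b ∈ cc x := (mem_inf.mp (hBR hb)).2
    have hrb : r * b * r⁻¹ ∈ cc x := mul_mem (mul_mem hrx hbx) (inv_mem hrx)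
    refine mem_inf.mpr ⟨mul_mem (mul_mem hr (hBR hb)) (inv_mem hr), ⟨r * b * r⁻¹, hrb⟩, ?_, rfl⟩
    rw [SetLike.mem_coe, mem_comap, show (⟨r * b * r⁻¹, hrb⟩ : ↥(cc x)) =
      ⟨r, hrx⟩ * ⟨b, hbx⟩ * ⟨r, hrx⟩⁻¹ from rfl, map_mul, map_mul, map_inv]
    refine conj_mem_centralizer (H.normalizes hB.at_ ?_) (hBmem hb _)
    rintro _ ⟨α, hα, rfl⟩
    rw [← map_mul, ← map_mul]
    exact congrArg (ff x) (Subtype.ext (H.central hr.1 hα))
  -- `R ≠ S`
  have hRS : R < (S : Subgroup G) := lt_of_le_of_ne inf_le_left fun e => hxA (H.omegaZ_le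
    ⟨hxS, hB.at_.sq, fun s hs => (AfterFT.CoreSep.mem_cc.mp (e.ge hs).2).symm⟩)
  obtain ⟨g₀, hg₀S, hg₀R, hg₀N⟩ := CfsgLib.Bender.TwoClosed.exists_mem_normalizer S.2 hRS
  obtain ⟨g, hgS, hgR, hgN, hg2⟩ : ∃ g ∈ (S : Subgroup G), g ∉ R ∧ g ∈ normalizer (R : Set G) ∧ g * g ∈ R := by
    obtain ⟨j, hj⟩ := pow_two_pow_of_mem S.2 hg₀S
    clear hmax
    induction j generalizing g₀ with
    | zero => exact absurd (show g₀ ∈ R by rw [pow_zero, pow_one] at hj; rw [hj]; exact one_mem R) hg₀R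
    | succ j ih =>
      by_cases h2 : g₀ * g₀ ∈ R
      · exact ⟨g₀, hg₀S, hg₀R, hg₀N, h2⟩
      · refine ih (g₀ * g₀) (mul_mem hg₀S hg₀S) h2 (mul_mem hg₀N hg₀N) ?_
        rw [← pow_two, ← pow_mul, ← pow_succ']
        exact hj
  have hgx : g ∉ cc x := fun h => hgR ⟨hgS, h⟩
  -- `B` meets its conjugate trivially
  set K := B ⊓ B.map (MulAut.conj g).toMonoidHom with hK
  have hKbot : K = ⊥ := by
    by_contra hne
    set P := R ⊔ zpowers g with hP
    have hPS : P ≤ (S : Subgroup G) := sup_le inf_le_left (zpowers_le.mpr hgS)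
    have hPK : P ≤ normalizer (K : Set G) := by
      refine sup_le (fun r hr => mem_normalizer_of_maps fun k hk => ?_) (zpowers_le.mpr (mem_normalizer_of_maps fun k hk => ?_))
      · obtain ⟨hk1, b, hb, rfl⟩ := mem_inf.mp hk
        refine mem_inf.mpr ⟨(mem_normalizer_iff.mp (hBN hr) _).mp hk1, (g⁻¹ * r * g) * b * (g⁻¹ * r * g)⁻¹,
          (mem_normalizer_iff.mp (hBN ((mem_normalizer_iff''.mp hgN r).mp hr)) b).mp hb, ?_⟩
        show g * (g⁻¹ * r * g * b * (g⁻¹ * r * g)⁻¹) * g⁻¹ = r * (g * b * g⁻¹) * r⁻¹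
        group
      · obtain ⟨hk1, b, hb, rfl⟩ := mem_inf.mp hk
        refine mem_inf.mpr ⟨?_, _, hk1, rfl⟩
        show g * (g * b * g⁻¹) * g⁻¹ ∈ B
        rw [show g * (g * b * g⁻¹) * g⁻¹ = g * g * b * (g * g)⁻¹ by group]
        exact (mem_normalizer_iff.mp (hBN hg2) b).mp hb
    obtain ⟨t, htK, ht, htc⟩ := exists_central_in_normal (p := 2) (S.2.to_le hPS)
      ((inf_le_left.trans hBR).trans le_sup_left) hPK hne
    have htB : t ∈ B := (mem_inf.mp htK).1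
    have ht2 : t * t = 1 := by
      have h := pow_orderOf_eq_one t
      rwa [ht, pow_two] at h
    have htA : t ∉ A := fun h => by rw [hdis t htB h, orderOf_one] at ht; omega
    have hle : P ≤ (S : Subgroup G) ⊓ cc t := fun q hq => ⟨hPS hq, AfterFT.CoreSep.mem_cc.mpr (htc q hq)⟩
    have hlt : R < P := lt_of_le_of_ne le_sup_left fun e => hgR (e.symm ▸ mem_sup_right (mem_zpowers g))
    have h1 : Nat.card R < Nat.card P := by
      refine lt_of_not_ge fun h => hlt.ne (eq_of_le_of_card_ge hlt.le h)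
    have h2 := Nat.card_le_card_of_injective _ (inclusion_injective hle)
    have h3 := hmax t (hBR htB).1 ht2 htA
    omega
  have hinj : ∀ b ∈ B, g * b * g⁻¹ ∈ B → b = 1 := fun b hb h => by
    have h1 : g * b * g⁻¹ ∈ K := mem_inf.mpr ⟨h, b, hb, rfl⟩
    rw [hKbot, mem_bot] at h1
    exact conj_eq_one_iff.mp h1
  have hgB : ∀ b ∈ B, g * b * g⁻¹ ∈ R := fun b hb => (mem_normalizer_iff.mp hgN b).mp (hBR hb)
  choose π hπA hπB using fun b : B => hdec _ (hgB b b.2)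
  have hB2 : ∀ b ∈ B, b * b = 1 := by
    intro b hb
    refine hinj _ (mul_mem hb hb) ?_
    have h1 := mul_mem (hπB ⟨b, hb⟩) (hπB ⟨b, hb⟩)
    rw [(show Commute (g * b * g⁻¹) (π ⟨b, hb⟩) from H.central (hgB b hb).1 (hπA ⟨b, hb⟩)).mul_mul_mul_comm
      (π ⟨b, hb⟩) (g * b * g⁻¹), H.sq (hπA ⟨b, hb⟩), one_mul] at h1
    rwa [show g * (b * b) * g⁻¹ = g * b * g⁻¹ * (g * b * g⁻¹) by group]
  have hBe : IsElementaryAbelian 2 B := by
    refine ⟨⟨⟨fun p q => ?_⟩⟩, fun b hb => by rw [pow_two]; exact hB2 b hb⟩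
    have h : ∀ w : B, w⁻¹ = w := fun w => inv_eq_of_mul_eq_one_right (Subtype.ext (hB2 w w.2))
    calc p * q = (p * q)⁻¹ := (h _).symm
      _ = q * p := by rw [mul_inv_rev, h, h]
  have hcard : Nat.card B ≤ 4 := by
    rw [← H.card]
    refine Nat.card_le_card_of_injective (fun b : B => (⟨π b, hπA b⟩ : A)) fun b b' e => ?_
    have e' : π b = π b' := congrArg Subtype.val e
    have h1 := mul_mem (hπB b) (inv_mem (hπB b'))
    rw [← e'] at h1
    have hc : π b * (g * b * g⁻¹) * (π b * (g * b' * g⁻¹))⁻¹ = g * (b * (b' : G)⁻¹) * g⁻¹ := by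
      rw [← H.central (hgB b b.2).1 (hπA b), ← H.central (hgB b' b'.2).1 (hπA b)]
      group
    rw [hc] at h1
    exact Subtype.ext (mul_inv_eq_one.mp (hinj _ (mul_mem b.2 (inv_mem b'.2)) h1))
  have hBA : B ≤ normalizer (A : Set G) := (hBR.trans inf_le_left).trans H.closed.le_normalizer
  have hsup : A ⊔ B = R := le_antisymm (sup_le hAR hBR) fun r hr => by
    obtain ⟨a, ha, hb⟩ := hdec r hr
    rw [show r = a⁻¹ * (a * r) by group]
    exact mul_mem_sup (inv_mem ha) hb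
  refine ⟨x, D, B, hB, hxS, hxB, hBR, fun b hb h => hBmem hb h, hdis, hsup, hBe, hcard,
    ⟨g, hgS, hgx, hgN⟩, fun P hP hPA v hv hv2 hvA => ?_⟩
  rw [show 4 * Nat.card B = Nat.card R by rw [← hsup, card_sup_eq hBA hdis, H.card]]
  set C := centralizer (A : Set G) with hC
  obtain ⟨U, hU⟩ := (hP.of_equiv (subgroupOfEquivOfLe hPA).symm).exists_le_sylow
  obtain ⟨w, hw⟩ := MulAction.exists_smul_eq C U (S.subtype H.S_le_centralizer)
  have hmem : ∀ p ∈ P, (w : G) * p * (w : G)⁻¹ ∈ (S : Subgroup G) := fun p hp => by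
    have h1 := smul_mem_pointwise_smul _ (MulAut.conj w) _ (hU (show (⟨p, hPA hp⟩ : C) ∈ P.subgroupOf C from hp))
    rw [← Sylow.coe_subgroup_smul, hw] at h1
    exact h1
  have hv'2 : (w : G) * v * (w : G)⁻¹ * ((w : G) * v * (w : G)⁻¹) = 1 := by
    rw [show (w : G) * v * (w : G)⁻¹ * ((w : G) * v * (w : G)⁻¹) = (w : G) * (v * v) * (w : G)⁻¹ by group, hv2,
      mul_one, mul_inv_cancel]
  have hv'A : (w : G) * v * (w : G)⁻¹ ∉ A := fun h => hvA (by
    have h1 := w.2 _ h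
    rw [show (w : G) * v * (w : G)⁻¹ * (w : G) = (w : G) * v by group] at h1
    rw [mul_left_cancel h1]
    exact h)
  refine le_trans ?_ (hmax _ (hmem v hv) hv'2 hv'A)
  refine le_trans (le_of_eq (card_map_of_injective (f := (MulAut.conj (w : G)).toMonoidHom) (MulAut.conj (w : G)).injective).symm)
    (Nat.card_le_card_of_injective _ (inclusion_injective ?_))
  rintro _ ⟨p, hp, rfl⟩
  refine ⟨hmem p hp.1, AfterFT.CoreSep.mem_cc.mpr ?_⟩
  show (w : G) * p * (w : G)⁻¹ * ((w : G) * v * (w : G)⁻¹) = (w : G) * v * (w : G)⁻¹ * ((w : G) * p * (w : G)⁻¹)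
  calc _ = (w : G) * (p * v) * (w : G)⁻¹ := by group
    _ = (w : G) * (v * p) * (w : G)⁻¹ := by rw [AfterFT.CoreSep.mem_cc.mp hp.2]
    _ = _ := by group

end Ctx4

end CfsgLib.GoldSC
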