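import Cfsg.Agent.Lib.GoldSC.Four.Transfer

/-!
C4: when the largest centraliser in `S` of an involution outside `A` has order sixteen, it is `A × B`, and the
translations by `A` give five fours whose signalizer functor is trivial.

Blueprint: `blueprint/Goldschmidt.md`, C4.
-/

set_option autoImplicit false
set_option linter.unusedSectionVars false
set_option linter.style.haveILetI false

namespace CfsgLib.GoldSC

open Cfsg Subgroup CfsgLib CfsgLib.Comp CfsgLib.AfterFT.CoreSep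
open CfsgLib.S3Simple (Closed Irred)

universe u

variable {G : Type u} [Group G] [Finite G] {S : Sylow 2 G} {A : Subgroup G}

theorem exists_conjQ (g y : G) : ∃ q : qq y ≃* qq (g * y * g⁻¹),
    ∀ (z : G) (h : z ∈ cc y) (h' : g * z * g⁻¹ ∈ cc (g * y * g⁻¹)),
      q (ff y ⟨z, h⟩) = ff (g * y * g⁻¹) ⟨g * z * g⁻¹, h'⟩ := by
  have hcc : (cc y).map (MulAut.conj g).toMonoidHom = cc (g * y * g⁻¹) := by
    ext z
    rw [Subgroup.mem_map_equiv, MulAut.conj_symm_apply, AfterFT.CoreSep.mem_cc, AfterFT.CoreSep.mem_cc]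
    constructor
    · intro h
      calc z * (g * y * g⁻¹) = g * (g⁻¹ * z * g * y) * g⁻¹ := by group
        _ = g * (y * (g⁻¹ * z * g)) * g⁻¹ := by rw [h]
        _ = g * y * g⁻¹ * z := by group
    · intro h
      calc g⁻¹ * z * g * y = g⁻¹ * (z * (g * y * g⁻¹)) * g := by group
        _ = g⁻¹ * (g * y * g⁻¹ * z) * g := by rw [h]
        _ = y * (g⁻¹ * z * g) := by group
  let e : ↥(cc y) ≃* ↥(cc (g * y * g⁻¹)) :=
    ((MulAut.conj g).subgroupMap (cc y)).trans (MulEquiv.subgroupCongr hcc)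
  exact ⟨QuotientGroup.congr _ _ e (CfsgLib.pPrimeCore_map_equiv 2 e), fun z h h' => rfl⟩

/-- A blocked component is carried along by the normaliser of `A`. -/
theorem Blk.conj {y : G} {D : Subgroup (qq y)} (hB : Blk S A y D) {g : G} (hg : g ∈ normalizer (A : Set G)) :
    ∃ D' : Subgroup (qq (g * y * g⁻¹)), Blk S A (g * y * g⁻¹) D' ∧ Nonempty (↥D ≃* ↥D') ∧
      ∀ z ∈ cc y, CentAt y D z → CentAt (g * y * g⁻¹) D' (g * z * g⁻¹) := by
  obtain ⟨q, hq⟩ := exists_conjQ g y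
  have hAt := hB.at_
  have hcc : ∀ {z : G}, z ∈ cc y → g * z * g⁻¹ ∈ cc (g * y * g⁻¹) := fun {z} hz => AfterFT.CoreSep.mem_cc.mpr (by
    calc g * z * g⁻¹ * (g * y * g⁻¹) = g * (z * y) * g⁻¹ := by group
      _ = g * (y * z) * g⁻¹ := by rw [AfterFT.CoreSep.mem_cc.mp hz]
      _ = _ := by group)
  have hcent : ∀ (z : G) (h : z ∈ cc y), ff y ⟨z, h⟩ ∈ centralizer (D : Set (qq y)) ↔
      ff (g * y * g⁻¹) ⟨g * z * g⁻¹, hcc h⟩ ∈ centralizer ((D.map q.toMonoidHom : Subgroup _) : Set _) := by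
    intro z h
    rw [← hq z h (hcc h)]
    constructor
    · rintro hd _ ⟨d, hd', rfl⟩
      show q d * q _ = q _ * q d
      rw [← map_mul, ← map_mul, hd d hd']
    · intro hd d hd'
      refine q.injective ?_
      rw [map_mul, map_mul]
      exact hd _ ⟨d, hd', rfl⟩
  refine ⟨D.map q.toMonoidHom, ⟨⟨hAt.closed, hAt.card, fun h => hAt.ne ?_, ?_, fun a ha => ?_,
    isComponent_map_equiv q hAt.comp, ?_⟩, ?_⟩, ⟨D.equivMapOfInjective q.toMonoidHom q.injective⟩, fun z hz hc h' => (hcent z hz).mp (hc hz)⟩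
  · exact (mem_normalizer_iff.mp hg y).mpr h
  · rw [show g * y * g⁻¹ * (g * y * g⁻¹) = g * (y * y) * g⁻¹ by group, hAt.sq, mul_one, mul_inv_cancel]
  · have h1 := hcc (hAt.le ((mem_normalizer_iff''.mp hg a).mp ha))
    rwa [show g * (g⁻¹ * a * g) * g⁻¹ = a by group] at h1
  · obtain ⟨a, ha, hax, hnot⟩ := hAt.moved
    exact ⟨g * a * g⁻¹, (mem_normalizer_iff.mp hg a).mp ha, hcc hax, fun hh => hnot ((hcent a hax).mpr hh)⟩
  · obtain ⟨K, i1, i2, h8, h11, ⟨e⟩⟩ := hB.big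
    exact ⟨K, i1, i2, h8, h11, ⟨(D.equivMapOfInjective q.toMonoidHom q.injective).symm.trans e⟩⟩

/-- The configuration of C4. -/
structure Plane (S : Sylow 2 G) (A : Subgroup G) (x : G) (D : Subgroup (qq x)) (B : Subgroup G) (g : Fin 4 → G)
    (k : G) : Prop where
  top : Top S A x D B
  four : Nat.card B = 4
  one : g 0 = 1
  gcent : ∀ i, g i ∈ centralizer (A : Set G)
  gnorm : ∀ i, g i ∈ normalizer ((A ⊔ B : Subgroup G) : Set G)
  move : ∀ i, ∀ b ∈ B, g i * b * (g i)⁻¹ * b ∈ A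
  cover : ∀ a ∈ A, a ≠ 1 → ∀ b ∈ B, b ≠ 1 → ∃ i, g i * b * (g i)⁻¹ = a * b
  k_cc : k ∈ cc x
  k_norm : k ∈ normalizer (A : Set G)
  k_fpf : ∀ a ∈ A, k * a = a * k → a = 1
  k_cent : ∀ b ∈ B, k * b = b * k

/-- The five fours. -/
def fours (A B : Subgroup G) (g : Fin 4 → G) : Option (Fin 4) → Subgroup G
  | none => A
  | some i => B.map (MulAut.conj (g i)).toMonoidHom

namespace Ctx4

variable (H : Ctx4 S A)
include H

theorem top_ea {x : G} {D : Subgroup (qq x)} {B : Subgroup G} (T : Top S A x D B) :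
    IsElementaryAbelian 2 (A ⊔ B : Subgroup G) ∧ ∀ e ∈ A ⊔ B, ∃ a ∈ A, ∃ b ∈ B, e = a * b :=
  ea_sup ⟨⟨⟨fun p q => Subtype.ext (H.comm p.2 q.2)⟩⟩, fun a ha => by rw [pow_two]; exact H.sq ha⟩ T.elem
    fun a ha b hb => (H.central (mem_inf.mp (T.le hb)).1 ha).symm

theorem exists_plane {x : G} {D : Subgroup (qq x)} {B : Subgroup G} (T : Top S A x D B) (hB4 : Nat.card B = 4) :
    ∃ g k, Plane S A x D B g k := by
  classical
  haveI : Fact (Nat.Prime 2) := ⟨Nat.prime_two⟩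
  obtain ⟨hE, hdec⟩ := H.top_ea T
  set E := A ⊔ B with hEdef
  have hER : E = (S : Subgroup G) ⊓ cc x := T.sup
  have hES : E ≤ (S : Subgroup G) := hER ▸ inf_le_left
  have hsq : ∀ {e : G}, e ∈ E → e * e = 1 := fun he => by rw [← pow_two]; exact hE.2 _ he
  have hEc : ∀ {p q : G}, p ∈ E → q ∈ E → p * q = q * p := fun hp hq => CfsgLib.Signalizer.ea_comm hE hp hq
  have hBE : B ≤ E := le_sup_right
  have hAE : A ≤ E := le_sup_left
  have hE16 : Nat.card E = 16 := by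
    rw [hEdef, card_sup_eq ((T.le.trans inf_le_left).trans H.closed.le_normalizer) T.disjoint, H.card, hB4]
  obtain ⟨k, hkc, hkE, hkA, hkf, hkm, hkB⟩ := H.exists_turn T.blk.at_ (B := E) (S.2.to_le hES) le_sup_left
    (hER ▸ inf_le_right) (fun b hb' h => by
      obtain ⟨j, hj⟩ := pow_two_pow_of_mem S.2 (hES hb')
      obtain ⟨a, ha, hab, hcent⟩ := H.exists_cent' T.blk h hj fun a ha => H.central (hES hb') ha
      refine ⟨ff x ⟨a, H.le_cc T.mem ha⟩, mem_imQ ha _, ?_⟩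
      rw [← map_mul]
      exact hcent)
  have hkb : ∀ b ∈ B, k * b = b * k := fun b hb =>
    hkB b (hBE hb) (mem_inf.mp (T.le hb)).2 (T.cent b hb _)
  obtain ⟨g₀, hg₀S, hg₀x, hg₀R⟩ := T.moves
  rw [← hER] at hg₀R
  have hcentA : ∀ {c : G}, c ∈ centralizer (A : Set G) → ∀ a ∈ A, c * a * c⁻¹ = a := fun hc a ha => by
    rw [comm_of_cent hc ha, mul_inv_cancel_right]
  have hg₀C := H.S_le_centralizer hg₀S
  set h := k * g₀ * k⁻¹ * g₀⁻¹ with hh
  have hkg : ∀ {c : G}, c ∈ centralizer (A : Set G) → k * c * k⁻¹ ∈ centralizer (A : Set G) := fun {c} hc a ha => by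
    have h1 := hc _ ((mem_normalizer_iff''.mp hkA a).mp ha)
    calc a * (k * c * k⁻¹) = k * (k⁻¹ * a * k * c) * k⁻¹ := by group
      _ = k * (c * (k⁻¹ * a * k)) * k⁻¹ := by rw [h1]
      _ = _ := by group
  have hhC : h ∈ centralizer (A : Set G) := mul_mem (hkg hg₀C) (inv_mem hg₀C)
  have hhE : h ∈ normalizer (E : Set G) := mul_mem (mul_mem (mul_mem hkE hg₀R) (inv_mem hkE)) (inv_mem hg₀R)
  have hmv : ∀ b ∈ B, h * b * h⁻¹ * b ∈ A := fun b hb => by
    set e₁ := g₀⁻¹ * b * g₀ with he₁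
    have he₁E : e₁ ∈ E := (mem_normalizer_iff''.mp hg₀R b).mp (hBE hb)
    set e₂ := k⁻¹ * e₁ * k with he₂
    have he₂E : e₂ ∈ E := (mem_normalizer_iff''.mp hkE e₁).mp he₁E
    have ha₁ : e₁ * e₂⁻¹ ∈ A := by
      have h1 := hkm e₂ he₂E
      rwa [show k * e₂ * k⁻¹ = e₁ by rw [he₂]; group] at h1
    have ha₂ : k * (e₁ * e₂⁻¹) * k⁻¹ ∈ A := (mem_normalizer_iff.mp hkA _).mp ha₁
    have e : h * b * h⁻¹ * b = (k * (e₁ * e₂⁻¹) * k⁻¹)⁻¹ := by
      have h1 : h * b * h⁻¹ = k * (g₀ * e₂ * g₀⁻¹) * k⁻¹ := by rw [hh, he₂, he₁]; group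
      have h2 : g₀ * e₂ * g₀⁻¹ = (e₁ * e₂⁻¹)⁻¹ * b := by
        rw [show e₂ = (e₁ * e₂⁻¹)⁻¹ * e₁ by group, show g₀ * ((e₁ * e₂⁻¹)⁻¹ * e₁) * g₀⁻¹ =
          g₀ * (e₁ * e₂⁻¹)⁻¹ * g₀⁻¹ * (g₀ * e₁ * g₀⁻¹) by group, hcentA hg₀C _ (inv_mem ha₁),
          show g₀ * e₁ * g₀⁻¹ = b by rw [he₁]; group]
        group
      rw [h1, h2, show k * ((e₁ * e₂⁻¹)⁻¹ * b) * k⁻¹ = (k * (e₁ * e₂⁻¹) * k⁻¹)⁻¹ * (k * b * k⁻¹) by group,
        hkb b hb, mul_inv_cancel_right, mul_assoc, hsq (hBE hb), mul_one]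
    exact e ▸ inv_mem ha₂
  -- `h` moves an element
  obtain ⟨b₀, hb₀, hhb₀⟩ : ∃ b ∈ B, h * b * h⁻¹ ≠ b := by
    by_contra hcon
    push Not at hcon
    have hfix : ∀ e ∈ E, h * e * h⁻¹ = e := fun e he => by
      obtain ⟨a, ha, b, hb, rfl⟩ := hdec e he
      rw [show h * (a * b) * h⁻¹ = h * a * h⁻¹ * (h * b * h⁻¹) by group, hcentA hhC a ha, hcon b hb]
    have hgB : ∀ b ∈ B, g₀ * b * g₀⁻¹ ∈ B := fun b hb => by
      set e := g₀ * b * g₀⁻¹ with he
      have heE : e ∈ E := (mem_normalizer_iff.mp hg₀R b).mp (hBE hb)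
      have hke : k * e * k⁻¹ = e := by
        have h1 := hfix e heE
        have h2 : h * e * h⁻¹ = k * (g₀ * (k⁻¹ * b * k) * g₀⁻¹) * k⁻¹ := by rw [hh, he]; group
        rw [h2, show k⁻¹ * b * k = b by rw [mul_assoc, ← hkb b hb, inv_mul_cancel_left]] at h1
        exact h1
      obtain ⟨a, ha, b', hb', hab⟩ := hdec e heE
      have ha1 : a = 1 := by
        refine hkf a ha (mul_inv_eq_iff_eq_mul.mp ?_)
        rw [hab, show k * (a * b') * k⁻¹ = k * a * k⁻¹ * (k * b' * k⁻¹) by group, hkb b' hb',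
          mul_inv_cancel_right] at hke
        exact mul_right_cancel hke
      rw [hab, ha1, one_mul]
      exact hb'
    have hgN : g₀ ∈ normalizer (B : Set G) := mem_normalizer_of_maps hgB
    set P := E ⊔ zpowers g₀ with hP
    have hPS : P ≤ (S : Subgroup G) := sup_le hES (zpowers_le.mpr hg₀S)
    have hPB : P ≤ normalizer (B : Set G) := sup_le (fun e he => mem_normalizer_of_maps fun b hb => by
      rwa [hEc he (hBE hb), mul_inv_cancel_right]) (zpowers_le.mpr hgN)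
    obtain ⟨t, htB, ht, htc⟩ := exists_central_in_normal (p := 2) (S.2.to_le hPS) (hBE.trans le_sup_left) hPB
      (fun e => by rw [e, card_bot] at hB4; omega)
    have ht2 : t * t = 1 := hsq (hBE htB)
    have htA : t ∉ A := fun h => by rw [T.disjoint t htB h, orderOf_one] at ht; omega
    have h1 := T.bound P (S.2.to_le hPS) (hPS.trans H.S_le_centralizer) t (mem_sup_left (hBE htB)) ht2 htA
    rw [inf_eq_left.mpr fun q hq => AfterFT.CoreSep.mem_cc.mpr (htc q hq), hB4] at h1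
    have hlt : E < P := lt_of_le_of_ne le_sup_left fun e => hg₀x (by
      have h2 : g₀ ∈ E := e.symm ▸ mem_sup_right (mem_zpowers g₀)
      rw [hER] at h2
      exact h2.2)
    have h2 : Nat.card E < Nat.card P := lt_of_not_ge fun h => hlt.ne (eq_of_le_of_card_ge hlt.le h)
    omega
  -- so it moves each
  have hall : ∀ b ∈ B, b ≠ 1 → h * b * h⁻¹ ≠ b := by
    intro t htB ht1 ht
    obtain ⟨i, m, hm, him⟩ := Nat.exists_eq_pow_mul_and_not_dvd (orderOf_pos h).ne' 2 (by norm_num)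
    have h2fix : ∀ b ∈ B, h * (h * b * h⁻¹) * h⁻¹ = b := fun b hb => by
      rw [show h * b * h⁻¹ = h * b * h⁻¹ * b * b by rw [mul_assoc (h * b * h⁻¹), hsq (hBE hb), mul_one],
        show h * (h * b * h⁻¹ * b * b) * h⁻¹ = h * (h * b * h⁻¹ * b) * h⁻¹ * (h * b * h⁻¹) by group,
        hcentA hhC _ (hmv b hb), show h * b * h⁻¹ * b * (h * b * h⁻¹) =
          (h * b * h⁻¹ * b) * (h * b * h⁻¹ * b) * b⁻¹ by group, H.sq (hmv b hb), one_mul,
        inv_eq_of_mul_eq_one_right (hsq (hBE hb))]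
    have hodd : ∀ j : ℕ, ∀ b ∈ B, h ^ (2 * j + 1) * b * (h ^ (2 * j + 1))⁻¹ = h * b * h⁻¹ := by
      intro j
      induction j with
      | zero => intro b _; simp
      | succ j ih =>
        intro b hb
        calc h ^ (2 * (j + 1) + 1) * b * (h ^ (2 * (j + 1) + 1))⁻¹
            = h ^ (2 * j + 1) * (h * (h * b * h⁻¹) * h⁻¹) * (h ^ (2 * j + 1))⁻¹ := by group
          _ = h * b * h⁻¹ := by rw [h2fix b hb, ih b hb]
    obtain ⟨j, rfl⟩ : ∃ j, m = 2 * j + 1 := ⟨m / 2, by omega⟩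
    set h' := h ^ (2 * j + 1) with hh'
    have hh'2 : ∃ l : ℕ, h' ^ 2 ^ l = 1 := ⟨i, by
      rw [hh', ← pow_mul, mul_comm, ← him, pow_orderOf_eq_one]⟩
    have hz : IsPGroup 2 (zpowers h') := by
      obtain ⟨l, hl⟩ := hh'2
      rintro ⟨z, hz⟩
      obtain ⟨n, rfl⟩ := mem_zpowers_iff.mp hz
      refine ⟨l, Subtype.ext ?_⟩
      show (h' ^ n) ^ 2 ^ l = 1
      rw [← zpow_natCast, ← zpow_mul, mul_comm, zpow_mul, zpow_natCast, hl, one_zpow]
    have hh'N : zpowers h' ≤ normalizer (E : Set G) := zpowers_le.mpr (pow_mem hhE _)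
    set P := E ⊔ zpowers h' with hP
    have hP2 : IsPGroup 2 P := (S.2.to_le hES).to_sup_of_normal_left' hz hh'N
    have htA : t ∉ A := fun h => ht1 (T.disjoint t htB h)
    have hPt : P ≤ cc t := sup_le (fun e he => AfterFT.CoreSep.mem_cc.mpr (hEc he (hBE htB)))
      (zpowers_le.mpr (AfterFT.CoreSep.mem_cc.mpr (mul_inv_eq_iff_eq_mul.mp (by rw [hh', hodd j t htB, ht]))))
    have h1 := T.bound P hP2 (sup_le (hES.trans H.S_le_centralizer) (zpowers_le.mpr (pow_mem hhC _)))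
      t (mem_sup_left (hBE htB)) (hsq (hBE htB)) htA
    rw [inf_eq_left.mpr hPt, hB4] at h1
    have hlt : E < P := lt_of_le_of_ne le_sup_left fun e => hhb₀ (by
      have h2 : h' ∈ E := e.symm ▸ mem_sup_right (mem_zpowers h')
      rw [← hodd j b₀ hb₀, ← hh', hEc h2 (hBE hb₀), mul_inv_cancel_right])
    have h2 : Nat.card E < Nat.card P := lt_of_not_ge fun h => hlt.ne (eq_of_le_of_card_ge hlt.le h)
    omega
  -- the four translations
  set h₁ := k * h * k⁻¹ with hh₁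
  set h₂ := k * h₁ * k⁻¹ with hh₂
  have hconj : ∀ c, ∀ b ∈ B, k * c * k⁻¹ * b * (k * c * k⁻¹)⁻¹ * b = k * (c * b * c⁻¹ * b) * k⁻¹ := fun c b hb => by
    have h1 : k⁻¹ * b * k = b := by rw [mul_assoc, ← hkb b hb, inv_mul_cancel_left]
    calc k * c * k⁻¹ * b * (k * c * k⁻¹)⁻¹ * b = k * (c * (k⁻¹ * b * k) * c⁻¹ * (k⁻¹ * b * k)) * k⁻¹ := by group
      _ = _ := by rw [h1]
  refine ⟨![1, h, h₁, h₂], k, T, hB4, rfl, ?_, ?_, ?_, ?_, hkc, hkA, hkf, hkb⟩
  · intro i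
    fin_cases i
    exacts [one_mem _, hhC, hkg hhC, hkg (hkg hhC)]
  · intro i
    fin_cases i
    exacts [one_mem _, hhE, mul_mem (mul_mem hkE hhE) (inv_mem hkE),
      mul_mem (mul_mem hkE (mul_mem (mul_mem hkE hhE) (inv_mem hkE))) (inv_mem hkE)]
  · intro i b hb
    fin_cases i
    · show (1 : G) * b * 1⁻¹ * b ∈ A
      rw [one_mul, inv_one, mul_one, hsq (hBE hb)]
      exact one_mem A
    · exact hmv b hb
    · show h₁ * b * h₁⁻¹ * b ∈ A
      rw [hh₁, hconj h b hb]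
      exact (mem_normalizer_iff.mp hkA _).mp (hmv b hb)
    · show h₂ * b * h₂⁻¹ * b ∈ A
      rw [hh₂, hconj h₁ b hb, hh₁, hconj h b hb]
      exact (mem_normalizer_iff.mp hkA _).mp ((mem_normalizer_iff.mp hkA _).mp (hmv b hb))
  · intro a ha ha1 b hb hb1
    set p := h * b * h⁻¹ * b with hp
    have hpA : p ∈ A := hmv b hb
    have hbb : b * b = 1 := hsq (hBE hb)
    have hback : ∀ c r, c * b * c⁻¹ * b = r → c * b * c⁻¹ = r * b := fun c r e => by
      rw [← e, mul_assoc (c * b * c⁻¹), hbb, mul_one]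
    have hp1 : p ≠ 1 := fun e => hall b hb hb1 (by
      have h1 := hback h 1 e
      rwa [one_mul] at h1)
    obtain ⟨hq1, hqp, hr⟩ := H.turn_sq hkA hkf hpA hp1
    by_cases h1 : a = p
    · exact ⟨1, h1 ▸ hback h p rfl⟩
    by_cases h2 : a = k * p * k⁻¹
    · exact ⟨2, h2 ▸ hback h₁ _ (by rw [hh₁, hconj h b hb])⟩
    refine ⟨3, hback h₂ a ?_⟩
    rw [hh₂, hconj h₁ b hb, hh₁, hconj h b hb, ← hp, hr]
    exact (CfsgLib.S3Simple.four_third H.card hpA ((mem_normalizer_iff.mp hkA p).mp hpA) ha hp1 hq1 hqp.symm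
      (fun _ h => H.sq h) ha1 h1 h2).symm

variable {x : G} {D : Subgroup (qq x)} {B : Subgroup G} {g : Fin 4 → G} {k : G}

theorem plane_mem_E (P : Plane S A x D B g k) (i : Fin 4) {b : G} (hb : b ∈ B) : g i * b * (g i)⁻¹ ∈ A ⊔ B :=
  (mem_normalizer_iff.mp (P.gnorm i) b).mp (mem_sup_right hb)

theorem plane_gN (P : Plane S A x D B g k) (i : Fin 4) : g i ∈ normalizer (A : Set G) :=
  mem_normalizer_of_maps fun a ha => by rwa [comm_of_cent (P.gcent i) ha, mul_inv_cancel_right]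

/-- Each point of `B` is blocked, by a component that `B` centralises. -/
theorem plane_blk (P : Plane S A x D B g k) {b : G} (hb : b ∈ B) (hb1 : b ≠ 1) :
    ∃ Db : Subgroup (qq b), Blk S A b Db ∧ ∀ e ∈ B, CentAt b Db e := by
  haveI : Fact (Nat.Prime 2) := ⟨Nat.prime_two⟩
  obtain ⟨hE, -⟩ := H.top_ea P.top
  have hbS : b ∈ (S : Subgroup G) := (mem_inf.mp (P.top.le hb)).1
  have hb2 : b * b = 1 := by rw [← pow_two]; exact P.top.elem.2 b hb
  have hbA : b ∉ A := fun h => hb1 (P.top.disjoint b hb h)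
  obtain ⟨Db, hDb⟩ : ∃ Db : Subgroup (qq b), Blk S A b Db := by
    obtain ⟨c, hc, D', hB'⟩ := H.exists_blk hbS hb2 hbA
    by_cases hc1 : c = 1
    · have hex : ∃ D' : Subgroup (qq (b * c)), Blk S A (b * c) D' := ⟨D', hB'⟩
      rw [hc1, mul_one] at hex
      exact hex
    obtain ⟨i, hi⟩ := P.cover c hc hc1 b hb hb1
    have hbc : b * c = g i * b * (g i)⁻¹ := by rw [hi, H.central hbS hc]
    have h := hB'.conj (inv_mem (H.plane_gN P i))
    rw [show (g i)⁻¹ * (b * c) * (g i)⁻¹⁻¹ = b by rw [hbc]; group] at h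
    obtain ⟨D'', hD'', -, -⟩ := h
    exact ⟨D'', hD''⟩
  refine ⟨Db, hDb, fun e he h => ?_⟩
  have heS : e ∈ (S : Subgroup G) := (mem_inf.mp (P.top.le he)).1
  obtain ⟨j, hj⟩ := pow_two_pow_of_mem S.2 heS
  obtain ⟨a, ha, hae, hcent⟩ := H.exists_cent' hDb h hj fun a ha => H.central heS ha
  have hkb : k ∈ cc b := AfterFT.CoreSep.mem_cc.mpr (P.k_cent b hb)
  set κ := ff b ⟨k, hkb⟩ with hκ
  set cj := MulAut.conj κ with hcj
  have hAt := hDb.at_
  have hmoved : Moved A b (Db.map cj.toMonoidHom) := by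
    obtain ⟨α, hα, hαb, hnot⟩ := hAt.moved
    refine ⟨k * α * k⁻¹, (mem_normalizer_iff.mp P.k_norm α).mp hα, mul_mem (mul_mem hkb hαb) (inv_mem hkb),
      fun hh => hnot fun d hd => cj.injective ?_⟩
    rw [map_mul, map_mul]
    have h1 := hh _ ⟨d, hd, rfl⟩
    rw [show (⟨k * α * k⁻¹, mul_mem (mul_mem hkb hαb) (inv_mem hkb)⟩ : ↥(cc b)) =
      ⟨k, hkb⟩ * ⟨α, hαb⟩ * ⟨k, hkb⟩⁻¹ from rfl, map_mul, map_mul, map_inv] at h1
    exact h1
  have heq : Db = Db.map cj.toMonoidHom := H.facts.unique S A b _ _ hAt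
    ⟨hAt.closed, hAt.card, hAt.ne, hAt.sq, hAt.le, isComponent_map_equiv cj hAt.comp, hmoved⟩
  have hκN : κ ∈ normalizer (Db : Set (qq b)) := mem_normalizer_of_maps fun d hd => by
    rw [heq]
    exact ⟨d, hd, rfl⟩
  have hka : k * a * k⁻¹ ∈ A := (mem_normalizer_iff.mp P.k_norm a).mp ha
  have hkab : k * a * k⁻¹ * a ∈ cc b := mul_mem (hAt.le hka) (hAt.le ha)
  have hae' : k * (a * e) * k⁻¹ * (a * e) = k * a * k⁻¹ * a := by
    have hee : e * e = 1 := by rw [← pow_two]; exact P.top.elem.2 e he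
    rw [show k * (a * e) * k⁻¹ = k * a * k⁻¹ * (k * e * k⁻¹) by group, P.k_cent e he, mul_inv_cancel_right,
      show k * a * k⁻¹ * e * (a * e) = k * a * k⁻¹ * (e * a) * e by group, H.central heS ha,
      show k * a * k⁻¹ * (a * e) * e = k * a * k⁻¹ * a * (e * e) by group, hee, mul_one]
  have hc : ff b ⟨k * a * k⁻¹ * a, hkab⟩ ∈ centralizer (Db : Set (qq b)) := by
    have h1 := mul_mem (conj_mem_centralizer hκN hcent) hcent
    rw [hκ, ← map_inv, ← map_mul, ← map_mul, ← map_mul] at h1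
    exact (congrArg (fun w => ff b w ∈ centralizer (Db : Set (qq b))) (Subtype.ext hae' :
      (⟨k, hkb⟩ * ⟨a * e, hae⟩ * ⟨k, hkb⟩⁻¹ * ⟨a * e, hae⟩ : ↥(cc b)) = ⟨k * a * k⁻¹ * a, hkab⟩)).mp h1
  have h1 := H.imQ_centralizer hAt (mem_imQ (mul_mem hka ha) hkab) hc
  obtain ⟨l, hl⟩ := pow_two_pow_of_mem H.isPGroup (mul_mem hka ha)
  have h2 := eq_one_of_ff hkab hl h1
  have ha1 : a = 1 := P.k_fpf a ha (mul_inv_eq_iff_eq_mul.mp (by
    rw [eq_inv_of_mul_eq_one_left h2, inv_eq_of_mul_eq_one_right (H.sq ha)]))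
  subst ha1
  rw [show (⟨e, h⟩ : ↥(cc b)) = ⟨1 * e, hae⟩ from Subtype.ext (one_mul e).symm]
  exact hcent

/-- Each point outside `A` is blocked, by a component centralised by its member. -/
theorem plane_blk' (P : Plane S A x D B g k) (i : Fin 4) {b : G} (hb : b ∈ B) (hb1 : b ≠ 1) :
    ∃ D' : Subgroup (qq (g i * b * (g i)⁻¹)), Blk S A (g i * b * (g i)⁻¹) D' ∧
      ∀ α ∈ fours A B g (some i), CentAt (g i * b * (g i)⁻¹) D' α := by
  haveI : Fact (Nat.Prime 2) := ⟨Nat.prime_two⟩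
  obtain ⟨Db, hDb, hc⟩ := H.plane_blk P hb hb1
  obtain ⟨D', hD', -, hc'⟩ := hDb.conj (H.plane_gN P i)
  refine ⟨D', hD', ?_⟩
  rintro _ ⟨e, he, rfl⟩
  exact hc' e (AfterFT.CoreSep.mem_cc.mpr (CfsgLib.Signalizer.ea_comm P.top.elem he hb)) (hc e he)

/-- At a point outside `A` a component is centralised by the member, or by `A`. -/
theorem plane_sep (P : Plane S A x D B g k) (i : Fin 4) {b : G} (hb : b ∈ B) (hb1 : b ≠ 1)
    (D' : Subgroup (qq (g i * b * (g i)⁻¹))) (hD' : IsComponent D') :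
    (∀ α ∈ fours A B g (some i), CentAt (g i * b * (g i)⁻¹) D' α) ∨
      ∀ α ∈ A, CentAt (g i * b * (g i)⁻¹) D' α := by
  obtain ⟨D₁, hD₁, hc⟩ := H.plane_blk' P i hb hb1
  by_cases hm : Moved A (g i * b * (g i)⁻¹) D'
  · have hAt := hD₁.at_
    rw [H.facts.unique S A _ _ _ ⟨hAt.closed, hAt.card, hAt.ne, hAt.sq, hAt.le, hD', hm⟩ hAt]
    exact Or.inl hc
  · exact Or.inr fun α hα h => centralizes_of_not_moved hm α hα h

theorem plane_spread (P : Plane S A x D B g k) : Spread (A ⊔ B) (fours A B g) := by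
  haveI : Fact (Nat.Prime 2) := ⟨Nat.prime_two⟩
  obtain ⟨hE, hdec⟩ := H.top_ea P.top
  have hcardE : Nat.card ↥(A ⊔ B) = 16 := by
    rw [card_sup_eq ((P.top.le.trans inf_le_left).trans H.closed.le_normalizer) P.top.disjoint, H.card, P.four]
  refine ⟨hE, by omega, fun j => ?_, fun e he he1 D' hD' => Or.inl ?_⟩
  · cases j with
    | none => exact H.four hE le_sup_left
    | some i =>
      refine ⟨hE, ?_, ?_, ?_⟩
      · rintro _ ⟨b, hb, rfl⟩
        exact H.plane_mem_E P i hb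
      · show Nat.card ↥(B.map (MulAut.conj (g i)).toMonoidHom) = 4
        rw [card_map_of_injective (f := (MulAut.conj (g i)).toMonoidHom) (MulAut.conj (g i)).injective, P.four]
      · rintro _ ⟨b, hb, rfl⟩ hy1 D' hD'
        rcases H.plane_sep P i hb (fun e => hy1 (by rw [e, map_one])) D' hD' with h | h
        · exact Or.inl h
        · refine Or.inr fun a ha => ?_
          obtain ⟨α, hα, b', hb', rfl⟩ := hdec a ha
          refine ⟨g i * b' * (g i)⁻¹, ⟨b', hb', rfl⟩, ?_⟩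
          rw [show g i * b' * (g i)⁻¹ * (α * b') = g i * b' * (g i)⁻¹ * b' * α by
            rw [← H.central (mem_inf.mp (P.top.le hb')).1 hα]; group]
          exact h _ (mul_mem (P.move i b' hb') hα)
  · obtain ⟨α, hα, b, hb, rfl⟩ := hdec e he
    by_cases hb1 : b = 1
    · subst hb1
      revert D'
      rw [mul_one] at he1 ⊢
      exact fun D' hD' => ⟨none, H.not_moved hα he1 hD'⟩
    obtain ⟨i, hi⟩ : ∃ i, g i * b * (g i)⁻¹ = α * b := by
      by_cases hα1 : α = 1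
      · exact ⟨0, by rw [P.one, hα1, inv_one, mul_one, one_mul]⟩
      · exact P.cover α hα hα1 b hb hb1
    have h := H.plane_sep P i hb hb1
    rw [hi] at h
    rcases h D' hD' with h | h
    · exact ⟨some i, h⟩
    · exact ⟨none, h⟩

/-- The functor is trivial. -/
theorem plane_sigT (P : Plane S A x D B g k) {e : G} (he : e ∈ A ⊔ B) (he1 : e ≠ 1) :
    sigT (fours A B g) e = ⊥ := by
  have hS := H.plane_spread P
  exact le_bot_iff.mp ((hS.sigT_le_sigW he he1).trans (H.sigW_eq_bot hS le_sup_left).le)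

end Ctx4

end CfsgLib.GoldSC
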