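import Cfsg.Agent.Lib.GoldSC.Four.Frame
import Cfsg.Agent.Lib.TransferExtremal

/-!
C3: the centralisers in `S` of the involutions outside `A` do not all have order eight.

Blueprint: `blueprint/Goldschmidt.md`, C3.
-/

set_option autoImplicit false
set_option linter.unusedSectionVars false
set_option linter.style.haveILetI false

namespace CfsgLib.GoldSC

open Cfsg Subgroup CfsgLib CfsgLib.Comp CfsgLib.AfterFT.CoreSep
open CfsgLib.S3Simple (Closed Irred)

universe u

variable {G : Type u} [Group G] [Finite G] {S : Sylow 2 G} {A : Subgroup G}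

theorem delta_conj (k x u : G) : delta (k * x * k⁻¹) (k * u * k⁻¹) = k * delta x u * k⁻¹ := by
  unfold delta
  group

theorem delta_mul_left {a x u : G} (ha : a * a = 1) (hau : u * a = a * u) (hax : x * a = a * x) :
    delta (a * x) u = delta x u := by
  unfold delta
  have h1 : u⁻¹ * a = a * u⁻¹ := ((show Commute u a from hau).inv_left).eq
  calc u * (a * x) * u⁻¹ * (a * x) = (u * a) * x * (u⁻¹ * a) * x := by group
    _ = a * u * (x * a) * u⁻¹ * x := by rw [hau, h1]; group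
    _ = a * (u * a) * (x * u⁻¹ * x) := by rw [hax]; group
    _ = a * a * (u * x * u⁻¹ * x) := by rw [hau]; group
    _ = _ := by rw [ha, one_mul]

/-- The elements of `C(A)` normalising `A⟨x⟩`. -/
def moveN (A : Subgroup G) (x : G) : Subgroup G :=
  normalizer ((A ⊔ zpowers x : Subgroup G) : Set G) ⊓ centralizer (A : Set G)

theorem Frame.conj {x : G} {M : Subgroup G} (F : Frame A x M) {c : G} (hc : c ∈ centralizer (A : Set G)) :
    Frame A (c * x * c⁻¹) (M.map (MulAut.conj c).toMonoidHom) := by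
  have hfix : ∀ a ∈ A, c * a * c⁻¹ = a := fun a ha => by rw [← hc a ha, mul_inv_cancel_right]
  refine ⟨F.isP.map _, ?_, fun a ha => ⟨a, F.leA ha, hfix a ha⟩, ?_, ⟨x, F.mem, rfl⟩, ?_, fun h => F.ne ?_, ?_⟩
  · rw [card_map_of_injective (f := (MulAut.conj c).toMonoidHom) (MulAut.conj c).injective, F.card]
  · rintro _ ⟨m, hm, rfl⟩
    exact mul_mem (mul_mem hc (F.cent hm)) (inv_mem hc)
  · rw [show c * x * c⁻¹ * (c * x * c⁻¹) = c * (x * x) * c⁻¹ by group, F.sq, mul_one, mul_inv_cancel]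
  · have h1 := hc _ h
    rw [show c * x * c⁻¹ * c = c * x by group] at h1
    rw [mul_left_cancel h1]
    exact h
  · rintro _ ⟨m, hm, rfl⟩
    show delta (c * x * c⁻¹) (c * m * c⁻¹) ∈ A
    rw [delta_conj, hfix _ (F.comm m hm)]
    exact F.comm m hm

namespace Ctx4

variable (H : Ctx4 S A) (hb : Bound A 8)
include H hb

variable {x : G} {M U : Subgroup G}

/-- The involutions of `U` lie in `A`. -/
theorem abelian_sq (F : Frame A x M) (hUM : U ≤ M) (h16 : Nat.card U = 16)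
    (hab : ∀ u ∈ U, ∀ v ∈ U, u * v = v * u) {u : G} (hu : u ∈ U) (hu2 : u * u = 1) : u ∈ A := by
  by_contra hA
  have h := hb U (F.isP.to_le hUM) (hUM.trans F.cent) u hu hu2 hA
  rw [inf_eq_left.mpr fun v hv => AfterFT.CoreSep.mem_cc.mpr (hab v hv u hu), h16] at h
  omega

theorem not_mem_abelian (F : Frame A x M) (hUM : U ≤ M) (h16 : Nat.card U = 16)
    (hab : ∀ u ∈ U, ∀ v ∈ U, u * v = v * u) : x ∉ U := fun h => F.ne (H.abelian_sq hb F hUM h16 hab h F.sq)

theorem mul_mem_abelian (F : Frame A x M) (hUM : U ≤ M) (h16 : Nat.card U = 16) {m n : G} (hm : m ∈ M) (hn : n ∈ M)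
    (hmU : m ∉ U) (hnU : n ∉ U) : m * n ∈ U := by
  have h := (U.subgroupOf M).card_mul_index
  rw [Nat.card_congr (subgroupOfEquivOfLe hUM).toEquiv, h16, F.card] at h
  have hi : (U.subgroupOf M).index = 2 := by omega
  exact (mul_mem_iff_of_index_two hi (a := ⟨m, hm⟩) (b := ⟨n, hn⟩)).mpr ⟨fun h' => absurd h' hmU, fun h' => absurd h' hnU⟩

theorem abelian_unique (F : Frame A x M) (hUM : U ≤ M) (h16 : Nat.card U = 16)
    (hab : ∀ u ∈ U, ∀ v ∈ U, u * v = v * u) {U' : Subgroup G} (hUM' : U' ≤ M) (h16' : Nat.card U' = 16)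
    (hab' : ∀ u ∈ U', ∀ v ∈ U', u * v = v * u) : U' = U := by
  classical
  by_contra hne
  obtain ⟨u, hu, huU⟩ := SetLike.not_le_iff_exists.mp fun h => hne (eq_of_le_of_card_ge h (by rw [h16, h16']))
  have hxU := H.not_mem_abelian hb F hUM h16 hab
  -- the intersection is central in `M`, so lies in `A`
  have hW : ∀ w ∈ U', w ∈ U → w ∈ A := by
    intro w hw' hw
    have h1 : Commute w (x * u) := hab w hw _ (H.mul_mem_abelian hb F hUM h16 F.mem (hUM' hu) hxU huU)
    have h2 : Commute w u := hab' w hw' u hu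
    have hwx : w ∈ cc x := by
      have h3 := h1.mul_right h2.inv_right
      rw [mul_inv_cancel_right] at h3
      exact AfterFT.CoreSep.mem_cc.mpr h3.eq
    refine (H.frame_cent hb F (hUM hw) hwx).resolve_right fun h => ?_
    have hww : w * w = 1 := by
      have h4 := H.sq h
      rwa [(show Commute x w from (AfterFT.CoreSep.mem_cc.mp hwx).symm).mul_mul_mul_comm w x, F.sq, mul_one] at h4
    have hwA : w ∈ A := H.abelian_sq hb F hUM h16 hab hw hww
    exact F.ne ((mul_mem_cancel_left hwA).mp h)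
  have hsub : (U' : Set G) ⊆ (A : Set G) ∪ (fun c => c * u⁻¹) '' (A : Set G) := by
    intro v hv
    by_cases hvU : v ∈ U
    · exact Or.inl (hW v hv hvU)
    · exact Or.inr ⟨v * u, hW _ (mul_mem hv hu) (H.mul_mem_abelian hb F hUM h16 (hUM' hv) (hUM' hu) hvU huU),
        mul_inv_cancel_right v u⟩
  have h1 := Set.ncard_le_ncard hsub (Set.toFinite _)
  have h2 := Set.ncard_union_le (A : Set G) ((fun c => c * u⁻¹) '' (A : Set G))
  have h3 := Set.ncard_image_le (f := fun c => c * u⁻¹) (Set.toFinite (A : Set G))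
  have h4 : (A : Set G).ncard = 4 := by rw [← Nat.card_coe_set_eq]; exact H.card
  have h5 : (U' : Set G).ncard = 16 := by rw [← Nat.card_coe_set_eq]; exact h16'
  omega

/-- What maps `x` into its coset of `A` and centralises `A` normalises `A⟨x⟩`, and conversely. -/
theorem delta_mem_iff {y : G} (hy : y ∈ centralizer (A : Set G)) (hy2 : y * y = 1) (hyA : y ∉ A) {n : G}
    (hn : n ∈ centralizer (A : Set G)) : n ∈ moveN A y ↔ delta y n ∈ A := by
  have hmem : ∀ e ∈ A ⊔ zpowers y, e ∈ A ∨ e * y ∈ A := by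
    intro e he
    have hN : zpowers y ≤ normalizer (A : Set G) := zpowers_le.mpr (mem_normalizer_of_maps fun a ha => by
      rwa [comm_of_cent hy ha, mul_inv_cancel_right])
    rw [← SetLike.mem_coe, coe_mul_of_right_le_normalizer_left _ _ hN] at he
    obtain ⟨a, ha, z, hz, rfl⟩ := he
    obtain ⟨k, rfl⟩ := mem_zpowers_iff.mp hz
    rw [← zpow_mod_orderOf, orderOf_eq_prime (p := 2) (by rw [pow_two]; exact hy2)
      fun e => hyA (by rw [e]; exact one_mem A)]
    simp only [Nat.cast_ofNat]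
    rcases Int.emod_two_eq_zero_or_one k with e | e <;> rw [e]
    · exact Or.inl (by simpa using ha)
    · exact Or.inr (by rw [zpow_one, mul_assoc, hy2, mul_one]; exact ha)
  have hfix : ∀ a ∈ A, n * a * n⁻¹ = a := fun a ha => by rw [comm_of_cent hn ha, mul_inv_cancel_right]
  constructor
  · intro h
    rcases hmem _ ((mem_normalizer_iff.mp h.1 y).mp (mem_sup_right (mem_zpowers y))) with e | e
    · refine absurd ?_ hyA
      have h1 := hn _ e
      rw [show n * y * n⁻¹ * n = n * y by group] at h1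
      rw [mul_left_cancel h1]
      exact e
    · exact e
  · intro h
    refine ⟨mem_normalizer_of_maps fun e he => ?_, hn⟩
    have hyy : n * y * n⁻¹ = delta y n * y := by
      unfold delta
      rw [mul_assoc (n * y * n⁻¹) y y, hy2, mul_one]
    rcases hmem e he with h1 | h1
    · rw [hfix e h1]; exact mem_sup_left h1
    · rw [show n * e * n⁻¹ = n * (e * y) * n⁻¹ * (n * y⁻¹ * n⁻¹) by group, hfix _ h1,
        inv_eq_of_mul_eq_one_right hy2, hyy]
      exact mul_mem (mem_sup_left h1) (mul_mem (mem_sup_left h) (mem_sup_right (mem_zpowers y)))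

/-- A 2-subgroup of `moveN` containing `x` has order at most 32. -/
theorem card_moveN_le {y : G} (hy2 : y * y = 1) (hyA : y ∉ A) {P : Subgroup G} (hP : IsPGroup 2 P)
    (hPN : P ≤ moveN A y) (hy : y ∈ P) : Nat.card P ≤ 32 :=
  (H.card_le_of_delta hb hP (hPN.trans inf_le_right) hy hy2 hyA fun p hp =>
    (H.delta_mem_iff hb (hPN hy).2 hy2 hyA (hPN hp).2).mp (hPN hp)).1

theorem frame_le_moveN (F : Frame A x M) : M ≤ moveN A x := fun m hm =>
  (H.delta_mem_iff hb (F.cent F.mem) F.sq F.ne (F.cent hm)).mpr (F.comm m hm)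

omit hb in
/-- The element turning `A` at a blocked involution of a coset. -/
theorem exists_turn_coset (hxS : x ∈ (S : Subgroup G)) (hx2 : x * x = 1) (hxA : x ∉ A) :
    ∃ k, k ∈ normalizer ((A ⊔ zpowers x : Subgroup G) : Set G) ∧ k ∈ normalizer (A : Set G) ∧
      (∀ a ∈ A, k * a = a * k → a = 1) ∧ k * x * k⁻¹ * x ∈ A := by
  obtain ⟨c, hc, D, hB⟩ := H.exists_blk hxS hx2 hxA
  have hxc : x * c ∈ (S : Subgroup G) := mul_mem hxS (H.le_S hc)
  have hES : A ⊔ zpowers x ≤ (S : Subgroup G) := sup_le H.le_S (zpowers_le.mpr hxS)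
  have hEx : A ⊔ zpowers x ≤ cc (x * c) := sup_le (H.le_cc hxc)
    (zpowers_le.mpr (mem_cc_mul (AfterFT.CoreSep.mem_cc.mpr rfl) (H.central hxS hc)))
  obtain ⟨k, hkc, hkE, hkA, hkf, -, -⟩ := H.exists_turn hB.at_ (B := A ⊔ zpowers x) (S.2.to_le hES) le_sup_left hEx
    (fun b hb' h => by
      obtain ⟨j, hj⟩ := pow_two_pow_of_mem S.2 (hES hb')
      obtain ⟨a, ha, hab, hcent⟩ := H.exists_cent' hB h hj fun a ha => H.central (hES hb') ha
      refine ⟨ff (x * c) ⟨a, H.le_cc hxc ha⟩, mem_imQ ha _, ?_⟩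
      rw [← map_mul]
      exact hcent)
  refine ⟨k, hkE, hkA, hkf, ?_⟩
  have h1 : k * (x * c) * k⁻¹ = x * c := by rw [AfterFT.CoreSep.mem_cc.mp hkc, mul_inv_cancel_right]
  have hcA' : k * c * k⁻¹ ∈ A := (mem_normalizer_iff.mp hkA c).mp hc
  have h2 : k * x * k⁻¹ = x * c * (k * c * k⁻¹) := by
    rw [← h1, show k * (x * c) * k⁻¹ * (k * c * k⁻¹) = k * x * (c * c) * k⁻¹ by group, H.sq hc, mul_one]
  rw [h2, mul_assoc (x * c), ← H.central hxS hcA', ← mul_assoc, mul_assoc x c x, ← H.central hxS hc,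
    ← mul_assoc x x c, hx2, one_mul]
  exact mul_mem hc hcA'

/-- The frame of an involution of `S` has an element turning `A`. -/
theorem frame_turn (F : Frame A x M) (hxS : x ∈ (S : Subgroup G)) :
    ∃ k, k ∈ normalizer (M : Set G) ∧ k ∈ normalizer (A : Set G) ∧
      (∀ a ∈ A, k * a = a * k → a = 1) ∧ k * x * k⁻¹ * x ∈ A := by
  haveI : Fact (Nat.Prime 2) := ⟨Nat.prime_two⟩
  obtain ⟨k, hkE, hkA, hkf, hkx⟩ := H.exists_turn_coset hxS F.sq F.ne
  set N := moveN A x with hN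
  have hkN : ∀ n ∈ N, k * n * k⁻¹ ∈ N := fun n hn => Subgroup.mem_inf.mpr
    ⟨mul_mem (mul_mem hkE (Subgroup.mem_inf.mp hn).1) (inv_mem hkE), fun a ha => by
    have h1 := (Subgroup.mem_inf.mp hn).2 _ ((mem_normalizer_iff''.mp hkA a).mp ha)
    calc a * (k * n * k⁻¹) = k * (k⁻¹ * a * k * n) * k⁻¹ := by group
      _ = k * (n * (k⁻¹ * a * k)) * k⁻¹ := by rw [h1]
      _ = _ := by group⟩
  have hMN := H.frame_le_moveN hb F
  obtain ⟨P, hP⟩ := (F.isP.of_equiv (subgroupOfEquivOfLe hMN).symm).exists_le_sylow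
  have hPeq : (P : Subgroup N).map N.subtype = M := by
    have hMle : M ≤ (P : Subgroup N).map N.subtype := fun m hm => ⟨⟨m, hMN hm⟩, hP hm, rfl⟩
    refine (eq_of_le_of_card_ge hMle ?_).symm
    rw [F.card]
    exact H.card_moveN_le hb F.sq F.ne (P.2.map _) (map_subtype_le _) ⟨⟨x, hMN F.mem⟩, hP F.mem, rfl⟩
  have hkM : M.map (MulAut.conj k).toMonoidHom ≤ N := by
    rintro _ ⟨m, hm, rfl⟩
    exact hkN m (hMN hm)
  obtain ⟨Q, hQ⟩ := ((F.isP.map (MulAut.conj k).toMonoidHom).of_equiv (subgroupOfEquivOfLe hkM).symm).exists_le_sylow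
  obtain ⟨n, hn⟩ := MulAction.exists_smul_eq N Q P
  have hmem : ∀ m ∈ M, (n : G) * (k * m * k⁻¹) * (n : G)⁻¹ ∈ M := fun m hm => by
    have h1 := smul_mem_pointwise_smul _ (MulAut.conj n) _
      (hQ (show (⟨k * m * k⁻¹, hkM ⟨m, hm, rfl⟩⟩ : N) ∈ _ from ⟨m, hm, rfl⟩))
    rw [← Sylow.coe_subgroup_smul, hn] at h1
    rw [← hPeq]
    exact ⟨_, h1, rfl⟩
  have hnfix : ∀ a ∈ A, (n : G) * a * (n : G)⁻¹ = a := fun a ha => by rw [← n.2.2 a ha, mul_inv_cancel_right]
  have hnA : (n : G) ∈ normalizer (A : Set G) := mem_normalizer_of_maps fun a ha => by rwa [hnfix a ha]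
  refine ⟨(n : G) * k, mem_normalizer_of_maps fun m hm => ?_, mul_mem hnA hkA, fun a ha e => hkf a ha ?_, ?_⟩
  · rw [show (n : G) * k * m * ((n : G) * k)⁻¹ = (n : G) * (k * m * k⁻¹) * (n : G)⁻¹ by group]
    exact hmem m hm
  · have h1 := (mem_normalizer_iff.mp hkA a).mp ha
    have h2 : (n : G) * (k * a * k⁻¹) * (n : G)⁻¹ = a := by
      rw [show (n : G) * (k * a * k⁻¹) * (n : G)⁻¹ = (n : G) * k * a * ((n : G) * k)⁻¹ by group, e,
        mul_inv_cancel_right]
    rw [hnfix _ h1] at h2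
    exact mul_inv_eq_iff_eq_mul.mp h2
  · have h1 : delta x n ∈ A := (H.delta_mem_iff hb (F.cent F.mem) F.sq F.ne n.2.2).mp n.2
    rw [show (n : G) * k * x * ((n : G) * k)⁻¹ * x =
      (n : G) * (k * x * k⁻¹ * x) * (n : G)⁻¹ * ((n : G) * x⁻¹ * (n : G)⁻¹ * x) by group, hnfix _ hkx,
      inv_eq_of_mul_eq_one_right F.sq]
    exact mul_mem hkx h1

/-- In a proper frame the squares are the commutators with `x`. -/
theorem agree (F : Frame A x M) (hMS : M < (S : Subgroup G)) (hAU : A ≤ U) (hUM : U ≤ M) (h16 : Nat.card U = 16)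
    (hab : ∀ u ∈ U, ∀ v ∈ U, u * v = v * u) : ∀ u ∈ U, u * u = delta x u := by
  classical
  haveI : Fact (Nat.Prime 2) := ⟨Nat.prime_two⟩
  have hxS := hMS.le F.mem
  have hxU := H.not_mem_abelian hb F hUM h16 hab
  have hAc : ∀ {a g : G}, a ∈ A → g ∈ M → g * a = a * g := fun ha hg => comm_of_cent (F.cent hg) ha
  -- one element
  obtain ⟨u₁, hu₁, hu₁A, he₁⟩ : ∃ u ∈ U, u ∉ A ∧ u * u = delta x u := by
    obtain ⟨s, hsS, hsM, hsN⟩ := CfsgLib.Bender.TwoClosed.exists_mem_normalizer S.2 hMS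
    set y := s * x * s⁻¹ with hy
    have hy2 : y * y = 1 := by
      rw [hy, show s * x * s⁻¹ * (s * x * s⁻¹) = s * (x * x) * s⁻¹ by group, F.sq, mul_one, mul_inv_cancel]
    have hyM : y ∈ M := (mem_normalizer_iff.mp hsN x).mp F.mem
    have hyA : y ∉ A := fun h => F.ne (by
      have h1 := H.S_le_centralizer hsS _ h
      rw [hy, show s * x * s⁻¹ * s = s * x by group] at h1
      rw [mul_left_cancel h1, ← hy]
      exact h)
    have hyU : y ∉ U := fun h => hyA (H.abelian_sq hb F hUM h16 hab h hy2)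
    set u := y * x with hu
    have huU : u ∈ U := H.mul_mem_abelian hb F hUM h16 hyM F.mem hyU hxU
    refine ⟨u, huU, fun huA => hsM ?_, ?_⟩
    · have hs : s ∈ moveN A x := (H.delta_mem_iff hb (F.cent F.mem) F.sq F.ne (H.S_le_centralizer hsS)).mpr huA
      set P := M ⊔ zpowers s with hP
      have h1 : Nat.card P ≤ 32 := H.card_moveN_le hb F.sq F.ne (S.2.to_le (sup_le hMS.le (zpowers_le.mpr hsS)))
        (sup_le (H.frame_le_moveN hb F) (zpowers_le.mpr hs)) (mem_sup_left F.mem)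
      rw [eq_of_le_of_card_ge (le_sup_left : M ≤ P) (by rw [F.card]; exact h1)]
      exact mem_sup_right (mem_zpowers s)
    · have hux : u * x = y := by rw [hu, mul_assoc, F.sq, mul_one]
      have hd : delta x u ∈ A := F.comm u (hUM huU)
      have h1 : x * u * x * u⁻¹ = delta x u := by
        have h2 : (delta x u)⁻¹ = x * u * x * u⁻¹ := by
          rw [eq_comm, eq_inv_iff_mul_eq_one, delta, show x * u * x * u⁻¹ * (u * x * u⁻¹ * x) =
            x * u * (x * x) * u⁻¹ * x by group, F.sq, mul_one, mul_inv_cancel_right, F.sq]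
        rw [← h2, inv_eq_of_mul_eq_one_right (H.sq hd)]
      have h3 : u * (delta x u) * u = 1 := by
        rw [← h1, ← hy2, ← hux]
        group
      rw [hAc hd (hUM huU), mul_assoc] at h3
      rw [eq_inv_of_mul_eq_one_right h3, inv_eq_of_mul_eq_one_right (H.sq hd)]
  obtain ⟨k, hkM, hkA, hkf, hkx⟩ := H.frame_turn hb F hxS
  have hkU : ∀ u ∈ U, k * u * k⁻¹ ∈ U := by
    have h1 : U.map (MulAut.conj k).toMonoidHom = U := by
      refine H.abelian_unique hb F hUM h16 hab ?_ ?_ ?_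
      · rintro _ ⟨u, hu, rfl⟩
        exact (mem_normalizer_iff.mp hkM u).mp (hUM hu)
      · rw [card_map_of_injective (f := (MulAut.conj k).toMonoidHom) (MulAut.conj k).injective, h16]
      · rintro _ ⟨u, hu, rfl⟩ _ ⟨v, hv, rfl⟩
        show k * u * k⁻¹ * (k * v * k⁻¹) = k * v * k⁻¹ * (k * u * k⁻¹)
        rw [show k * u * k⁻¹ * (k * v * k⁻¹) = k * (u * v) * k⁻¹ by group, hab u hu v hv]
        group
    exact fun u hu => h1 ▸ ⟨u, hu, rfl⟩
  have hdk : ∀ u ∈ U, delta x (k * u * k⁻¹) = k * delta x u * k⁻¹ := fun u hu => by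
    have h2 : k * x * k⁻¹ = (k * x * k⁻¹ * x) * x := by rw [mul_assoc (k * x * k⁻¹) x x, F.sq, mul_one]
    rw [← delta_conj, h2, delta_mul_left (H.sq hkx) (hAc hkx (hUM (hkU u hu))) (hAc hkx F.mem)]
  set t₁ := delta x u₁ with ht₁
  have ht₁A : t₁ ∈ A := F.comm _ (hUM hu₁)
  have ht₁1 : t₁ ≠ 1 := fun e => hu₁A (H.abelian_sq hb F hUM h16 hab hu₁ (he₁.trans e))
  set u₂ := k * u₁ * k⁻¹ with hu₂
  set t₂ := k * t₁ * k⁻¹ with ht₂
  have hd₂ : delta x u₂ = t₂ := hdk u₁ hu₁
  have he₂ : u₂ * u₂ = delta x u₂ := by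
    rw [hd₂, hu₂, ht₂, show k * u₁ * k⁻¹ * (k * u₁ * k⁻¹) = k * (u₁ * u₁) * k⁻¹ by group, he₁]
  obtain ⟨ht₂1, ht₂₁, -⟩ := H.turn_sq hkA hkf ht₁A ht₁1
  have ht₂A : t₂ ∈ A := (mem_normalizer_iff.mp hkA t₁).mp ht₁A
  have hu₂U : u₂ ∈ U := hkU u₁ hu₁
  intro u hu
  obtain ⟨w, hwU, hwe, hwd⟩ : ∃ w ∈ U, w * w = delta x w ∧ delta x w = delta x u := by
    have hd1 : delta x (1 : G) = 1 := (delta_eq_one F.sq).mpr (one_mem _)
    by_cases h1 : delta x u = 1
    · exact ⟨1, one_mem U, by rw [hd1, one_mul], by rw [hd1, h1]⟩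
    by_cases h2 : delta x u = t₁
    · exact ⟨u₁, hu₁, he₁, by rw [← ht₁, h2]⟩
    by_cases h3 : delta x u = t₂
    · exact ⟨u₂, hu₂U, he₂, by rw [hd₂, h3]⟩
    have h4 := CfsgLib.S3Simple.four_third H.card ht₁A ht₂A (F.comm u (hUM hu)) ht₁1 ht₂1 ht₂₁.symm
      (fun _ h => H.sq h) h1 h2 h3
    have hd : delta x (u₁ * u₂) = t₁ * t₂ := by
      rw [delta_mul F.sq (F.cent (hUM hu₁)) (F.comm u₂ (hUM hu₂U)), hd₂, ← ht₁, H.comm ht₂A ht₁A]
    refine ⟨u₁ * u₂, mul_mem hu₁ hu₂U, ?_, by rw [hd, h4]⟩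
    rw [(show Commute u₂ u₁ from hab u₂ hu₂U u₁ hu₁).mul_mul_mul_comm u₁ u₂, he₁, he₂, hd₂, hd]
  have hc : u * w⁻¹ ∈ A := by
    refine (H.frame_cent hb F (hUM (mul_mem hu (inv_mem hwU))) ((delta_eq_one F.sq).mp ?_)).resolve_right fun h => hxU ?_
    · have h1 : delta x w⁻¹ ∈ A := F.comm _ (inv_mem (hUM hwU))
      rw [delta_mul F.sq (F.cent (hUM hu)) h1, ← hwd, H.comm h1 (F.comm w (hUM hwU)),
        ← delta_mul F.sq (F.cent (inv_mem (hUM hwU))) (F.comm w (hUM hwU)), inv_mul_cancel]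
      exact (delta_eq_one F.sq).mpr (one_mem _)
    · have h1 := mul_mem (inv_mem (mul_mem hu (inv_mem hwU))) (hAU h)
      rwa [inv_mul_cancel_left] at h1
  calc u * u = u * w⁻¹ * w * (u * w⁻¹ * w) := by rw [inv_mul_cancel_right]
    _ = u * w⁻¹ * (u * w⁻¹) * (w * w) :=
      (show Commute w (u * w⁻¹) from hAc hc (hUM hwU)).mul_mul_mul_comm _ _
    _ = delta x u := by rw [H.sq hc, one_mul, hwe, hwd]

/-- A frame exists in `S`. -/
theorem exists_frame {D : Subgroup (qq x)} {B : Subgroup G} (T : Top S A x D B) (hB2 : Nat.card B = 2) :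
    ∃ (y : G) (M : Subgroup G), Frame A y M ∧ M ≤ (S : Subgroup G) := by
  haveI : Fact (Nat.Prime 2) := ⟨Nat.prime_two⟩
  have hx2 := T.blk.at_.sq
  have hxA := T.blk.at_.ne
  have hord : orderOf x = 2 := orderOf_eq_prime (by rw [pow_two]; exact hx2)
    fun e => hxA (by rw [e]; exact one_mem A)
  have hBx : zpowers x = B := eq_of_le_of_card_ge (zpowers_le.mpr T.mem_B) (by rw [Nat.card_zpowers, hord, hB2])
  set E := A ⊔ zpowers x with hE
  have hER : E = (S : Subgroup G) ⊓ cc x := by rw [hE, hBx, T.sup]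
  have hES : E ≤ (S : Subgroup G) := hER ▸ inf_le_left
  have hE8 : Nat.card E = 8 := by
    rw [hE, hBx, card_sup_eq ((T.le.trans inf_le_left).trans H.closed.le_normalizer) T.disjoint, H.card, hB2]
  have hxC := H.S_le_centralizer T.mem
  set N := moveN A x with hN
  have hEN : E ≤ N := le_inf le_normalizer (hES.trans H.S_le_centralizer)
  obtain ⟨g, hgS, hgx, hgR⟩ := T.moves
  have hgN : g ∈ N := ⟨by rw [← hE, hER]; exact hgR, H.S_le_centralizer hgS⟩
  obtain ⟨k, hkc, hkE, hkA, hkf, -, -⟩ := H.exists_turn T.blk.at_ (B := E) (S.2.to_le hES) le_sup_left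
    (hER ▸ inf_le_right) (fun b hb' h => by
      obtain ⟨j, hj⟩ := pow_two_pow_of_mem S.2 (hES hb')
      obtain ⟨a, ha, hab, hcent⟩ := H.exists_cent' T.blk h hj fun a ha => H.central (hES hb') ha
      refine ⟨ff x ⟨a, H.le_cc T.mem ha⟩, mem_imQ ha _, ?_⟩
      rw [← map_mul]
      exact hcent)
  have hdA : ∀ n ∈ N, delta x n ∈ A := fun n hn => (H.delta_mem_iff hb hxC hx2 hxA hn.2).mp hn
  let f : N →* A := MonoidHom.mk' (fun n => ⟨delta x n, hdA n n.2⟩) fun p q => Subtype.ext (by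
    show delta x ((p : G) * q) = delta x p * delta x q
    rw [delta_mul hx2 p.2.2 (hdA q q.2), H.comm (hdA q q.2) (hdA p p.2)])
  set a₀ := delta x g with ha₀
  have ha₀A : a₀ ∈ A := hdA g hgN
  have ha₀1 : a₀ ≠ 1 := fun e => hgx ((delta_eq_one hx2).mp e)
  obtain ⟨hp1, hp0, -⟩ := H.turn_sq hkA hkf ha₀A ha₀1
  have hg' : k * g * k⁻¹ ∈ N := Subgroup.mem_inf.mpr
    ⟨mul_mem (mul_mem hkE (Subgroup.mem_inf.mp hgN).1) (inv_mem hkE), fun a ha => by
    have h1 := (Subgroup.mem_inf.mp hgN).2 _ ((mem_normalizer_iff''.mp hkA a).mp ha)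
    calc a * (k * g * k⁻¹) = k * (k⁻¹ * a * k * g) * k⁻¹ := by group
      _ = k * (g * (k⁻¹ * a * k)) * k⁻¹ := by rw [h1]
      _ = _ := by group⟩
  have hd' : delta x (k * g * k⁻¹) = k * a₀ * k⁻¹ := by
    rw [ha₀, ← delta_conj, AfterFT.CoreSep.mem_cc.mp hkc, mul_inv_cancel_right]
  have hr : f.range = ⊤ := by
    refine eq_top_iff.mpr fun c _ => ?_
    by_cases h1 : (c : G) = 1
    · exact ⟨1, by rw [map_one]; exact Subtype.ext h1.symm⟩
    by_cases h2 : (c : G) = a₀
    · exact ⟨⟨g, hgN⟩, Subtype.ext h2.symm⟩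
    by_cases h3 : (c : G) = k * a₀ * k⁻¹
    · exact ⟨⟨_, hg'⟩, Subtype.ext (hd'.trans h3.symm)⟩
    refine ⟨⟨g, hgN⟩ * ⟨_, hg'⟩, Subtype.ext ?_⟩
    have hpA := (mem_normalizer_iff.mp hkA a₀).mp ha₀A
    show delta x (g * (k * g * k⁻¹)) = (c : G)
    rw [delta_mul hx2 hgN.2 (hdA _ hg'), hd', ← ha₀, H.comm hpA ha₀A]
    exact (CfsgLib.S3Simple.four_third H.card ha₀A hpA c.2 ha₀1 hp1 hp0.symm (fun _ h => H.sq h) h1 h2 h3).symm
  have hkerE : E.subgroupOf N ≤ f.ker := fun e he => Subtype.ext ((delta_eq_one hx2).mpr (by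
    have h1 : (e : G) ∈ (S : Subgroup G) ⊓ cc x := hER ▸ he
    exact h1.2))
  have h32 : 2 ^ 5 ∣ Nat.card N := by
    have h := f.ker.card_mul_index
    rw [index_ker, hr, card_top, H.card] at h
    obtain ⟨m, hm⟩ := card_dvd_of_le hkerE
    rw [Nat.card_congr (subgroupOfEquivOfLe hEN).toEquiv, hE8] at hm
    exact ⟨m, by rw [← h, hm]; ring⟩
  obtain ⟨P, hP⟩ := ((S.2.to_le hES).of_equiv (subgroupOfEquivOfLe hEN).symm).exists_le_sylow
  set M := (P : Subgroup N).map N.subtype with hM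
  have hMc : Nat.card M = Nat.card (P : Subgroup N) := card_map_of_injective N.subtype_injective
  have hxM : x ∈ M := ⟨⟨x, hEN (mem_sup_right (mem_zpowers x))⟩, hP (mem_sup_right (mem_zpowers x) : x ∈ E), rfl⟩
  have hAM : A ≤ M := fun a ha => ⟨⟨a, hEN (mem_sup_left ha)⟩, hP (mem_sup_left ha : a ∈ E), rfl⟩
  have h32' : 2 ^ 5 ∣ Nat.card (P : Subgroup N) := P.pow_dvd_card_of_pow_dvd_card h32
  have hle : Nat.card M ≤ 32 := H.card_moveN_le hb hx2 hxA (P.2.map _) (map_subtype_le _) hxM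
  have F : Frame A x M := ⟨P.2.map _, le_antisymm hle (hMc ▸ (Nat.le_of_dvd Nat.card_pos h32').trans' (by norm_num)),
    hAM, (map_subtype_le _).trans inf_le_right, hxM, hx2, hxA, fun m hm => hdA m (map_subtype_le _ hm)⟩
  -- into `S`
  set C := centralizer (A : Set G) with hC
  obtain ⟨U, hU⟩ := (F.isP.of_equiv (subgroupOfEquivOfLe F.cent).symm).exists_le_sylow
  obtain ⟨w, hw⟩ := MulAction.exists_smul_eq C U (S.subtype H.S_le_centralizer)
  refine ⟨_, _, F.conj w.2, ?_⟩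
  rintro _ ⟨m, hm, rfl⟩
  have h1 := smul_mem_pointwise_smul _ (MulAut.conj w) _ (hU (show (⟨m, F.cent hm⟩ : C) ∈ M.subgroupOf C from hm))
  rw [← Sylow.coe_subgroup_smul, hw] at h1
  exact h1

/-- C3. -/
theorem false_of_eight {D : Subgroup (qq x)} {B : Subgroup G} (T : Top S A x D B) (hB2 : Nat.card B = 2) : False := by
  classical
  haveI : Fact (Nat.Prime 2) := ⟨Nat.prime_two⟩
  haveI := H.hyp.simple
  obtain ⟨y, M, F, hMS⟩ := H.exists_frame hb T hB2
  obtain ⟨U, hAU, hUM, h16, hab⟩ := H.exists_abelian hb F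
  have hyS := hMS F.mem
  have hyU := H.not_mem_abelian hb F hUM h16 hab
  have hG : ∀ N : Subgroup G, N.Normal → N.index ≠ 2 := fun N hN h2 => by
    rcases hN.eq_bot_or_eq_top with e | e
    · have h8 := (H.hyp.eight_le S).trans (Nat.le_of_dvd Nat.card_pos (card_subgroup_dvd_card _))
      rw [e, index_bot] at h2
      omega
    · rw [e, index_top] at h2
      omega
  -- a subgroup of index two of `S` whose involutions lie in `A`
  obtain ⟨Q, hQS, hQi, hQinv⟩ : ∃ Q ≤ (S : Subgroup G), Q.relIndex (S : Subgroup G) = 2 ∧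
      ∀ v ∈ Q, v * v = 1 → v ∈ A := by
    by_cases hSM : (S : Subgroup G) = M
    · refine ⟨U, hUM.trans hMS, ?_, fun v hv hv2 => H.abelian_sq hb F hUM h16 hab hv hv2⟩
      have h := (U.subgroupOf M).card_mul_index
      rw [Nat.card_congr (subgroupOfEquivOfLe hUM).toEquiv, h16, F.card] at h
      rw [hSM, relIndex]
      omega
    have hlt : M < (S : Subgroup G) := lt_of_le_of_ne hMS (Ne.symm hSM)
    have hsq : ∀ {v : G} {M' : Subgroup G}, Frame A v M' → U ≤ M' → M' < (S : Subgroup G) →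
        ∀ u ∈ U, u * u = delta v u := fun F' h1 h2 => H.agree hb F' h2 hAU h1 h16 hab
    have hyq := hsq F hUM hlt
    -- `U` is normal in `S` and `S` centralises `U / A`
    have hcen : ∀ t ∈ (S : Subgroup G), t ∈ normalizer (U : Set G) → ∀ u ∈ U, t * u * t⁻¹ * u⁻¹ ∈ A := by
      intro t ht htU u hu
      have hu' : t * u * t⁻¹ ∈ U := (mem_normalizer_iff.mp htU u).mp hu
      have hu2 : u * u ∈ A := hyq u hu ▸ F.comm u (hUM hu)
      refine H.abelian_sq hb F hUM h16 hab (mul_mem hu' (inv_mem hu)) ?_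
      rw [(show Commute u⁻¹ (t * u * t⁻¹) from hab _ (inv_mem hu) _ hu').mul_mul_mul_comm,
        show t * u * t⁻¹ * (t * u * t⁻¹) = t * (u * u) * t⁻¹ by group, H.central ht hu2, mul_inv_cancel_right,
        ← mul_inv_rev, mul_inv_cancel]
    have hMU : M ≤ normalizer (U : Set G) := by
      have h := (U.subgroupOf M).card_mul_index
      rw [Nat.card_congr (subgroupOfEquivOfLe hUM).toEquiv, h16, F.card] at h
      haveI : (U.subgroupOf M).Normal := normal_of_index_eq_two (by omega)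
      exact le_normalizer_of_normal_subgroupOf hUM
    have hSU : (S : Subgroup G) ≤ normalizer (U : Set G) := by
      by_contra hn
      set T' := (S : Subgroup G) ⊓ normalizer (U : Set G) with hT'
      have hTlt : T' < (S : Subgroup G) := lt_of_le_of_ne inf_le_left fun e => hn (e ▸ inf_le_right)
      obtain ⟨s, hsS, hsT, hsN⟩ := CfsgLib.Bender.TwoClosed.exists_mem_normalizer S.2 hTlt
      refine hsT (Subgroup.mem_inf.mpr ⟨hsS, mem_normalizer_of_maps fun u hu => ?_⟩)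
      by_cases huA : u ∈ A
      · rw [H.central hsS huA, mul_inv_cancel_right]
        exact hu
      have hMT : ∀ {m : G}, m ∈ M → m ∈ T' := fun hm => Subgroup.mem_inf.mpr ⟨hMS hm, hMU hm⟩
      set z := s * u * s⁻¹ with hz
      obtain ⟨hzS, hzU⟩ := Subgroup.mem_inf.mp ((mem_normalizer_iff.mp hsN u).mp (hMT (hUM hu)))
      obtain ⟨hy'S, hy'U⟩ := Subgroup.mem_inf.mp ((mem_normalizer_iff''.mp hsN y).mp (hMT F.mem))
      set t := s⁻¹ * y * s with ht
      have hc := hcen t hy'S hy'U u hu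
      have hyz : y * z * y⁻¹ * z⁻¹ ∈ A := by
        rw [show y * z * y⁻¹ * z⁻¹ = s * (t * u * t⁻¹ * u⁻¹) * s⁻¹ by rw [hz, ht]; group, H.central hsS hc,
          mul_inv_cancel_right]
        exact hc
      have hdz : delta y z ∈ A := by
        have e : delta y z = (y * z * y⁻¹ * z⁻¹)⁻¹ := by
          rw [show (y * z * y⁻¹ * z⁻¹)⁻¹ = z * y * z⁻¹ * y⁻¹ by group, inv_eq_of_mul_eq_one_right F.sq]
          rfl
        exact e ▸ inv_mem hyz
      have hzM : z ∈ M := by
        have hzN : z ∈ moveN A y :=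
          (H.delta_mem_iff hb (F.cent F.mem) F.sq F.ne (H.S_le_centralizer hzS)).mpr hdz
        set P := M ⊔ zpowers z with hP
        have h1 : Nat.card P ≤ 32 := H.card_moveN_le hb F.sq F.ne (S.2.to_le (sup_le hMS (zpowers_le.mpr hzS)))
          (sup_le (H.frame_le_moveN hb F) (zpowers_le.mpr hzN)) (mem_sup_left F.mem)
        rw [eq_of_le_of_card_ge (le_sup_left : M ≤ P) (by rw [F.card]; exact h1)]
        exact mem_sup_right (mem_zpowers z)
      by_contra hzU'
      set w := z * y with hw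
      have hwU : w ∈ U := H.mul_mem_abelian hb F hUM h16 hzM F.mem hzU' hyU
      have e1 : y * w⁻¹ * y = w := mul_left_cancel (a := w) (by
        rw [← mul_assoc, ← mul_assoc]; exact (hyq w hwU).symm)
      have e2 : y * w * y = w⁻¹ := by
        conv_rhs => rw [← e1]
        rw [mul_inv_rev, mul_inv_rev, inv_inv, inv_eq_of_mul_eq_one_right F.sq, mul_assoc]
      have hzz : z * z = 1 := by
        rw [show z = w * y by rw [hw, mul_assoc, F.sq, mul_one], mul_assoc w y (w * y), ← mul_assoc y w y, e2,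
          mul_inv_cancel]
      refine huA (H.abelian_sq hb F hUM h16 hab hu ?_)
      rw [show u * u = s⁻¹ * (z * z) * s by rw [hz]; group, hzz, mul_one, inv_mul_cancel]
    have hUS : U ≤ (S : Subgroup G) := hUM.trans hMS
    have hSc : ∀ {t : G}, t ∈ (S : Subgroup G) → ∀ u ∈ U, t * u * t⁻¹ * u⁻¹ ∈ A := fun ht => hcen _ ht (hSU ht)
    have hinvU : ∀ {v : G}, v ∈ (S : Subgroup G) → v * v = 1 → v ∉ A → ∀ u ∈ U, u * u = delta v u := by
      intro v hvS hv2 hvA
      have hvU : v ∉ U := fun h => hvA (H.abelian_sq hb F hUM h16 hab h hv2)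
      have hvi : v⁻¹ = v := inv_eq_of_mul_eq_one_right hv2
      have hd : ∀ u ∈ U, delta v u ∈ A := fun u hu => by
        have h1 := hSc hvS u⁻¹ (inv_mem hu)
        have e : delta v u = u * (v * u⁻¹ * v⁻¹ * u⁻¹⁻¹) * u⁻¹ := by
          unfold delta
          rw [hvi]
          group
        rw [e, H.central (hUS hu) h1, mul_inv_cancel_right]
        exact h1
      have hord : orderOf v = 2 := orderOf_eq_prime (by rw [pow_two]; exact hv2)
        fun e => hvA (by rw [e]; exact one_mem A)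
      have hvN : zpowers v ≤ normalizer (U : Set G) := zpowers_le.mpr (hSU hvS)
      have hdis : ∀ w ∈ zpowers v, w ∈ U → w = 1 := by
        intro w hwv hwU
        obtain ⟨k, rfl⟩ := mem_zpowers_iff.mp hwv
        rw [← zpow_mod_orderOf, hord] at hwU ⊢
        simp only [Nat.cast_ofNat] at hwU ⊢
        rcases Int.emod_two_eq_zero_or_one k with e | e <;> rw [e] at hwU ⊢
        · rw [zpow_zero]
        · rw [zpow_one] at hwU
          exact absurd hwU hvU
      set M' := U ⊔ zpowers v with hM'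
      have hM'S : M' ≤ (S : Subgroup G) := sup_le hUS (zpowers_le.mpr hvS)
      have hM'c : Nat.card M' = 32 := by
        rw [hM', card_sup_eq hvN hdis, h16, Nat.card_zpowers, hord]
      have F' : Frame A v M' := ⟨S.2.to_le hM'S, hM'c, hAU.trans le_sup_left, hM'S.trans H.S_le_centralizer,
        mem_sup_right (mem_zpowers v), hv2, hvA, fun m hm => by
          rw [← SetLike.mem_coe, hM', coe_mul_of_right_le_normalizer_left _ _ hvN] at hm
          obtain ⟨u, hu, c, hc, rfl⟩ := hm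
          have hcv : c * v = v * c := by
            obtain ⟨k, rfl⟩ := mem_zpowers_iff.mp hc
            exact ((Commute.refl v).zpow_left k).eq
          have e : delta v (u * c) = delta v u := by
            unfold delta
            rw [show u * c * v * (u * c)⁻¹ * v = u * (c * v) * c⁻¹ * u⁻¹ * v by group, hcv]
            group
          show delta v (u * c) ∈ A
          rw [e]
          exact hd u hu⟩
      refine hsq F' le_sup_left (lt_of_le_of_ne hM'S fun e => hSM ?_)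
      exact (eq_of_le_of_card_ge hMS (by rw [F.card, ← hM'c, e])).symm
    -- the subgroup
    obtain ⟨u₀, hu₀, hu₀A⟩ : ∃ u ∈ U, u ∉ A := SetLike.not_le_iff_exists.mp fun h => by
      have := Nat.le_of_dvd Nat.card_pos (card_dvd_of_le h)
      rw [h16, H.card] at this
      omega
    set t₀ := u₀ * u₀ with ht₀
    have ht₀A : t₀ ∈ A := by rw [ht₀, hyq u₀ hu₀]; exact F.comm u₀ (hUM hu₀)
    have ht₀1 : t₀ ≠ 1 := fun e => hu₀A (H.abelian_sq hb F hUM h16 hab hu₀ e)
    obtain ⟨a₁, ha₁, ha₁1, ha₁t⟩ : ∃ a ∈ A, a ≠ 1 ∧ a ≠ t₀ := by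
      by_contra hcon
      have hsub : (A : Set G) ⊆ {1, t₀} := fun a ha => by
        by_contra hne
        simp only [Set.mem_insert_iff, Set.mem_singleton_iff, not_or] at hne
        exact hcon ⟨a, ha, hne.1, hne.2⟩
      have h1 := Set.ncard_le_ncard hsub (Set.toFinite _)
      have h2 := Set.ncard_insert_le (1 : G) ({t₀} : Set G)
      have h3 : (A : Set G).ncard = 4 := by rw [← Nat.card_coe_set_eq]; exact H.card
      rw [Set.ncard_singleton] at h2
      omega
    let f : (S : Subgroup G) →* A := MonoidHom.mk' (fun p => ⟨(p : G) * u₀ * (p : G)⁻¹ * u₀⁻¹, hSc p.2 _ hu₀⟩)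
      fun p q => Subtype.ext (by
        show (p : G) * q * u₀ * ((p : G) * q)⁻¹ * u₀⁻¹ =
          (p : G) * u₀ * (p : G)⁻¹ * u₀⁻¹ * ((q : G) * u₀ * (q : G)⁻¹ * u₀⁻¹)
        rw [show (p : G) * q * u₀ * ((p : G) * q)⁻¹ * u₀⁻¹ = (p : G) * ((q : G) * u₀ * (q : G)⁻¹ * u₀⁻¹) *
          (p : G)⁻¹ * ((p : G) * u₀ * (p : G)⁻¹ * u₀⁻¹) by group, H.central p.2 (hSc q.2 _ hu₀),
          mul_inv_cancel_right, H.comm (hSc q.2 _ hu₀) (hSc p.2 _ hu₀)])
    set K := (zpowers a₁).subgroupOf A with hK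
    have hfv : ∀ (p : (S : Subgroup G)), (p : G) * p = 1 → (p : G) ∉ A → f p ∉ K := fun p hp hpA h => by
      have h1 : (p : G) * u₀ * (p : G)⁻¹ * u₀⁻¹ = t₀ := by
        rw [show (p : G) * u₀ * (p : G)⁻¹ * u₀⁻¹ = (u₀ * p * u₀⁻¹ * (p : G)⁻¹)⁻¹ by group,
          inv_eq_of_mul_eq_one_right hp, ← delta.eq_def, ← hinvU p.2 hp hpA u₀ hu₀, ← ht₀,
          inv_eq_of_mul_eq_one_right (H.sq ht₀A)]
      have h' : (p : G) * u₀ * (p : G)⁻¹ * u₀⁻¹ ∈ zpowers a₁ := h
      rw [h1] at h'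
      obtain ⟨k, hk⟩ := mem_zpowers_iff.mp h'
      rw [← zpow_mod_orderOf, orderOf_eq_prime (p := 2) (by rw [pow_two]; exact H.sq ha₁) ha₁1] at hk
      simp only [Nat.cast_ofNat] at hk
      rcases Int.emod_two_eq_zero_or_one k with e | e <;> rw [e] at hk
      · exact ht₀1 (by rw [← hk, zpow_zero])
      · exact ha₁t (by rw [← hk, zpow_one])
    have hKi : K.index = 2 := by
      have h := K.card_mul_index
      rw [hK, Nat.card_congr (subgroupOfEquivOfLe (zpowers_le.mpr ha₁)).toEquiv, Nat.card_zpowers,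
        orderOf_eq_prime (p := 2) (by rw [pow_two]; exact H.sq ha₁) ha₁1, H.card] at h
      rw [hK]
      omega
    refine ⟨(K.comap f).map (S : Subgroup G).subtype, map_subtype_le _, ?_, ?_⟩
    · haveI : K.Normal := normal_of_index_eq_two hKi
      rw [relIndex, subgroupOf, comap_map_eq_self_of_injective (subtype_injective _), index_comap]
      have h1 : K.relIndex f.range ∣ 2 := by
        have h := relIndex_dvd_index_of_normal K f.range
        rwa [hKi] at h
      rcases (Nat.dvd_prime Nat.prime_two).mp h1 with e | e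
      · exact absurd (relIndex_eq_one.mp e ⟨⟨y, hyS⟩, rfl⟩) (hfv ⟨y, hyS⟩ F.sq F.ne)
      · exact e
    · rintro _ ⟨p, hp, rfl⟩ hp2
      by_contra hpA
      exact hfv p hp2 hpA hp
  obtain ⟨g, hg, -⟩ := CfsgLib.TransferExtremal.exists_conj hG S Q hQS hQi y (by rw [pow_two]; exact F.sq)
  have hgA : g * y * g⁻¹ ∈ A := hQinv _ hg (by
    rw [show g * y * g⁻¹ * (g * y * g⁻¹) = g * (y * y) * g⁻¹ by group, F.sq, mul_one, mul_inv_cancel])
  have h1 := H.closed.closed.2 _ hgA g⁻¹ (by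
    rw [show g⁻¹ * (g * y * g⁻¹) * g⁻¹⁻¹ = y by group]; exact hyS)
  rw [show g⁻¹ * (g * y * g⁻¹) * g⁻¹⁻¹ = y by group] at h1
  exact F.ne h1

end Ctx4

end CfsgLib.GoldSC
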